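import Mathlib.CategoryTheory.Sites.LocallySurjective
import Mathlib.CategoryTheory.Limits.Preserves.FunctorCategory
import Mathlib.CategoryTheory.Limits.Types.Pullbacks
import Mathlib.CategoryTheory.Limits.Shapes.Pullback.IsPullback.Basic

/-! Generalities on locally surjective maps of presheaves of sets. -/

set_option autoImplicit false

universe u

open CategoryTheory CategoryTheory.Limits Opposite

namespace Groth.Agent.Hyper50

variable {C : Type u} [SmallCategory C]

theorem isLocallySurjective_of_isPullback (J : GrothendieckTopology C) {P A B D : Cᵒᵖ ⥤ Type u}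
    {fst : P ⟶ A} {snd : P ⟶ B} {f : A ⟶ D} {g : B ⟶ D} (h : IsPullback fst snd f g)
    [Presheaf.IsLocallySurjective J g] : Presheaf.IsLocallySurjective J fst where
  imageSieve_mem {U} a := by
    refine J.superset_covering ?_ (Presheaf.imageSieve_mem J g (f.app (op U) a))
    rintro V i ⟨b, hb⟩
    obtain ⟨p, hp, -⟩ := Types.exists_of_isPullback (h.map ((evaluation Cᵒᵖ (Type u)).obj (op V)))
      (A.map i.op a) b ((NatTrans.naturality_apply f i.op a).trans hb.symm)
    exact ⟨p, hp⟩

/-- Finitely many coverings have a common refinement. -/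
theorem iInf_mem_of_finite (J : GrothendieckTopology C) {U : C} {ι : Sort*} [Finite ι]
    (S : ι → Sieve U) (hS : ∀ i, S i ∈ J U) : ∃ T ∈ J U, ∀ i, T ≤ S i := by
  have h : ∀ s : Set (PLift ι), s.Finite → ∃ T ∈ J U, ∀ i ∈ s, T ≤ S i.down := by
    intro s hs
    induction s, hs using Set.Finite.induction_on with
    | empty => exact ⟨⊤, J.top_mem U, fun i hi => absurd hi (Set.notMem_empty i)⟩
    | @insert i s _ _ ih =>
      obtain ⟨T, hT, hle⟩ := ih
      refine ⟨S i.down ⊓ T, J.intersection_covering (hS _) hT, fun j hj => ?_⟩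
      rcases Set.mem_insert_iff.1 hj with rfl | hj
      · exact inf_le_left
      · exact inf_le_right.trans (hle j hj)
  obtain ⟨T, hT, hle⟩ := h Set.univ Set.finite_univ
  exact ⟨T, hT, fun i => hle ⟨i⟩ trivial⟩

end Groth.Agent.Hyper50
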