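import Groth.Prelude.Def_Hyper
import Mathlib.CategoryTheory.Limits.Types.Coproducts
import Mathlib.CategoryTheory.Limits.Preserves.FunctorCategory
import Mathlib.CategoryTheory.Limits.Yoneda

/-! Sections of formal coproducts of representables. -/

set_option autoImplicit false

universe u

open CategoryTheory CategoryTheory.Limits Opposite

namespace Groth.Agent.Hyper50

variable {C : Type u} [SmallCategory C]

/-- Explicit presheaf of sets attached to a formal coproduct. -/
@[simps]
def Pts : FormalCoproduct.{u} C ⥤ Cᵒᵖ ⥤ Type u where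
  obj L :=
    { obj := fun T => Σ j : L.I, (T.unop ⟶ L.obj j)
      map := fun g => ↾fun x => ⟨x.1, g.unop ≫ x.2⟩
      map_id := fun T => by ext ⟨j, x⟩ <;> simp
      map_comp := fun g h => by ext ⟨j, x⟩ <;> simp }
  map f := { app := fun T => ↾fun x => ⟨f.f x.1, x.2 ≫ f.φ x.1⟩
             naturality := fun T T' g => by ext ⟨j, x⟩ <;> simp }
  map_id L := by ext T ⟨j, x⟩ <;> simp
  map_comp f g := by ext T ⟨j, x⟩ <;> simp

noncomputable def toPts (L : FormalCoproduct.{u} C) : FormalCoproduct.yoneda.obj L ⟶ Pts.obj L :=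
  Sigma.desc fun j => { app := fun T => ↾fun x => ⟨j, x⟩ }

theorem toPts_ι (L : FormalCoproduct.{u} C) (j : L.I) (T : Cᵒᵖ) (x : T.unop ⟶ L.obj j) :
    (toPts L).app T ((Sigma.ι (fun i => yoneda.obj (L.obj i)) j).app T x) = ⟨j, x⟩ :=
  ConcreteCategory.congr_hom (NatTrans.congr_app (Sigma.ι_desc
    (f := fun i : L.I => yoneda.obj (L.obj i))
    (fun j => ({ app := fun T => ↾fun x => ⟨j, x⟩ } : yoneda.obj (L.obj j) ⟶ Pts.obj L)) j) T) x

theorem toPts_bijective (L : FormalCoproduct.{u} C) (T : Cᵒᵖ) :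
    Function.Bijective ((toPts L).app T) := by
  let f := fun i : L.I => yoneda.obj (L.obj i)
  have hc := isColimitCofanMkObjOfIsColimit ((evaluation Cᵒᵖ (Type u)).obj T) f
    (fun i => Sigma.ι f i) (coproductIsCoproduct f)
  have hb := (Cofan.nonempty_isColimit_iff_bijective_fromSigma _).1 ⟨hc⟩
  have key : ∀ a : Σ j, (f j).obj T, (toPts L).app T ((CofanTypes.fromSigma _
      (Cofan.mk (((evaluation Cᵒᵖ (Type u)).obj T).obj (∐ f))
        fun j => ((evaluation Cᵒᵖ (Type u)).obj T).map (Sigma.ι f j)).cofanTypes) a) = a :=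
    fun a => toPts_ι L a.1 T a.2
  refine ⟨fun a b h => ?_, fun y => ⟨_, key y⟩⟩
  obtain ⟨a, rfl⟩ := hb.2 a
  obtain ⟨b, rfl⟩ := hb.2 b
  exact congrArg _ ((key a).symm.trans (h.trans (key b)))

/-- The coproduct of representables is given by pairs of an index and a morphism. -/
noncomputable def yonedaIsoPts : FormalCoproduct.yoneda ≅ Pts (C := C) :=
  NatIso.ofComponents
    (fun L => @asIso _ _ _ _ (toPts L)
      (@NatIso.isIso_of_isIso_app _ _ _ _ _ _ (toPts L) fun T =>
        (isIso_iff_bijective _).2 (toPts_bijective L T)))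
    (fun {L L'} f => Sigma.hom_ext _ _ fun j => by
      simp only [asIso_hom]
      simp only [FormalCoproduct.eval_obj_map]
      erw [Sigma.ι_desc_assoc]
      ext T x
      change (toPts L').app T ((Sigma.ι (fun i => yoneda.obj (L'.obj i)) (f.f j)).app T
        ((yoneda.map (f.φ j)).app T x)) = (Pts.map f).app T ((toPts L).app T
          ((Sigma.ι (fun i => yoneda.obj (L.obj i)) j).app T x))
      rw [toPts_ι, toPts_ι]
      rfl)

/-- `Pts` is the restriction of the Yoneda embedding of formal coproducts. -/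
def ptsFlipIso (T : Cᵒᵖ) :
    Pts ⋙ (evaluation Cᵒᵖ (Type u)).obj T ≅ coyoneda.obj (op ((FormalCoproduct.incl C).obj T.unop)) :=
  NatIso.ofComponents (fun L => (FormalCoproduct.inclHomEquiv T.unop L).symm.toIso)
    (fun f => by
      ext ⟨j, x⟩
      exact FormalCoproduct.hom_ext rfl fun _ => Category.comp_id _)

instance ptsPreservesLimits : PreservesLimitsOfSize.{u, u} (Pts (C := C)) :=
  preservesLimits_of_evaluation _ fun T => preservesLimits_of_natIso (ptsFlipIso T).symm

/-- Covering morphisms of formal coproducts are the locally surjective ones. -/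
theorem isSRCovering_iff (J : GrothendieckTopology C) {K L : FormalCoproduct.{u} C} (f : K ⟶ L) :
    Hyper.IsSRCovering J f ↔ Presheaf.IsLocallySurjective J (Pts.map f) := by
  have key : ∀ j : L.I, Sieve.ofArrows (fun i : {i : K.I // f.f i = j} => K.obj i.1)
      (fun i => f.φ i.1 ≫ eqToHom (congrArg L.obj i.2)) =
      Presheaf.imageSieve (Pts.map f) (U := L.obj j) (⟨j, 𝟙 _⟩ : (Pts.obj L).obj (op (L.obj j))) := by
    intro j
    ext V g
    rw [Sieve.mem_ofArrows_iff]
    constructor
    · rintro ⟨⟨i, rfl⟩, a, rfl⟩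
      exact ⟨⟨i, a⟩, Sigma.ext rfl (heq_of_eq (show a ≫ f.φ i = (a ≫ f.φ i ≫ 𝟙 _) ≫ 𝟙 _ by simp))⟩
    · rintro ⟨⟨i, a⟩, h⟩
      obtain rfl : f.f i = j := congrArg Sigma.fst h
      have h' : a ≫ f.φ i = g ≫ 𝟙 _ := eq_of_heq (Sigma.ext_iff.1 h).2
      exact ⟨⟨i, rfl⟩, a, by simpa using h'.symm⟩
  refine ⟨fun h => ⟨fun {U} s => ?_⟩, fun h j => ?_⟩
  · obtain ⟨j, g⟩ := s
    have := J.pullback_stable g (key j ▸ h j)
    rw [Presheaf.pullback_imageSieve] at this
    rw [show (Pts.obj L).map g.op (⟨j, 𝟙 _⟩ : (Pts.obj L).obj (op (L.obj j))) = ⟨j, g⟩ from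
      Sigma.ext rfl (heq_of_eq (Category.comp_id g))] at this
    exact this
  · rw [key]
    exact Presheaf.imageSieve_mem J _ _

theorem isSRCovering_iff_yoneda (J : GrothendieckTopology C) {K L : FormalCoproduct.{u} C} (f : K ⟶ L) :
    Hyper.IsSRCovering J f ↔ Presheaf.IsLocallySurjective J (FormalCoproduct.yoneda.map f) := by
  rw [isSRCovering_iff]
  have e := yonedaIsoPts.hom.naturality f
  constructor <;> intro h
  · rw [show FormalCoproduct.yoneda.map f = yonedaIsoPts.hom.app K ≫ Pts.map f ≫ yonedaIsoPts.inv.app L by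
      rw [← reassoc_of% e]; simp]
    infer_instance
  · rw [show Pts.map f = yonedaIsoPts.inv.app K ≫ FormalCoproduct.yoneda.map f ≫ yonedaIsoPts.hom.app L by
      rw [e]; simp]
    infer_instance

end Groth.Agent.Hyper50
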