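import Groth.Agent.SiteCoh.Free
import Groth.Prelude.Def_CohSite

/-! Sections of a short exact sequence of abelian sheaves. -/

set_option autoImplicit false

universe u

open CategoryTheory CategoryTheory.Limits Opposite CategoryTheory.Abelian

namespace Groth.Agent.Hyper50

open Groth.Agent.SiteCoh

variable {C : Type u} [SmallCategory C] {J : GrothendieckTopology C}
  {S : ShortComplex (Sheaf J AddCommGrpCat.{u})}

theorem sec_injective (hS : S.ShortExact) (U : C) : Function.Injective (S.f.hom.app (op U)) := by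
  intro a b h
  have := hS.mono_f
  apply (homAddEquivSec U S.X₁).symm.injective
  rw [← cancel_mono S.f, homAddEquivSec_symm_comp, homAddEquivSec_symm_comp, h]

theorem sec_exact (hS : S.ShortExact) (U : C) {b : S.X₂.obj.obj (op U)}
    (hb : S.g.hom.app (op U) b = 0) : ∃ a, S.f.hom.app (op U) a = b := by
  have := hS.mono_f
  have h0 : (homAddEquivSec U S.X₂).symm b ≫ S.g = 0 := by
    rw [homAddEquivSec_symm_comp, hb, map_zero]
  refine ⟨homAddEquivSec U S.X₁ (hS.exact.lift _ h0), ?_⟩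
  rw [← homAddEquivSec_comp, hS.exact.lift_f, AddEquiv.apply_symm_apply]

theorem sec_surjective (hS : S.ShortExact) (U : C)
    [Subsingleton (Ext.{u} (CohCx.freeSheaf J U) S.X₁ 1)] :
    Function.Surjective (S.g.hom.app (op U)) := by
  intro s
  obtain ⟨x, hx⟩ := Ext.covariant_sequence_exact₃ (CohCx.freeSheaf J U) hS
    ((hu0Equiv S.X₃ U).symm s) (zero_add 1) (Subsingleton.elim _ _)
  obtain ⟨t, rfl⟩ := (hu0Equiv S.X₂ U).symm.surjective x
  rw [hu0Equiv_symm_comp_mk₀] at hx
  exact ⟨t, (hu0Equiv S.X₃ U).symm.injective hx⟩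

theorem ext_subsingleton_X₃ (hS : S.ShortExact) (X : Sheaf J AddCommGrpCat.{u}) (n : ℕ)
    [Subsingleton (Ext.{u} X S.X₂ n)] [Subsingleton (Ext.{u} X S.X₁ (n + 1))] :
    Subsingleton (Ext.{u} X S.X₃ n) := by
  refine ⟨fun a b => ?_⟩
  have key : ∀ z : Ext.{u} X S.X₃ n, z = 0 := fun z => by
    obtain ⟨x, rfl⟩ := Ext.covariant_sequence_exact₃ X hS z rfl (Subsingleton.elim _ _)
    rw [Subsingleton.elim x 0, Ext.zero_comp]
  rw [key a, key b]

theorem ext_subsingleton_X₁ (hS : S.ShortExact) (X : Sheaf J AddCommGrpCat.{u}) (n : ℕ)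
    [Subsingleton (Ext.{u} X S.X₂ (n + 1))] [Subsingleton (Ext.{u} X S.X₃ n)] :
    Subsingleton (Ext.{u} X S.X₁ (n + 1)) := by
  refine ⟨fun a b => ?_⟩
  have key : ∀ z : Ext.{u} X S.X₁ (n + 1), z = 0 := fun z => by
    obtain ⟨x, rfl⟩ := exists_comp_extClass hS X n z
    rw [Subsingleton.elim x 0, Ext.zero_comp]
  rw [key a, key b]

end Groth.Agent.Hyper50
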