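import Groth.Prelude.Def_Hyper2
import Groth.Agent.Fib44.HyperCosimp
import Mathlib.Algebra.Homology.HomologicalComplexAbelian
import Mathlib.Algebra.Homology.HomologySequence
import Mathlib.Algebra.Homology.ShortComplex.Ab

/-! Čech complexes of a short exact sequence of presheaves. -/

set_option autoImplicit false

universe u

open CategoryTheory CategoryTheory.Limits Opposite Simplicial

namespace Groth.Agent.Hyper50

variable {C : Type u} [SmallCategory C] (X : C)

/-- The Čech complex as a functor of the presheaf. -/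
noncomputable abbrev cechFun (K : SimplicialObject (FormalCoproduct.{u} (Over X))) :
    (Cᵒᵖ ⥤ AddCommGrpCat.{u}) ⥤ CochainComplex AddCommGrpCat.{u} ℕ :=
  (Functor.whiskeringLeft (Over X)ᵒᵖ Cᵒᵖ AddCommGrpCat.{u}).obj (Over.forget X).op ⋙
    FormalCoproduct.cochainComplexFunctor K

theorem cechFun_map_π (K : SimplicialObject (FormalCoproduct.{u} (Over X))) {P Q : Cᵒᵖ ⥤ AddCommGrpCat.{u}}
    (α : P ⟶ Q) (n : ℕ) (i : (K.obj (op ⦋n⦌)).I)
    (x : (∏ᶜ fun i : (K.obj (op ⦋n⦌)).I => P.obj (op ((K.obj (op ⦋n⦌)).obj i).left) : AddCommGrpCat.{u})) :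
    Pi.π (fun i : (K.obj (op ⦋n⦌)).I => Q.obj (op ((K.obj (op ⦋n⦌)).obj i).left)) i
      (((cechFun X K).map α).f n x) =
    α.app (op ((K.obj (op ⦋n⦌)).obj i).left)
      (Pi.π (fun i : (K.obj (op ⦋n⦌)).I => P.obj (op ((K.obj (op ⦋n⦌)).obj i).left)) i x) :=
  ConcreteCategory.congr_hom (Limits.Pi.map_π
    (fun i : (K.obj (op ⦋n⦌)).I => α.app (op ((K.obj (op ⦋n⦌)).obj i).left)) i) x

theorem cech_ext (K : SimplicialObject (FormalCoproduct.{u} (Over X))) {P : Cᵒᵖ ⥤ AddCommGrpCat.{u}} (n : ℕ)
    {x y : (∏ᶜ fun i : (K.obj (op ⦋n⦌)).I => P.obj (op ((K.obj (op ⦋n⦌)).obj i).left) : AddCommGrpCat.{u})}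
    (h : ∀ i, Pi.π (fun i : (K.obj (op ⦋n⦌)).I => P.obj (op ((K.obj (op ⦋n⦌)).obj i).left)) i x =
      Pi.π (fun i : (K.obj (op ⦋n⦌)).I => P.obj (op ((K.obj (op ⦋n⦌)).obj i).left)) i y) : x = y :=
  Fib44.HyperCosimp.pi_ext h

/-- Exactness of sections of a sequence of presheaves on every object. -/
structure SecSES (S : ShortComplex (Cᵒᵖ ⥤ AddCommGrpCat.{u})) : Prop where
  inj : ∀ U : C, Function.Injective (S.f.app (op U))
  exact : ∀ (U : C) (b : S.X₂.obj (op U)), S.g.app (op U) b = 0 → ∃ a, S.f.app (op U) a = b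
  surj : ∀ U : C, Function.Surjective (S.g.app (op U))

variable (K : SimplicialObject (FormalCoproduct.{u} (Over X))) {S : ShortComplex (Cᵒᵖ ⥤ AddCommGrpCat.{u})}

/-- The sequence of Čech complexes. -/
noncomputable def cechSC (S : ShortComplex (Cᵒᵖ ⥤ AddCommGrpCat.{u})) :
    ShortComplex (CochainComplex AddCommGrpCat.{u} ℕ) :=
  ShortComplex.mk ((cechFun X K).map S.f) ((cechFun X K).map S.g) (by
    ext n x
    refine cech_ext X K (P := S.X₃) n fun i => ?_
    refine (cechFun_map_π X K S.g n i _).trans ?_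
    refine (congrArg _ (cechFun_map_π X K S.f n i x)).trans ?_
    refine (ConcreteCategory.congr_hom (NatTrans.congr_app S.zero (op ((K.obj (op ⦋n⦌)).obj i).left)) _).trans ?_
    exact (map_zero _).symm)

theorem cechSC_shortExact (hS : SecSES S) : (cechSC X K S).ShortExact := by
  refine HomologicalComplex.shortExact_of_degreewise_shortExact _ fun n => ?_
  let L := K.obj (op ⦋n⦌)
  have hinj : Function.Injective (((cechFun X K).map S.f).f n) := fun a b h =>
    cech_ext X K (P := S.X₁) n fun i => hS.inj _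
      ((cechFun_map_π X K S.f n i a).symm.trans ((congrArg _ h).trans (cechFun_map_π X K S.f n i b)))
  have hsurj : Function.Surjective (((cechFun X K).map S.g).f n) := fun y => by
    choose a ha using fun i : L.I => hS.surj (L.obj i).left
      (Pi.π (fun i : L.I => S.X₃.obj (op (L.obj i).left)) i y)
    refine ⟨Fib44.HyperCosimp.piEquiv.symm a, cech_ext X K (P := S.X₃) n fun i => ?_⟩
    refine (cechFun_map_π X K S.g n i _).trans ((congrArg _ ?_).trans (ha i))
    exact Fib44.HyperCosimp.π_piEquiv_symm a i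
  exact
    { exact := by
        rw [ShortComplex.ab_exact_iff]
        intro x hx
        choose a ha using fun i : L.I => hS.exact (L.obj i).left
          (Pi.π (fun i : L.I => S.X₂.obj (op (L.obj i).left)) i x)
          ((cechFun_map_π X K S.g n i x).symm.trans ((congrArg _ hx).trans (map_zero _)))
        refine ⟨Fib44.HyperCosimp.piEquiv.symm a, cech_ext X K (P := S.X₂) n fun i => ?_⟩
        refine (cechFun_map_π X K S.f n i _).trans ((congrArg _ ?_).trans (ha i))
        exact Fib44.HyperCosimp.π_piEquiv_symm a i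
      mono_f := (AddCommGrpCat.mono_iff_injective _).2 hinj
      epi_g := (AddCommGrpCat.epi_iff_surjective _).2 hsurj }

/-- The Čech complexes are natural in both variables. -/
theorem cechMap_naturality {L : SimplicialObject (FormalCoproduct.{u} (Over X))} (f : L ⟶ K)
    {P Q : Cᵒᵖ ⥤ AddCommGrpCat.{u}} (α : P ⟶ Q) :
    Hyper.cechMap X f P ≫ (cechFun X L).map α = (cechFun X K).map α ≫ Hyper.cechMap X f Q := by
  show _ ≫ (AlgebraicTopology.alternatingCofaceMapComplex AddCommGrpCat.{u}).map _ =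
    (AlgebraicTopology.alternatingCofaceMapComplex AddCommGrpCat.{u}).map _ ≫ _
  rw [Hyper.cechMap, Hyper.cechMap, ← Functor.map_comp, ← Functor.map_comp]
  exact congrArg _ (((Functor.whiskeringLeft _ _ _).map (NatTrans.rightOp f)).naturality _).symm

/-- Refinement maps of the sequences of Čech complexes. -/
noncomputable def cechSCMap {L : SimplicialObject (FormalCoproduct.{u} (Over X))} (f : L ⟶ K)
    (S : ShortComplex (Cᵒᵖ ⥤ AddCommGrpCat.{u})) : cechSC X K S ⟶ cechSC X L S :=
  ShortComplex.homMk (Hyper.cechMap X f S.X₁) (Hyper.cechMap X f S.X₂) (Hyper.cechMap X f S.X₃)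
    (cechMap_naturality X K f S.f) (cechMap_naturality X K f S.g)

theorem cechHMap_naturality {L : SimplicialObject (FormalCoproduct.{u} (Over X))} (f : L ⟶ K)
    {P Q : Cᵒᵖ ⥤ AddCommGrpCat.{u}} (α : P ⟶ Q) (q : ℕ) (x : Hyper.cechH X K P q) :
    Hyper.cechHMap X f Q q (HomologicalComplex.homologyMap ((cechFun X K).map α) q x) =
      HomologicalComplex.homologyMap ((cechFun X L).map α) q (Hyper.cechHMap X f P q x) := by
  show HomologicalComplex.homologyMap (Hyper.cechMap X f Q) q _ =
    HomologicalComplex.homologyMap ((cechFun X L).map α) q (HomologicalComplex.homologyMap (Hyper.cechMap X f P) q x)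
  rw [← ConcreteCategory.comp_apply, ← ConcreteCategory.comp_apply, ← HomologicalComplex.homologyMap_comp,
    ← HomologicalComplex.homologyMap_comp, cechMap_naturality X K f α]

theorem cechHMap_δ {L : SimplicialObject (FormalCoproduct.{u} (Over X))} (f : L ⟶ K) (hS : SecSES S)
    (q : ℕ) (x : Hyper.cechH X K S.X₃ q) :
    Hyper.cechHMap X f S.X₁ (q + 1) ((cechSC_shortExact X K hS).δ q (q + 1) rfl x) =
      (cechSC_shortExact X L hS).δ q (q + 1) rfl (Hyper.cechHMap X f S.X₃ q x) :=
  ConcreteCategory.congr_hom (HomologicalComplex.HomologySequence.δ_naturality (cechSCMap X K f S)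
    (cechSC_shortExact X K hS) (cechSC_shortExact X L hS) q (q + 1) rfl) x

end Groth.Agent.Hyper50
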