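import Mathlib.CategoryTheory.Limits.FormalCoproducts.Basic
import Mathlib.CategoryTheory.Limits.Constructions.FiniteProductsOfBinaryProducts
import Mathlib.CategoryTheory.Limits.Constructions.LimitsOfProductsAndEqualizers
import Mathlib.CategoryTheory.Limits.Constructions.Equalizers
import Mathlib.CategoryTheory.Functor.KanExtension.Pointwise
import Mathlib.AlgebraicTopology.SimplicialObject.Basic
import Groth.Agent.S6800

/-! Non-empty finite limits in formal coproducts. -/

set_option autoImplicit false

universe w v u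

open CategoryTheory CategoryTheory.Limits Opposite

namespace Groth.Agent.Hyper50

section
variable {D : Type u} [Category.{v} D]

theorem hasProduct_of_nonempty [HasBinaryProducts D] {ι : Type*} [Finite ι] [Nonempty ι]
    (f : ι → D) : HasProduct f := by
  obtain ⟨n, ⟨e⟩⟩ := Finite.exists_equiv_fin ι
  obtain _ | m := n
  · exact (e (Classical.arbitrary ι)).elim0
  have key : ∀ (m : ℕ) (g : Fin (m + 1) → D), HasProduct g := by
    intro m
    induction m with
    | zero =>
      intro g
      have hs : ∀ i : Fin (0 + 1), i = 0 := fun i => Fin.ext (by omega)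
      exact HasLimit.mk ⟨Fan.mk (g 0) (fun i => eqToHom (by rw [hs i])),
        mkFanLimit _ (fun l => l.proj 0) (fun l i => by obtain rfl := hs i; simp)
          (fun l t h => by simpa using h 0)⟩
    | succ m ih =>
      intro g
      have := ih fun i => g i.succ
      exact HasLimit.mk ⟨extendFan (Fan.mk _ (Pi.π fun i : Fin (m + 1) => g i.succ))
        (limit.cone (pair (g 0) (∏ᶜ fun i : Fin (m + 1) => g i.succ))),
        extendFanIsLimit g (c₁ := Fan.mk _ (Pi.π fun i : Fin (m + 1) => g i.succ))
          (productIsProduct _) (limit.isLimit _)⟩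
  have := key m (f ∘ e.symm)
  have : HasLimit ((Discrete.equivalence e.symm).functor ⋙ Discrete.functor f) :=
    hasLimit_of_iso (F := Discrete.functor (f ∘ e.symm)) (Discrete.natIso fun i => Iso.refl _)
  exact hasLimit_of_equivalence_comp (Discrete.equivalence e.symm)

theorem hasLimit_of_nonempty_finite [HasBinaryProducts D] [HasEqualizers D] {J : Type}
    [SmallCategory J] [FinCategory J] [Nonempty J] (F : J ⥤ D) : HasLimit F := by
  have h1 := hasProduct_of_nonempty F.obj
  have : Nonempty (Σ p : J × J, p.1 ⟶ p.2) :=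
    ⟨⟨⟨Classical.arbitrary J, Classical.arbitrary J⟩, 𝟙 _⟩⟩
  have h2 := hasProduct_of_nonempty fun f : Σ p : J × J, p.1 ⟶ p.2 => F.obj f.1.2
  exact hasLimit_of_equalizer_and_product F

theorem hasPointwiseRightKanExtension_trunc [HasBinaryProducts D] [HasEqualizers D] (m : ℕ)
    (U : (SimplexCategory.Truncated m)ᵒᵖ ⥤ D) :
    (SimplexCategory.Truncated.inclusion m).op.HasPointwiseRightKanExtension U := by
  intro Y
  let _ : FinCategory (StructuredArrow Y (SimplexCategory.Truncated.inclusion m).op) :=
    { fintypeObj := by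
        have : Finite (StructuredArrow Y (SimplexCategory.Truncated.inclusion m).op) := by
          refine Finite.of_injective (β := Σ j : (SimplexCategory.Truncated m)ᵒᵖ,
            (Y ⟶ (SimplexCategory.Truncated.inclusion m).op.obj j)) (fun A => ⟨A.right, A.hom⟩) ?_
          intro A B h
          obtain ⟨h1, h2⟩ := Sigma.mk.inj_iff.1 h
          obtain ⟨⟨⟨⟩⟩, r, f⟩ := A; obtain ⟨⟨⟨⟩⟩, r', f'⟩ := B; cases h1; cases h2; rfl
        exact Fintype.ofFinite _
      fintypeHom := fun A B => by
        have : Finite (A ⟶ B) :=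
          Finite.of_injective (fun f => f.right) fun f g h => by ext; exact h
        exact Fintype.ofFinite _ }
  have : Nonempty (StructuredArrow Y (SimplexCategory.Truncated.inclusion m).op) :=
    ⟨StructuredArrow.mk (show Y ⟶ (SimplexCategory.Truncated.inclusion m).op.obj
      (op ⟨SimplexCategory.mk 0, Nat.zero_le m⟩) from
      (SimplexCategory.const (SimplexCategory.mk 0) Y.unop 0).op)⟩
  exact hasLimit_of_nonempty_finite _

end

section
variable {C : Type u} [Category.{v} C]

instance formalCoproductHasBinaryProducts [HasBinaryProducts C] :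
    HasBinaryProducts (FormalCoproduct.{w} C) := by
  have : ∀ X Y : FormalCoproduct.{w} C, HasLimit (pair X Y) := fun X Y =>
    HasLimit.mk ⟨BinaryFan.mk
      (P := (⟨X.I × Y.I, fun p => X.obj p.1 ⨯ Y.obj p.2⟩ : FormalCoproduct.{w} C))
      ⟨fun p => p.1, fun p => prod.fst⟩ ⟨fun p => p.2, fun p => prod.snd⟩,
      BinaryFan.IsLimit.mk _ (fun l r => ⟨fun i => (l.f i, r.f i), fun i => prod.lift (l.φ i) (r.φ i)⟩)
        (fun l r => FormalCoproduct.hom_ext rfl fun i => (Category.comp_id _).trans (prod.lift_fst _ _))
        (fun l r => FormalCoproduct.hom_ext rfl fun i => (Category.comp_id _).trans (prod.lift_snd _ _))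
        (fun l r m h1 h2 => by
          subst h1 h2
          refine FormalCoproduct.hom_ext rfl fun i => ?_
          simp only [eqToHom_refl, Category.comp_id]
          apply prod.hom_ext
          · exact (prod.lift_fst _ _).symm
          · exact (prod.lift_snd _ _).symm)⟩
  exact hasBinaryProducts_of_hasLimit_pair _

instance formalCoproductHasEqualizers [HasEqualizers C] :
    HasEqualizers (FormalCoproduct.{w} C) := by
  have : ∀ {X Y : FormalCoproduct.{w} C} (f g : X ⟶ Y), HasLimit (parallelPair f g) := by
    intro X Y f g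
    let E : FormalCoproduct.{w} C :=
      ⟨{i : X.I // f.f i = g.f i}, fun i => equalizer (f.φ i.1 ≫ eqToHom (by rw [i.2])) (g.φ i.1)⟩
    let ι : E ⟶ X := ⟨fun i => i.1, fun i => equalizer.ι _ _⟩
    have hι : ι ≫ f = ι ≫ g := FormalCoproduct.hom_ext (funext fun i => i.2) fun i => by
      simpa [ι] using equalizer.condition (f.φ i.1 ≫ eqToHom (by rw [i.2])) (g.φ i.1)
    refine HasLimit.mk ⟨Fork.ofι ι hι, Fork.IsLimit.mk' _ fun s => ?_⟩
    have hf := ((FormalCoproduct.hom_ext_iff _ _).1 s.condition).choose
    have hφ := ((FormalCoproduct.hom_ext_iff _ _).1 s.condition).choose_spec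
    refine ⟨⟨fun i => ⟨s.ι.f i, congrFun hf i⟩, fun i => equalizer.lift (s.ι.φ i)
      (by simpa using hφ i)⟩, FormalCoproduct.hom_ext rfl fun i => by simp [ι], fun {m} hm => ?_⟩
    have hm' : m ≫ ι = s.ι := hm
    obtain ⟨h1, h2⟩ := (FormalCoproduct.hom_ext_iff _ _).1 hm'
    have h1' : m.f = fun i => ⟨s.ι.f i, congrFun hf i⟩ :=
      funext fun i => Subtype.ext (congrFun h1 i)
    obtain ⟨mf, mφ⟩ := m
    subst h1'
    refine FormalCoproduct.hom_ext rfl fun i => ?_
    simp only [eqToHom_refl, Category.comp_id]
    exact equalizer.hom_ext (by simpa [ι] using h2 i)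
  exact hasEqualizers_of_hasLimit_parallelPair _

instance formalCoproductHasFiniteLimits [HasPullbacks C] [HasTerminal C] :
    HasFiniteLimits (FormalCoproduct.{w} C) :=
  hasFiniteLimits_of_hasTerminal_and_pullbacks

end

end Groth.Agent.Hyper50
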