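import Groth.Agent.Hyper50.Bridge
import Groth.Agent.Hyper50.FCLim
import Mathlib.CategoryTheory.Limits.Constructions.Over.Basic

/-! The two notions of hypercovering are the local filling condition. -/

set_option autoImplicit false
set_option linter.unusedSectionVars false

universe u

open CategoryTheory CategoryTheory.Limits Opposite Simplicial

namespace Groth.Agent.Hyper50

variable {C : Type u} [SmallCategory C] (J : GrothendieckTopology C)

section over

variable [HasPullbacks C] (X : C)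

instance overBinaryProducts : HasBinaryProducts (Over X) :=
  hasBinaryProducts_of_hasTerminal_and_pullbacks _

theorem zero_iff (K : SimplicialObject (FormalCoproduct.{u} (Over X))) :
    Sieve.ofArrows (fun i => ((K.obj (op ⦋0⦌)).obj i).left)
      (fun i => ((K.obj (op ⦋0⦌)).obj i).hom) ∈ J X ↔
    ∀ U : Over X, ∃ R ∈ (J.over X) U, ∀ ⦃V : Over X⦄ (g : V ⟶ U), R g →
      Nonempty ((ev (pts K) V).obj (op ⦋0⦌)) := by
  constructor
  · intro h U
    refine ⟨(Sieve.overEquiv U).symm (Sieve.pullback U.hom (Sieve.ofArrows _ _)),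
      J.overEquiv_symm_mem_over _ _ (J.pullback_stable U.hom h), fun V g hg => ?_⟩
    rw [Sieve.overEquiv_symm_iff, Sieve.pullback_apply, Sieve.mem_ofArrows_iff] at hg
    obtain ⟨i, a, ha⟩ := hg
    exact ⟨⟨i, Over.homMk a (ha.symm.trans (Over.w g))⟩⟩
  · intro h
    obtain ⟨R, hR, hne⟩ := h (Over.mk (𝟙 X))
    refine J.superset_covering (fun W w hw => ?_) ((J.mem_over_iff R).1 hR)
    change W ⟶ X at w
    rw [Sieve.overEquiv_iff] at hw
    obtain ⟨⟨i, a⟩⟩ := hne _ hw
    rw [Sieve.mem_ofArrows_iff]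
    exact ⟨i, a.left, (Category.comp_id w).symm.trans (Over.w a).symm⟩

variable [∀ (n : ℕ) (F : (SimplexCategory.Truncated n)ᵒᵖ ⥤ FormalCoproduct.{u} (Over X)),
  (SimplexCategory.Truncated.inclusion n).op.HasRightKanExtension F]

theorem isHypercovering_iff (K : SimplicialObject (FormalCoproduct.{u} (Over X))) :
    Hyper.IsHypercovering J X K ↔ IsHyp (J.over X) (pts K) := by
  have := fun (n : ℕ) => hasPointwiseRightKanExtension_trunc (D := FormalCoproduct.{u} (Over X)) n
  constructor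
  · rintro ⟨h0, hn⟩
    exact ⟨(zero_iff J X K).1 h0, fun n =>
      (fill_iff (J.over X) n K).1 ((isSRCovering_iff _ _).1 (hn n))⟩
  · rintro ⟨h0, hn⟩
    exact ⟨(zero_iff J X K).2 h0, fun n =>
      (isSRCovering_iff _ _).2 ((fill_iff (J.over X) n K).2 (hn n))⟩

end over

section site

variable [HasEqualizers C] [HasBinaryProducts C]

theorem bijective_terminal {U : C} :
    Subsingleton ((⊤_ (Cᵒᵖ ⥤ Type u)).obj (op U)) ∧ Nonempty ((⊤_ (Cᵒᵖ ⥤ Type u)).obj (op U)) := by
  have h := Types.isTerminalEquivUnique _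
    (IsTerminal.isTerminalObj ((evaluation Cᵒᵖ (Type u)).obj (op U)) _ terminalIsTerminal)
  exact ⟨@Unique.instSubsingleton _ h, ⟨h.default⟩⟩

theorem bijective_prod (F G : Cᵒᵖ ⥤ Type u) (T : Cᵒᵖ) : Function.Bijective
    fun p : (F ⨯ G).obj T => ((prod.fst : F ⨯ G ⟶ F).app T p, (prod.snd : F ⨯ G ⟶ G).app T p) := by
  have h := mapIsLimitOfPreservesOfIsLimit ((evaluation Cᵒᵖ (Type u)).obj T)
    (prod.fst : F ⨯ G ⟶ F) prod.snd (prodIsProd F G)
  let e := h.conePointUniqueUpToIso (Types.binaryProductLimit (F.obj T) (G.obj T))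
  refine Function.Bijective.of_comp_iff' (f := id) Function.bijective_id _ |>.1 ?_
  have : (fun p : (F ⨯ G).obj T =>
      ((prod.fst : F ⨯ G ⟶ F).app T p, (prod.snd : F ⨯ G ⟶ G).app T p)) = e.toEquiv := by
    funext p
    refine Prod.ext ?_ ?_
    · exact (ConcreteCategory.congr_hom (h.conePointUniqueUpToIso_hom_comp
        (Types.binaryProductLimit (F.obj T) (G.obj T)) ⟨WalkingPair.left⟩) p).symm
    · exact (ConcreteCategory.congr_hom (h.conePointUniqueUpToIso_hom_comp
        (Types.binaryProductLimit (F.obj T) (G.obj T)) ⟨WalkingPair.right⟩) p).symm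
  rw [Function.id_comp, this]
  exact e.toEquiv.bijective

variable [∀ (n : ℕ) (F : (SimplexCategory.Truncated n)ᵒᵖ ⥤ FormalCoproduct.{u} C),
  (SimplexCategory.Truncated.inclusion n).op.HasRightKanExtension F]

theorem fill_zero_iff (K : SimplicialObject (FormalCoproduct.{u} C)) :
    Presheaf.IsLocallySurjective J
      (prod.lift ((pts K).δ (1 : Fin 2)) ((pts K).δ (0 : Fin 2))) ↔
    ∀ (U : C) (a : Fam (ev (pts K) U) 0 1), ∃ R ∈ J U, ∀ ⦃V : C⦄ (g : V ⟶ U), R g →
        ∃ y : (ev (pts K) V).obj (op ⦋1⦌), Fam.ofSimplex y = a.map (res (pts K) g) := by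
  let j0 : SimplexCategory.Truncated 0 := ⟨⦋0⦌, le_rfl⟩
  have ext0 : ∀ {S : SSet.{u}} (a b : Fam S 0 1), a.val j0 (SimplexCategory.δ 1) = b.val j0 (SimplexCategory.δ 1) →
      a.val j0 (SimplexCategory.δ 0) = b.val j0 (SimplexCategory.δ 0) → a = b := by
    intro S a b h1 h0
    refine Fam.ext' fun ⟨j, hj⟩ f => ?_
    obtain rfl : j = ⦋0⦌ := SimplexCategory.ext (Nat.le_zero.1 hj)
    obtain rfl | rfl : f = SimplexCategory.δ 1 ∨ f = SimplexCategory.δ 0 := by
      rw [SimplexCategory.eq_const_of_zero f]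
      generalize f.toOrderHom 0 = i
      fin_cases i
      · left; ext x; fin_cases x; rfl
      · right; ext x; fin_cases x; rfl
    · exact h1
    · exact h0
  let P := fun V : C => fun p : (((pts K).obj (op ⦋0⦌)) ⨯ ((pts K).obj (op ⦋0⦌))).obj (op V) =>
    ((prod.fst : _ ⟶ (pts K).obj (op ⦋0⦌)).app (op V) p,
      (prod.snd : _ ⟶ (pts K).obj (op ⦋0⦌)).app (op V) p)
  have hP : ∀ V (t : (ev (pts K) V).obj (op ⦋1⦌)),
      P V ((prod.lift ((pts K).δ (1 : Fin 2)) ((pts K).δ (0 : Fin 2))).app (op V) t) =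
        ((ev (pts K) V).δ 1 t, (ev (pts K) V).δ 0 t) := fun V t => by
    refine Prod.ext ?_ ?_
    · exact ConcreteCategory.congr_hom (NatTrans.congr_app (prod.lift_fst ((pts K).δ (1 : Fin 2)) ((pts K).δ (0 : Fin 2))) (op V)) t
    · exact ConcreteCategory.congr_hom (NatTrans.congr_app (prod.lift_snd ((pts K).δ (1 : Fin 2)) ((pts K).δ (0 : Fin 2))) (op V)) t
  have hPn : ∀ {U V : C} (g : V ⟶ U) (s),
      P V ((((pts K).obj (op ⦋0⦌)) ⨯ ((pts K).obj (op ⦋0⦌))).map g.op s) =
        ((res (pts K) g).app _ (P U s).1, (res (pts K) g).app _ (P U s).2) := fun g s => by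
    refine Prod.ext ?_ ?_
    · exact NatTrans.naturality_apply (prod.fst : _ ⟶ (pts K).obj (op ⦋0⦌)) g.op s
    · exact NatTrans.naturality_apply (prod.snd : _ ⟶ (pts K).obj (op ⦋0⦌)) g.op s
  constructor
  · intro h U a
    obtain ⟨s, hs⟩ := (bijective_prod ((pts K).obj (op ⦋0⦌)) ((pts K).obj (op ⦋0⦌)) (op U)).2
      (a.val j0 (SimplexCategory.δ 1), a.val j0 (SimplexCategory.δ 0))
    refine ⟨_, Presheaf.imageSieve_mem J
      (prod.lift ((pts K).δ (1 : Fin 2)) ((pts K).δ (0 : Fin 2))) (U := op U) s,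
      fun V g hg => ?_⟩
    obtain ⟨t, ht⟩ := hg
    refine ⟨t, ?_⟩
    have key := (hP V t).symm.trans ((congrArg (P V) ht).trans (hPn g s))
    rw [show P U s = _ from hs] at key
    exact ext0 _ _ (congrArg Prod.fst key) (congrArg Prod.snd key)
  · refine fun h => ⟨fun {U} s => ?_⟩
    let v : ∀ f : ⦋0⦌ ⟶ ⦋1⦌, (ev (pts K) U).obj (op ⦋0⦌) := fun f =>
      if f.toOrderHom 0 = 0 then (P U s).1 else (P U s).2
    have hj : ∀ j : SimplexCategory.Truncated 0, ⦋0⦌ = j.obj := fun j =>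
      SimplexCategory.ext (Nat.le_zero.1 j.property).symm
    let a : Fam (ev (pts K) U) 0 1 :=
      { val := fun j f => (ev (pts K) U).map (eqToHom (hj j).symm).op (v (eqToHom (hj j) ≫ f))
        nat := fun ⟨i, hi⟩ ⟨j, hj'⟩ g f => by
          obtain rfl : i = ⦋0⦌ := SimplexCategory.ext (Nat.le_zero.1 hi)
          obtain rfl : j = ⦋0⦌ := SimplexCategory.ext (Nat.le_zero.1 hj')
          have : g.hom = 𝟙 _ := by
            ext x; exact congrArg Fin.val (Subsingleton.elim (α := Fin 1) _ _)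
          simp [this] }
    obtain ⟨R, hR, hfill⟩ := h U a
    refine J.superset_covering (fun V g hg => ?_) hR
    obtain ⟨y, hy⟩ := hfill g hg
    refine ⟨y, (bijective_prod _ _ (op V)).1 ?_⟩
    show P V _ = P V _
    rw [hP, hPn]
    have e1 := congrArg (fun c : Fam _ 0 1 => c.val j0 (SimplexCategory.δ 1)) hy
    have e0 := congrArg (fun c : Fam _ 0 1 => c.val j0 (SimplexCategory.δ 0)) hy
    have ev0 : ∀ f, a.val j0 f = v f := fun f => by
      refine (ConcreteCategory.congr_hom ((ev (pts K) U).map_id (op ⦋0⦌)) _).trans ?_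
      rfl
    refine Prod.ext (e1.trans (congrArg (fun z => (res (pts K) g).app (op ⦋0⦌) z) ?_))
      (e0.trans (congrArg (fun z => (res (pts K) g).app (op ⦋0⦌) z) ?_))
    · exact (ev0 _).trans (if_pos rfl)
    · exact (ev0 _).trans (if_neg (by decide))

theorem isLocallySurjective_congr {P Q P' Q' : Cᵒᵖ ⥤ Type u} (e : P ≅ P') (e' : Q ≅ Q') {f : P ⟶ Q}
    {f' : P' ⟶ Q'} (w : f ≫ e'.hom = e.hom ≫ f') :
    Presheaf.IsLocallySurjective J f ↔ Presheaf.IsLocallySurjective J f' := by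
  constructor <;> intro h
  · rw [show f' = e.inv ≫ f ≫ e'.hom by rw [w]; simp]
    infer_instance
  · rw [show f = e.hom ≫ f' ≫ e'.inv by rw [← reassoc_of% w]; simp]
    infer_instance

theorem isHypercoveringSite_iff (K : SimplicialObject (FormalCoproduct.{u} C)) :
    Hyper.IsHypercoveringSite J K ↔ IsHyp J (pts K) := by
  have := fun (n : ℕ) => hasPointwiseRightKanExtension_trunc (D := FormalCoproduct.{u} C) n
  have A : Presheaf.IsLocallySurjective J
      (terminal.from (FormalCoproduct.yoneda.obj (K.obj (op ⦋0⦌)))) ↔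
      ∀ U : C, ∃ R ∈ J U, ∀ ⦃V : C⦄ (g : V ⟶ U), R g → Nonempty ((ev (pts K) V).obj (op ⦋0⦌)) := by
    rw [isLocallySurjective_congr J (yonedaIsoPts.app (K.obj (op ⦋0⦌))) (Iso.refl _)
      (f' := terminal.from (Pts.obj (K.obj (op ⦋0⦌)))) (terminal.hom_ext _ _)]
    constructor
    · intro h U
      refine ⟨_, Presheaf.imageSieve_mem J (terminal.from (Pts.obj (K.obj (op ⦋0⦌))))
        (U := op U) (bijective_terminal (U := U)).2.some, fun V g hg => ⟨hg.choose⟩⟩
    · refine fun h => ⟨fun {U} s => ?_⟩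
      obtain ⟨R, hR, hne⟩ := h U
      exact J.superset_covering (fun V g hg =>
        ⟨(hne g hg).some, (bijective_terminal (U := V)).1.elim _ _⟩) hR
  have B : Presheaf.IsLocallySurjective J (prod.lift (FormalCoproduct.yoneda.map (K.δ (1 : Fin 2)))
      (FormalCoproduct.yoneda.map (K.δ (0 : Fin 2)))) ↔
      ∀ (U : C) (a : Fam (ev (pts K) U) 0 1), ∃ R ∈ J U, ∀ ⦃V : C⦄ (g : V ⟶ U), R g →
        ∃ y : (ev (pts K) V).obj (op ⦋1⦌), Fam.ofSimplex y = a.map (res (pts K) g) := by
    rw [← fill_zero_iff]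
    refine isLocallySurjective_congr J (yonedaIsoPts.app _)
      (prod.mapIso (yonedaIsoPts.app _) (yonedaIsoPts.app _)) ?_
    refine prod.hom_ext ?_ ?_
    · simp only [prod.mapIso_hom, Category.assoc, prod.map_fst, prod.lift_fst_assoc]
      erw [prod.lift_fst]
      exact yonedaIsoPts.hom.naturality _
    · simp only [prod.mapIso_hom, Category.assoc, prod.map_snd, prod.lift_snd_assoc]
      erw [prod.lift_snd]
      exact yonedaIsoPts.hom.naturality _
  constructor
  · rintro ⟨h0, h1, hn⟩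
    refine ⟨A.1 h0, fun n => ?_⟩
    cases n with
    | zero => exact B.1 h1
    | succ n =>
      exact (fill_iff J (n + 1) K).1 ((isSRCovering_iff _ _).1
        ((isSRCovering_iff_yoneda _ _).2 (hn (n + 1) n.succ_pos)))
  · rintro ⟨h0, hn⟩
    exact ⟨A.2 h0, B.2 (hn 0), fun n _ => (isSRCovering_iff_yoneda _ _).1
      ((isSRCovering_iff _ _).2 ((fill_iff J n K).2 (hn n)))⟩

end site

end Groth.Agent.Hyper50
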