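import Groth.Agent.Hyper50.H0
import Groth.Agent.Hyper50.IffHyp
import Groth.Agent.Hyper50.CechSES
import Groth.Agent.Hyper50.SecExact
import Groth.Agent.SiteCoh.Over
import Groth.Agent.Fib44.HyperCech

/-! Acyclic sheaves have no higher Čech cohomology on hypercoverings. -/

set_option autoImplicit false
set_option linter.unusedSectionVars false

universe u

open CategoryTheory CategoryTheory.Limits Opposite Simplicial CategoryTheory.Abelian

namespace Groth.Agent.Hyper50

variable {C : Type u} [SmallCategory C] {J : GrothendieckTopology C} [HasPullbacks C] (X : C)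
  (K : SimplicialObject (FormalCoproduct.{u} (Over X)))

/-- Restriction of a section over `X` to the vertices. -/
noncomputable def glob (P : Cᵒᵖ ⥤ AddCommGrpCat.{u}) :
    P.obj (op X) ⟶ (Hyper.cechCx X K P).X 0 :=
  Pi.lift fun i : (K.obj (op ⦋0⦌)).I => P.map ((K.obj (op ⦋0⦌)).obj i).hom.op

theorem glob_π (P : Cᵒᵖ ⥤ AddCommGrpCat.{u}) (z : P.obj (op X)) (i : (K.obj (op ⦋0⦌)).I) :
    Pi.π (fun i : (K.obj (op ⦋0⦌)).I => P.obj (op ((K.obj (op ⦋0⦌)).obj i).left)) i (glob X K P z) =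
      P.map ((K.obj (op ⦋0⦌)).obj i).hom.op z :=
  ConcreteCategory.congr_hom (Pi.lift_π
    (fun i : (K.obj (op ⦋0⦌)).I => P.map ((K.obj (op ⦋0⦌)).obj i).hom.op) i) z

theorem glob_d (P : Cᵒᵖ ⥤ AddCommGrpCat.{u}) (z : P.obj (op X)) :
    (Hyper.cechCx X K P).d 0 1 (glob X K P z) = 0 := by
  show (Hyper.cechCxSite K ((Over.forget X).op ⋙ P)).d 0 1 (glob X K P z) = 0
  rw [cechCxSite_d_zero]
  refine (sub_eq_zero (G := ((Hyper.cechCx X K P).X 1 : AddCommGrpCat.{u}))).2 ?_
  refine cech_ext X K (P := P) 1 fun i => ?_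
  have key : ∀ e : K.obj (op ⦋1⦌) ⟶ K.obj (op ⦋0⦌),
      Pi.π (fun i : (K.obj (op ⦋1⦌)).I => P.obj (op ((K.obj (op ⦋1⦌)).obj i).left)) i
        (((FormalCoproduct.evalOp.{u} (Over X) AddCommGrpCat.{u}).obj ((Over.forget X).op ⋙ P)).map e.op
          (glob X K P z)) = P.map ((K.obj (op ⦋1⦌)).obj i).hom.op z := fun e => by
    refine (ConcreteCategory.congr_hom (Pi.lift_π
      (fun i : (K.obj (op ⦋1⦌)).I =>
        Pi.π (fun i : (K.obj (op ⦋0⦌)).I => P.obj (op ((K.obj (op ⦋0⦌)).obj i).left)) (e.f i) ≫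
          P.map (e.φ i).left.op) i) _).trans ?_
    show P.map (e.φ i).left.op
      (Pi.π (fun i : (K.obj (op ⦋0⦌)).I => P.obj (op ((K.obj (op ⦋0⦌)).obj i).left)) (e.f i) (glob X K P z)) = _
    rw [glob_π, ← Functor.map_comp_apply, ← op_comp, Over.w]
  exact (key _).trans (key _).symm

theorem glob_map {P Q : Cᵒᵖ ⥤ AddCommGrpCat.{u}} (α : P ⟶ Q) (z : P.obj (op X)) :
    ((cechFun X K).map α).f 0 (glob X K P z) = glob X K Q (α.app (op X) z) := by
  refine cech_ext X K (P := Q) 0 fun i => ?_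
  refine (cechFun_map_π X K α 0 i _).trans ?_
  refine (congrArg _ (glob_π X K P z i)).trans ?_
  exact (NatTrans.naturality_apply α _ z).trans (glob_π X K Q _ i).symm

/-- A degree zero cocycle of a sheaf is a global section. -/
theorem exists_glob_eq (hK : IsHyp (J.over X) (K ⋙ Pts)) (F : Sheaf J AddCommGrpCat.{u})
    (x : (Hyper.cechCx X K F.obj).X 0) (hx : (Hyper.cechCx X K F.obj).d 0 1 x = 0) :
    ∃ z, glob X K F.obj z = x := by
  let G : Sheaf (J.over X) AddCommGrpCat.{u} := (J.overPullback AddCommGrpCat.{u} X).obj F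
  obtain ⟨z, hz⟩ := exists_global_of_cocycle hK G x hx
  refine ⟨limit.π G.obj (op (Over.mk (𝟙 X))) z, cech_ext X K (P := F.obj) 0 fun i => ?_⟩
  rw [glob_π, ← hz]
  let W := (K.obj (op ⦋0⦌)).obj i
  refine Eq.trans ?_ (ConcreteCategory.congr_hom (Pi.lift_π
    (fun i : (K.obj (op ⦋0⦌)).I => limit.π G.obj (op ((K.obj (op ⦋0⦌)).obj i))) i) z).symm
  exact ConcreteCategory.congr_hom
    (limit.w G.obj (Over.homMk W.hom (Category.comp_id _) : W ⟶ Over.mk (𝟙 X)).op) z

/-- The presheaf sequence of a short exact sequence of sheaves. -/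
noncomputable abbrev preSC (S : ShortComplex (Sheaf J AddCommGrpCat.{u})) :
    ShortComplex (Cᵒᵖ ⥤ AddCommGrpCat.{u}) :=
  ShortComplex.mk S.f.hom S.g.hom (congrArg (fun k => k.hom) S.zero)

theorem secSES_preSC {S : ShortComplex (Sheaf J AddCommGrpCat.{u})} (hS : S.ShortExact)
    (h : ∀ U : C, Subsingleton (Ext.{u} (CohCx.freeSheaf J U) S.X₁ 1)) : SecSES (preSC S) where
  inj := sec_injective hS
  exact U _ hb := sec_exact hS U hb
  surj U := by
    have := h U
    exact sec_surjective hS U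

variable [∀ (n : ℕ) (F : (SimplexCategory.Truncated n)ᵒᵖ ⥤ FormalCoproduct.{u} (Over X)),
  (SimplexCategory.Truncated.inclusion n).op.HasRightKanExtension F]

theorem cech_injective_vanishing (hK : Hyper.IsHypercovering J X K) (I : Sheaf J AddCommGrpCat.{u})
    [Injective I] (p : ℕ) : IsZero (Hyper.cechH X K I.obj (p + 1)) := by
  have : HasEqualizers (Over X) := hasEqualizers_of_hasPullbacks_and_binary_products
  have hs : Hyper.IsHypercoveringSite (J.over X) K :=
    (isHypercoveringSite_iff (J.over X) K).2 ((isHypercovering_iff J X K).1 hK)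
  exact Fib44.HyperCech.isZero_homology_succ (Fib44.HyperFill.isLocTriv hs) (I.over X) p

/-- Acyclic sheaves. -/
def IsAcyclic (F : Sheaf J AddCommGrpCat.{u}) : Prop :=
  ∀ (U : C) (q : ℕ), Subsingleton (Ext.{u} (CohCx.freeSheaf J U) F (q + 1))

theorem isAcyclic_cokernel {F : Sheaf J AddCommGrpCat.{u}} (hF : IsAcyclic F) :
    IsAcyclic (SiteCoh.injSES F).X₃ := fun U q => by
  have : Subsingleton (Ext.{u} (CohCx.freeSheaf J U) (SiteCoh.injSES F).X₂ (q + 1)) :=
    Ext.subsingleton_of_injective _ (Injective.under F) q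
  have : Subsingleton (Ext.{u} (CohCx.freeSheaf J U) (SiteCoh.injSES F).X₁ (q + 1 + 1)) := hF U (q + 1)
  exact ext_subsingleton_X₃ (SiteCoh.injSES_shortExact F) _ _

/-- Classes in degree zero lift when sections over `X` do. -/
theorem h0_lift (hK : Hyper.IsHypercovering J X K) {S : ShortComplex (Sheaf J AddCommGrpCat.{u})}
    (hg : Function.Surjective (S.g.hom.app (op X))) (ξ : Hyper.cechH X K S.X₃.obj 0) :
    ∃ η : Hyper.cechH X K S.X₂.obj 0,
      HomologicalComplex.homologyMap ((cechFun X K).map S.g.hom) 0 η = ξ := by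
  let cQ := Hyper.cechCx X K S.X₃.obj
  let cI := Hyper.cechCx X K S.X₂.obj
  obtain ⟨c, rfl⟩ := (AddCommGrpCat.epi_iff_surjective (cQ.homologyπ 0)).1 inferInstance ξ
  obtain ⟨z, hz⟩ := exists_glob_eq X K ((isHypercovering_iff J X K).1 hK) S.X₃ (cQ.iCycles 0 c)
    (ConcreteCategory.congr_hom (cQ.iCycles_d 0 1) c)
  obtain ⟨w, rfl⟩ := hg z
  have hd : glob X K S.X₂.obj ≫ cI.d 0 1 = 0 := by
    ext y
    exact glob_d X K S.X₂.obj y
  refine ⟨cI.homologyπ 0 (cI.liftCycles (glob X K S.X₂.obj) 1 (by simp) hd w), ?_⟩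
  rw [← ConcreteCategory.comp_apply, HomologicalComplex.homologyπ_naturality, ConcreteCategory.comp_apply]
  refine congrArg (cQ.homologyπ 0) ((AddCommGrpCat.mono_iff_injective (cQ.iCycles 0)).1 inferInstance ?_)
  rw [← ConcreteCategory.comp_apply]
  erw [HomologicalComplex.cyclesMap_i]
  rw [ConcreteCategory.comp_apply,
    show cI.iCycles 0 (cI.liftCycles (glob X K S.X₂.obj) 1 (by simp) hd w) = glob X K S.X₂.obj w from
      ConcreteCategory.congr_hom (cI.liftCycles_i _ _ _ _) w]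
  exact (glob_map X K S.g.hom w).trans hz

theorem cech_acyclic_vanishing (hK : Hyper.IsHypercovering J X K) :
    ∀ (p : ℕ) (F : Sheaf J AddCommGrpCat.{u}), IsAcyclic F → IsZero (Hyper.cechH X K F.obj (p + 1)) := by
  intro p
  induction p with
  | zero =>
    intro F hF
    have hS := SiteCoh.injSES_shortExact F
    have hsec := secSES_preSC hS (fun U => hF U 0)
    let hT := cechSC_shortExact X K hsec
    have hI : IsZero (Hyper.cechH X K (Injective.under F).obj (0 + 1)) := cech_injective_vanishing X K hK _ 0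
    have he := hT.epi_δ 0 1 rfl hI
    have hsub : Subsingleton (Hyper.cechH X K F.obj (0 + 1)) := by
      have key : ∀ a : Hyper.cechH X K F.obj (0 + 1), a = 0 := fun a => by
        obtain ⟨ξ, rfl⟩ := (AddCommGrpCat.epi_iff_surjective _).1 he a
        obtain ⟨η, rfl⟩ := h0_lift X K hK (S := SiteCoh.injSES F) (hsec.surj X) ξ
        exact ConcreteCategory.congr_hom (hT.comp_δ 0 1 rfl) η
      exact ⟨fun a b => by rw [key a, key b]⟩
    exact AddCommGrpCat.isZero_of_subsingleton _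
  | succ p ih =>
    intro F hF
    let hT := cechSC_shortExact X K (secSES_preSC (SiteCoh.injSES_shortExact F) (fun U => hF U 0))
    have hI : IsZero (Hyper.cechH X K (Injective.under F).obj (p + 1 + 1)) :=
      cech_injective_vanishing X K hK _ (p + 1)
    have he := hT.epi_δ (p + 1) (p + 1 + 1) rfl hI
    exact @IsZero.of_epi _ _ _ _ _ (hT.δ (p + 1) (p + 1 + 1) rfl) he (ih _ (isAcyclic_cokernel hF))

end Groth.Agent.Hyper50
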