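import Groth.Agent.Hyper50.Fam

/-! Values of matching families along arbitrary factorisations. -/

set_option autoImplicit false

universe u

open CategoryTheory CategoryTheory.Limits Opposite Simplicial

namespace Groth.Agent.Hyper50.Fam

variable {S : SSet.{u}} {n k : ℕ}

theorem len_image_le {p : SimplexCategory} (j : SimplexCategory.Truncated n) (f : j.obj ⟶ p) :
    (image f).len ≤ n :=
  (SimplexCategory.len_le_of_epi (factorThruImage f)).trans j.property

/-- The value of a family on a mono, extended along an epi. -/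
noncomputable def ext₀ (a : Fam S n k) {p : SimplexCategory} (α : p ⟶ ⦋k⦌) (h : (image α).len ≤ n) :
    S.obj (op p) :=
  S.map (factorThruImage α).op (a.val ⟨image α, h⟩ (image.ι α))

theorem ext₀_congr (a : Fam S n k) {p : SimplexCategory} {α : p ⟶ ⦋k⦌} {m : SimplexCategory}
    (e : p ⟶ m) [Epi e] (i : m ⟶ ⦋k⦌) [Mono i] (fac : e ≫ i = α) (hm : m.len ≤ n)
    (h : (image α).len ≤ n) : a.ext₀ α h = S.map e.op (a.val ⟨m, hm⟩ i) := by
  obtain rfl := SimplexCategory.image_eq fac
  rw [ext₀]
  simp only [SimplexCategory.image_ι_eq fac, SimplexCategory.factorThruImage_eq fac]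

theorem image_len_le {p : SimplexCategory} {α : p ⟶ ⦋k⦌} (j : SimplexCategory.Truncated n)
    (f : j.obj ⟶ ⦋k⦌) (β : p ⟶ j.obj) (fac : β ≫ f = α) : (image α).len ≤ n := by
  have e : (factorThruImage (β ≫ factorThruImage f)) ≫
      (image.ι (β ≫ factorThruImage f) ≫ image.ι f) = α := by
    rw [← Category.assoc, image.fac, Category.assoc, image.fac, fac]
  rw [SimplexCategory.image_eq e]
  exact (SimplexCategory.len_le_of_mono (image.ι (β ≫ factorThruImage f))).trans (len_image_le j f)

theorem val_ext₀ (a : Fam S n k) {p : SimplexCategory} {α : p ⟶ ⦋k⦌} (j : SimplexCategory.Truncated n)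
    (f : j.obj ⟶ ⦋k⦌) (β : p ⟶ j.obj) (fac : β ≫ f = α) :
    S.map β.op (a.val j f) = a.ext₀ α (image_len_le j f β fac) := by
  let r : SimplexCategory.Truncated n := ⟨image f, len_image_le j f⟩
  have h1 : a.val j f = S.map (factorThruImage f).op (a.val r (image.ι f)) := by
    refine (congrArg (a.val j) (image.fac f).symm).trans ?_
    exact a.nat j r (ObjectProperty.homMk (factorThruImage f)) (image.ι f)
  let r' : SimplexCategory.Truncated n :=
    ⟨image (β ≫ factorThruImage f), (SimplexCategory.len_le_of_mono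
      (image.ι (β ≫ factorThruImage f))).trans r.property⟩
  have h2 : a.val r' (image.ι (β ≫ factorThruImage f) ≫ image.ι f) =
      S.map (image.ι (β ≫ factorThruImage f)).op (a.val r (image.ι f)) :=
    a.nat r' r (ObjectProperty.homMk (image.ι (β ≫ factorThruImage f))) (image.ι f)
  rw [a.ext₀_congr (factorThruImage (β ≫ factorThruImage f))
    (image.ι (β ≫ factorThruImage f) ≫ image.ι f)
    (by rw [← Category.assoc, image.fac, Category.assoc, image.fac, fac]) r'.property, h2, h1,
    ← Functor.map_comp_apply, ← Functor.map_comp_apply, ← op_comp, ← op_comp, image.fac]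

/-- Two factorisations give the same value. -/
theorem val_congr (a : Fam S n k) {p : SimplexCategory} {j j' : SimplexCategory.Truncated n}
    (f : j.obj ⟶ ⦋k⦌) (f' : j'.obj ⟶ ⦋k⦌) (β : p ⟶ j.obj) (β' : p ⟶ j'.obj)
    (h : β ≫ f = β' ≫ f') : S.map β.op (a.val j f) = S.map β'.op (a.val j' f') :=
  (a.val_ext₀ j f β h).trans (a.val_ext₀ j' f' β' rfl).symm

end Groth.Agent.Hyper50.Fam
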