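import Groth.Agent.Hyper50.Bridge
import Groth.Agent.Hyper50.FamExt
import Mathlib.Data.Finite.Sum

/-! Attaching cells in one dimension to a simplicial formal coproduct. -/

set_option autoImplicit false

universe u

open CategoryTheory CategoryTheory.Limits Opposite Simplicial

namespace Groth.Agent.Hyper50

variable {C : Type u} [SmallCategory C]

/-- The images of the tautological elements determine a morphism. -/
theorem fc_ext {L L' : FormalCoproduct.{u} C} {f g : L ⟶ L'}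
    (h : ∀ i, (⟨f.f i, f.φ i⟩ : Σ j, L.obj i ⟶ L'.obj j) = ⟨g.f i, g.φ i⟩) : f = g := by
  obtain ⟨ff, fφ⟩ := f
  obtain ⟨gf, gφ⟩ := g
  obtain rfl : ff = gf := funext fun i => congrArg Sigma.fst (h i)
  obtain rfl : fφ = gφ := funext fun i => eq_of_heq (Sigma.ext_iff.1 (h i)).2
  rfl

theorem pts_map_apply {L L' : FormalCoproduct.{u} C} (f : L ⟶ L') {T : Cᵒᵖ} (i : L.I)
    (q : T.unop ⟶ L.obj i) : (Pts.map f).app T ⟨i, q⟩ = ⟨f.f i, q ≫ f.φ i⟩ := rfl

namespace Fam

variable {S : SSet.{u}} {n k : ℕ}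

theorem image_len_comp_le {p q : SimplexCategory} (φ : p ⟶ q) {α : q ⟶ ⦋k⦌}
    (h : (image α).len ≤ n) : (image (φ ≫ α)).len ≤ n :=
  image_len_le ⟨image α, h⟩ (image.ι α) (φ ≫ factorThruImage α)
    (by rw [Category.assoc, image.fac])

theorem map_ext₀ (a : Fam S n k) {p q : SimplexCategory} (φ : p ⟶ q) {α : q ⟶ ⦋k⦌}
    (h : (image α).len ≤ n) : S.map φ.op (a.ext₀ α h) = a.ext₀ (φ ≫ α) (image_len_comp_le φ h) := by
  rw [ext₀, ← Functor.map_comp_apply, ← op_comp]
  exact a.val_ext₀ ⟨image α, h⟩ (image.ι α) (φ ≫ factorThruImage α)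
    (by rw [Category.assoc, image.fac])

theorem ext₀_self (a : Fam S n k) (j : SimplexCategory.Truncated n) (f : j.obj ⟶ ⦋k⦌) :
    a.ext₀ f (len_image_le j f) = a.val j f :=
  (a.val_ext₀ j f (𝟙 _) (Category.id_comp f)).symm.trans (by simp)

end Fam

theorem image_len_le_of_not_epi {n : ℕ} {p : SimplexCategory} {f : p ⟶ ⦋n + 1⦌} (h : ¬ Epi f) :
    (image f).len ≤ n := by
  have h1 : (image f).len ≤ n + 1 := SimplexCategory.len_le_of_mono (image.ι f)
  by_contra h2
  have h3 : image f = ⦋n + 1⦌ := SimplexCategory.ext (show (image f).len = n + 1 by omega)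
  apply h
  have := SimplexCategory.eq_id_of_mono (eqToHom h3.symm ≫ image.ι f)
  rw [← image.fac f]
  have h4 : image.ι f = eqToHom h3 := by
    rw [← cancel_epi (eqToHom h3.symm), this]; simp
  rw [h4]
  infer_instance

/-- Boundary data for cells to be attached in dimension `n + 1`. -/
structure Cells (S : SimplicialObject (FormalCoproduct.{u} C)) (n : ℕ) where
  I : Type u
  o : I → C
  a : ∀ x, Fam (ev (pts S) (o x)) n (n + 1)

namespace Cells

variable {S : SimplicialObject (FormalCoproduct.{u} C)} {n : ℕ} (A : Cells S n)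

/-- Index type in each degree. -/
def idx (m : SimplexCategoryᵒᵖ) : Type u :=
  (S.obj m).I ⊕ ({e : m.unop ⟶ ⦋n + 1⦌ // Epi e} × A.I)

/-- Underlying formal coproduct in each degree. -/
abbrev X (m : SimplexCategoryᵒᵖ) : FormalCoproduct.{u} C where
  I := A.idx m
  obj := Sum.elim (S.obj m).obj fun p => A.o p.2

/-- Inclusion in each degree. -/
def inc (m : SimplexCategoryᵒᵖ) : S.obj m ⟶ A.X m where
  f := Sum.inl
  φ _ := 𝟙 _

open Classical in
/-- The simplices of the cell `x`. -/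
noncomputable def val (x : A.I) {m : SimplexCategoryᵒᵖ} (f : m.unop ⟶ ⦋n + 1⦌) :
    Σ j, A.o x ⟶ (A.X m).obj j :=
  if h : Epi f then ⟨Sum.inr (⟨f, h⟩, x), 𝟙 _⟩
  else (Pts.map (A.inc m)).app (op (A.o x)) ((A.a x).ext₀ f (image_len_le_of_not_epi h))

/-- Structure maps. -/
noncomputable def mapX {m m' : SimplexCategoryᵒᵖ} (θ : m ⟶ m') : A.X m ⟶ A.X m' where
  f := fun j => match j with
    | .inl i => Sum.inl ((S.map θ).f i)
    | .inr p => (A.val p.2 (θ.unop ≫ p.1.1)).1
  φ := fun j => match j with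
    | .inl i => (S.map θ).φ i
    | .inr p => (A.val p.2 (θ.unop ≫ p.1.1)).2

theorem inc_mapX {m m' : SimplexCategoryᵒᵖ} (θ : m ⟶ m') :
    A.inc m ≫ A.mapX θ = S.map θ ≫ A.inc m' :=
  fc_ext fun i => Sigma.ext rfl (heq_of_eq (show 𝟙 _ ≫ (S.map θ).φ i = (S.map θ).φ i ≫ 𝟙 _ by simp))

theorem mapX_val {m m' : SimplexCategoryᵒᵖ} (θ : m ⟶ m') (x : A.I) (f : m.unop ⟶ ⦋n + 1⦌) :
    (Pts.map (A.mapX θ)).app (op (A.o x)) (A.val x f) = A.val x (θ.unop ≫ f) := by
  unfold val
  split_ifs with h h'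
  · show (⟨(A.val x (θ.unop ≫ f)).1, 𝟙 _ ≫ (A.val x (θ.unop ≫ f)).2⟩ :
      Σ j, A.o x ⟶ (A.X m').obj j) = _
    rw [val, dif_pos h']
    exact Sigma.ext rfl (heq_of_eq (Category.id_comp _))
  · show (⟨(A.val x (θ.unop ≫ f)).1, 𝟙 _ ≫ (A.val x (θ.unop ≫ f)).2⟩ :
      Σ j, A.o x ⟶ (A.X m').obj j) = _
    rw [val, dif_neg h']
    exact Sigma.ext rfl (heq_of_eq (Category.id_comp _))
  · rename_i h'
    exact absurd (@epi_of_epi _ _ _ _ _ _ _ h') h
  · rw [← comp_apply, ← NatTrans.comp_app, ← Functor.map_comp, inc_mapX, Functor.map_comp,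
      NatTrans.comp_app, comp_apply]
    exact congrArg _ ((A.a x).map_ext₀ θ.unop _)

/-- The simplicial formal coproduct with the cells attached. -/
noncomputable def attach : SimplicialObject (FormalCoproduct.{u} C) where
  obj := A.X
  map θ := A.mapX θ
  map_id m := fc_ext fun j => by
    match j with
    | .inl i =>
      refine Eq.trans (show _ = (Pts.map (A.inc m)).app (op ((S.obj m).obj i))
        ((Pts.map (S.map (𝟙 m))).app _ ⟨i, 𝟙 _⟩) from ?_) ?_
      · exact Sigma.ext rfl (heq_of_eq (show (S.map (𝟙 m)).φ i =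
          (𝟙 _ ≫ (S.map (𝟙 m)).φ i) ≫ 𝟙 _ by simp))
      · rw [S.map_id, Pts.map_id]
        exact Sigma.ext rfl (heq_of_eq (Category.id_comp _))
    | .inr (⟨e, he⟩, x) =>
      show A.val x (𝟙 m.unop ≫ e) = _
      rw [Category.id_comp, val, dif_pos he]
      rfl
  map_comp {m m' m''} θ θ' := fc_ext fun j => by
    match j with
    | .inl i =>
      refine Eq.trans (show _ = (Pts.map (A.inc m'')).app (op ((S.obj m).obj i))
        ((Pts.map (S.map (θ ≫ θ'))).app _ ⟨i, 𝟙 _⟩) from ?_) ?_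
      · exact Sigma.ext rfl (heq_of_eq (show (S.map (θ ≫ θ')).φ i =
          (𝟙 _ ≫ (S.map (θ ≫ θ')).φ i) ≫ 𝟙 _ by simp))
      · rw [S.map_comp, Pts.map_comp, NatTrans.comp_app, comp_apply]
        exact Sigma.ext rfl (heq_of_eq (show ((𝟙 _ ≫ _) ≫ _) ≫ 𝟙 _ = _ by
          simp only [Category.id_comp, Category.comp_id]; rfl))
    | .inr (⟨e, he⟩, x) =>
      show A.val x ((θ ≫ θ').unop ≫ e) = _
      rw [unop_comp, Category.assoc, ← A.mapX_val θ' x (θ.unop ≫ e)]
      rfl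

/-- The inclusion of the original object. -/
noncomputable def incl : S ⟶ A.attach where
  app := A.inc
  naturality m m' θ := (A.inc_mapX θ).symm

theorem isIso_incl (m : SimplexCategoryᵒᵖ) (hm : m.unop.len ≤ n) : IsIso (A.incl.app m) := by
  have hf : ∀ e : m.unop ⟶ ⦋n + 1⦌, ¬ Epi e := fun e he => by
    have : n + 1 ≤ m.unop.len := @SimplexCategory.len_le_of_epi _ _ e he
    omega
  let g : A.X m ⟶ S.obj m :=
    { f := fun j => match j with
        | .inl i => i
        | .inr p => (hf p.1.1 p.1.2).elim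
      φ := fun j => match j with
        | .inl i => 𝟙 _
        | .inr p => (hf p.1.1 p.1.2).elim }
  refine ⟨⟨g, fc_ext fun i => ?_, fc_ext fun j => ?_⟩⟩
  · exact Sigma.ext rfl (heq_of_eq (Category.id_comp _))
  · match j with
    | .inl i => exact Sigma.ext rfl (heq_of_eq (Category.id_comp _))
    | .inr p => exact (hf p.1.1 p.1.2).elim

/-- The new simplex of a cell. -/
def top (x : A.I) : (ev (pts A.attach) (A.o x)).obj (op ⦋n + 1⦌) :=
  ⟨Sum.inr (⟨𝟙 _, inferInstance⟩, x), 𝟙 _⟩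

theorem ofSimplex_top (x : A.I) :
    Fam.ofSimplex (A.top x) = (A.a x).map (evMap (Functor.whiskerRight A.incl Pts) (A.o x)) := by
  refine Fam.ext' fun j f => ?_
  have hne : ¬ Epi f := fun he => by
    have h1 : n + 1 ≤ j.obj.len := @SimplexCategory.len_le_of_epi _ _ f he
    have h2 : j.obj.len ≤ n := j.property
    omega
  show (Pts.map (A.mapX f.op)).app (op (A.o x)) (A.top x) =
    (Pts.map (A.inc _)).app (op (A.o x)) ((A.a x).val j f)
  have h := A.mapX_val f.op x (𝟙 ⦋n + 1⦌)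
  rw [val, dif_pos (show Epi (𝟙 ⦋n + 1⦌) from inferInstance)] at h
  refine h.trans ((congrArg (A.val x) (Category.comp_id f)).trans ?_)
  rw [val, dif_neg hne]
  exact congrArg _ ((A.a x).ext₀_self j f)

theorem obj_prop {P : C → Prop} {m : SimplexCategoryᵒᵖ} (hS : ∀ i, P ((S.obj m).obj i))
    (hA : ∀ x, P (A.o x)) : ∀ i, P ((A.attach.obj m).obj i)
  | .inl i => hS i
  | .inr p => hA p.2

theorem finite_obj (m : SimplexCategoryᵒᵖ) [Finite (S.obj m).I] [Finite A.I] :
    Finite (A.attach.obj m).I := by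
  have : Finite (m.unop ⟶ ⦋n + 1⦌) :=
    Finite.of_injective (fun f => (f.toOrderHom : Fin _ → Fin _))
      fun f g h => SimplexCategory.Hom.ext _ _ (OrderHom.ext _ _ h)
  have : Finite {e : m.unop ⟶ ⦋n + 1⦌ // Epi e} := Subtype.finite
  have : Finite ({e : m.unop ⟶ ⦋n + 1⦌ // Epi e} × A.I) := Finite.instProd
  exact inferInstanceAs (Finite ((S.obj m).I ⊕ ({e : m.unop ⟶ ⦋n + 1⦌ // Epi e} × A.I)))

end Cells

end Groth.Agent.Hyper50
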