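import Groth.Agent.Hyper50.Fam
import Groth.Agent.Hyper50.Sections
import Mathlib.AlgebraicTopology.SimplicialObject.Coskeletal

/-! Coskeleta in formal coproducts and matching families. -/

set_option autoImplicit false

universe w v u

open CategoryTheory CategoryTheory.Limits Opposite Simplicial SimplexCategory

namespace Groth.Agent.Hyper50

section general

variable {E : Type w} [Category.{v} E] (n : ℕ)


theorem isIso_counit [∀ (F : (SimplexCategory.Truncated n)ᵒᵖ ⥤ E), Functor.HasRightKanExtension (SimplexCategory.Truncated.inclusion n).op F]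
    [∀ (F : (SimplexCategory.Truncated n)ᵒᵖ ⥤ E), Functor.HasPointwiseRightKanExtension (SimplexCategory.Truncated.inclusion n).op F]
    (F : SimplicialObject.Truncated E n) : IsIso ((SimplicialObject.coskAdj n).counit.app F) :=
  inferInstance

theorem isCoskeletal_cosk [∀ (F : (SimplexCategory.Truncated n)ᵒᵖ ⥤ E), Functor.HasRightKanExtension (SimplexCategory.Truncated.inclusion n).op F]
    [∀ (F : (SimplexCategory.Truncated n)ᵒᵖ ⥤ E), Functor.HasPointwiseRightKanExtension (SimplexCategory.Truncated.inclusion n).op F]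
    (K : SimplicialObject E) : SimplicialObject.IsCoskeletal ((SimplicialObject.cosk n).obj K) n := by
  rw [SimplicialObject.isCoskeletal_iff_isIso]
  have h := (SimplicialObject.coskAdj n).right_triangle_components
    ((SimplicialObject.truncation n).obj K)
  exact @IsIso.of_isIso_fac_right _ _ _ _ _ _ _ _ _ (IsIso.id _) h

theorem isIso_unit_app [∀ (F : (SimplexCategory.Truncated n)ᵒᵖ ⥤ E), Functor.HasRightKanExtension (SimplexCategory.Truncated.inclusion n).op F]
    [∀ (F : (SimplexCategory.Truncated n)ᵒᵖ ⥤ E), Functor.HasPointwiseRightKanExtension (SimplexCategory.Truncated.inclusion n).op F]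
    (K : SimplicialObject E) {j : ℕ} (hj : j ≤ n) :
    IsIso (((SimplicialObject.coskAdj n).unit.app K).app (op ⦋j⦌)) := by
  have h : IsIso ((SimplicialObject.truncation n).map ((SimplicialObject.coskAdj n).unit.app K)) :=
    @IsIso.of_isIso_fac_right _ _ _ _ _ _ _ _ _ (IsIso.id _)
      ((SimplicialObject.coskAdj n).left_triangle_components K)
  exact inferInstanceAs (IsIso (((SimplicialObject.truncation n).map
    ((SimplicialObject.coskAdj n).unit.app K)).app (op ⟨⦋j⦌, hj⟩)))

/-- A limit preserving functor preserves coskeletal objects. -/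
theorem isCoskeletal_comp {E' : Type*} [Category E'] (G : E ⥤ E') (W : SimplicialObject E)
    [∀ Y, PreservesLimitsOfShape (StructuredArrow Y (SimplexCategory.Truncated.inclusion n).op) G] [SimplicialObject.IsCoskeletal W n]
    [Functor.HasPointwiseRightKanExtension (SimplexCategory.Truncated.inclusion n).op ((SimplexCategory.Truncated.inclusion n).op ⋙ W)] :
    SimplicialObject.IsCoskeletal (W ⋙ G : SimplicialObject E') n := by
  refine ⟨Functor.RightExtension.IsPointwiseRightKanExtension.isRightKanExtension
    (E := Functor.RightExtension.mk (W ⋙ G) (𝟙 ((SimplexCategory.Truncated.inclusion n).op ⋙ W ⋙ G))) fun Y => ?_⟩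
  have h := Functor.isPointwiseRightKanExtensionOfIsRightKanExtension W (𝟙 ((SimplexCategory.Truncated.inclusion n).op ⋙ W)) Y
  exact IsLimit.ofIsoLimit (isLimitOfPreserves G h)
    (Cone.ext (Iso.refl _) fun j => by
      simp [Functor.RightExtension.coneAt]
      erw [Category.id_comp, Category.comp_id, G.map_id, Category.comp_id]
      rfl)

end general

variable {C : Type u} [SmallCategory C] (J : GrothendieckTopology C)

/-- The simplicial presheaf of sets of a simplicial formal coproduct. -/
abbrev pts (K : SimplicialObject (FormalCoproduct.{u} C)) : SimplicialObject (Cᵒᵖ ⥤ Type u) :=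
  K ⋙ Pts

theorem ev_pts_coskeletal (n : ℕ) (W : SimplicialObject (FormalCoproduct.{u} C))
    [SimplicialObject.IsCoskeletal W n]
    [Functor.HasPointwiseRightKanExtension (SimplexCategory.Truncated.inclusion n).op
      ((SimplexCategory.Truncated.inclusion n).op ⋙ W)] (U : C) :
    SimplicialObject.IsCoskeletal (ev (pts W) U) n :=
  have : PreservesLimitsOfSize.{0, 0} (Pts ⋙ (evaluation Cᵒᵖ (Type u)).obj (op U)) :=
    preservesLimitsOfSize_shrink.{0, u, 0, u} _
  isCoskeletal_comp n (Pts ⋙ (evaluation Cᵒᵖ (Type u)).obj (op U)) W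

/-- Covering of the coskeleton is the same as local filling of matching families. -/
theorem fill_iff (n : ℕ) (K : SimplicialObject (FormalCoproduct.{u} C))
    [∀ (F : (SimplexCategory.Truncated n)ᵒᵖ ⥤ FormalCoproduct.{u} C),
      (SimplexCategory.Truncated.inclusion n).op.HasRightKanExtension F]
    [∀ (F : (SimplexCategory.Truncated n)ᵒᵖ ⥤ FormalCoproduct.{u} C),
      (SimplexCategory.Truncated.inclusion n).op.HasPointwiseRightKanExtension F] :
    Presheaf.IsLocallySurjective J
        (Pts.map (((SimplicialObject.coskAdj n).unit.app K).app (op ⦋n + 1⦌))) ↔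
      ∀ (U : C) (a : Fam (ev (pts K) U) n (n + 1)), ∃ R ∈ J U, ∀ ⦃V : C⦄ (g : V ⟶ U), R g →
        ∃ y : (ev (pts K) V).obj (op ⦋n + 1⦌), Fam.ofSimplex y = a.map (res (pts K) g) := by
  let W := (SimplicialObject.cosk n).obj K
  have := isCoskeletal_cosk n K
  let η : pts K ⟶ pts W := Functor.whiskerRight ((SimplicialObject.coskAdj n).unit.app K) Pts
  have hη : ∀ V : C, ∀ j ≤ n, Function.Bijective ((evMap η V).app (op ⦋j⦌)) := fun V j hj => by
    have := isIso_unit_app n K hj
    exact ConcreteCategory.bijective_of_isIso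
      ((Pts ⋙ (evaluation Cᵒᵖ (Type u)).obj (op V)).map
        (((SimplicialObject.coskAdj n).unit.app K).app (op ⦋j⦌)))
  have hu : ∀ (V : C) (b : Fam (ev (pts W) V) n (n + 1)), ∃! z, Fam.ofSimplex z = b := fun V b => by
    have := ev_pts_coskeletal n W V
    exact b.existsUnique_ofSimplex
  constructor
  · intro h U a
    obtain ⟨z, hz, -⟩ := hu U (a.map (evMap η U))
    have : Presheaf.IsLocallySurjective J (η.app (op ⦋n + 1⦌)) := h
    refine ⟨_, Presheaf.imageSieve_mem J (η.app (op ⦋n + 1⦌)) z, ?_⟩
    rintro V g ⟨t, ht⟩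
    refine ⟨t, (Fam.map_bijective _ (hη V)).1 ?_⟩
    rw [Fam.map_ofSimplex, Fam.map_map, res_evMap, ← Fam.map_map, ← hz, Fam.map_ofSimplex]
    exact congrArg Fam.ofSimplex ht
  · refine fun h => ⟨fun {U} s => ?_⟩
    obtain ⟨a, ha⟩ := (Fam.map_bijective (evMap η U) (hη U) (k := n + 1)).2 (Fam.ofSimplex s)
    obtain ⟨R, hR, hfill⟩ := h U a
    refine J.superset_covering (fun V g hg => ?_) hR
    obtain ⟨y, hy⟩ := hfill g hg
    refine ⟨y, (hu V ((a.map (evMap η U)).map (res (pts W) g))).unique ?_ ?_⟩
    · show Fam.ofSimplex ((evMap η V).app _ y) = _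
      rw [← Fam.map_ofSimplex, hy, Fam.map_map, res_evMap, Fam.map_map]
    · show Fam.ofSimplex ((res (pts W) g).app _ s) = _
      rw [ha, Fam.map_ofSimplex]

end Groth.Agent.Hyper50
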