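import Mathlib.AlgebraicTopology.CechNerve
import Mathlib.AlgebraicTopology.SimplicialObject.Coskeletal

/-! `cechNerveTerminalFrom` is `n`-coskeletal for every `n`. -/

set_option autoImplicit false

universe v u

open CategoryTheory CategoryTheory.Limits Opposite SimplexCategory Simplicial

namespace Groth.Agent.Hyper50

variable {C : Type u} [Category.{v} C] [HasFiniteProducts C] (X : C)

noncomputable def nervePr (m : SimplexCategory) (i : Fin (m.len + 1)) :
    (cechNerveTerminalFrom X).obj (op m) ⟶ X :=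
  Limits.Pi.π (fun _ : Fin (m.len + 1) => X) i

theorem nervePr_map {m m' : SimplexCategory} (f : m ⟶ m') (i : Fin (m.len + 1)) :
    (cechNerveTerminalFrom X).map f.op ≫ nervePr X m i = nervePr X m' (f.toOrderHom i) := by
  simp [cechNerveTerminalFrom, nervePr]

theorem nerve_hom_ext {Z : C} {m : SimplexCategory} {f g : Z ⟶ (cechNerveTerminalFrom X).obj (op m)}
    (h : ∀ i, f ≫ nervePr X m i = g ≫ nervePr X m i) : f = g :=
  Limits.Pi.hom_ext _ _ h

noncomputable def toNerve {Y : SimplicialObject C} (φ : Y _⦋0⦌ ⟶ X) :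
    Y ⟶ cechNerveTerminalFrom X where
  app m := Limits.Pi.lift fun i => Y.map (SimplexCategory.const ⦋0⦌ m.unop i).op ≫ φ
  naturality m m' f := Limits.Pi.hom_ext _ _ fun i => by
    simp only [cechNerveTerminalFrom, Category.assoc, Limits.Pi.lift_π]
    rw [← Category.assoc, ← Functor.map_comp, ← Quiver.Hom.op_unop f, ← op_comp]
    congr 1

theorem toNerve_pr {Y : SimplicialObject C} (φ : Y _⦋0⦌ ⟶ X) (m : SimplexCategory) (i : Fin (m.len + 1)) :
    (toNerve X φ).app (op m) ≫ nervePr X m i = Y.map (SimplexCategory.const ⦋0⦌ m i).op ≫ φ :=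
  Limits.Pi.lift_π _ _

theorem app_pr_eq {Y : SimplicialObject C} (γ : Y ⟶ cechNerveTerminalFrom X) (m : SimplexCategory)
    (i : Fin (m.len + 1)) :
    γ.app (op m) ≫ nervePr X m i =
      Y.map (SimplexCategory.const ⦋0⦌ m i).op ≫ γ.app (op ⦋0⦌) ≫ nervePr X ⦋0⦌ 0 := by
  rw [γ.naturality_assoc, nervePr_map]
  rfl

theorem isCoskeletal (n : ℕ) : SimplicialObject.IsCoskeletal (cechNerveTerminalFrom X) n := by
  refine ⟨⟨⟨IsTerminal.ofUniqueHom (fun Y => ?_) ?_⟩⟩⟩
  · refine CostructuredArrow.homMk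
      (toNerve X (Y.hom.app (op ⟨⦋0⦌, Nat.zero_le n⟩) ≫ nervePr X ⦋0⦌ 0)) ?_
    ext ⟨⟨m, hm⟩⟩
    refine nerve_hom_ext X fun i => ?_
    change ((toNerve X _).app (op m) ≫ 𝟙 _) ≫ nervePr X m i = Y.hom.app (op ⟨m, hm⟩) ≫ nervePr X m i
    rw [Category.comp_id, toNerve_pr, ← Category.assoc]
    have h := Y.hom.naturality (X := op ⟨m, hm⟩) (Y := op ⟨⦋0⦌, Nat.zero_le n⟩)
      (ObjectProperty.homMk (SimplexCategory.const ⦋0⦌ m i)).op
    refine (congrArg (· ≫ nervePr X ⦋0⦌ 0) h).trans ?_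
    rw [Category.assoc]
    congr 1
    exact nervePr_map X (SimplexCategory.const ⦋0⦌ m i) 0
  · intro Y γ
    ext m
    induction m using Opposite.rec with
    | _ m =>
    refine nerve_hom_ext X fun i => ?_
    rw [show (CostructuredArrow.homMk _ _).left = toNerve X _ from rfl, toNerve_pr, app_pr_eq]
    congr 2
    have hw := NatTrans.congr_app (CostructuredArrow.w γ) (op ⟨⦋0⦌, Nat.zero_le n⟩)
    refine Eq.trans ?_ hw
    exact (Category.comp_id _).symm

end Groth.Agent.Hyper50
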