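import Mathlib.AlgebraicTopology.SimplicialObject.ChainHomotopy
import Mathlib.Algebra.Homology.ShortComplex.HomologicalComplex
import Groth.Prelude.Def_Hyper2

/-! Simplicial homotopies give cochain homotopies after applying a contravariant functor. -/

set_option autoImplicit false

universe w v u v' u'

open CategoryTheory CategoryTheory.Limits Opposite AlgebraicTopology Simplicial

namespace Groth.Agent.Hyper50

variable {D : Type u} [Category.{v} D] {E : Type u'} [Category.{v'} E] [Preadditive E]

/-- The cochain complex of a simplicial object under a contravariant functor. -/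
noncomputable abbrev coCx (F : Dᵒᵖ ⥤ E) (K : SimplicialObject D) : CochainComplex E ℕ :=
  (alternatingCofaceMapComplex E).obj (K.rightOp ⋙ F)

noncomputable abbrev coMap (F : Dᵒᵖ ⥤ E) {K L : SimplicialObject D} (f : L ⟶ K) :
    coCx F K ⟶ coCx F L :=
  (alternatingCofaceMapComplex E).map (Functor.whiskerRight (NatTrans.rightOp f) F)

theorem coCx_d (F : Dᵒᵖ ⥤ E) (K : SimplicialObject D) (n : ℕ) :
    (coCx F K).d n (n + 1) =
      (((alternatingFaceMapComplex Eᵒᵖ).obj
        (((SimplicialObject.whiskering D Eᵒᵖ).obj F.rightOp).obj K)).d (n + 1) n).unop := by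
  show CochainComplex.of.d _ (AlternatingCofaceMapComplex.objD (X := (K.rightOp ⋙ F : CosimplicialObject E))) n (n + 1) = _
  erw [CochainComplex.of_d]
  simp only [alternatingFaceMapComplex_obj_d, AlternatingFaceMapComplex.objD,
    AlternatingCofaceMapComplex.objD, unop_sum, unop_zsmul]
  rfl

variable (F : Dᵒᵖ ⥤ E) {K L : SimplicialObject D} {a b : L ⟶ K}

noncomputable def coHomotopy (H : SimplicialObject.Homotopy a b) :
    _root_.Homotopy (coMap F a) (coMap F b) where
  hom i j := ((H.whiskerRight F.rightOp).toChainHomotopy.hom j i).unop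
  zero i j hij := by
    rw [(H.whiskerRight F.rightOp).toChainHomotopy.zero j i hij]
    rfl
  comm n := by
    have h := congrArg Quiver.Hom.unop ((H.whiskerRight F.rightOp).toChainHomotopy.comm n)
    cases n with
    | zero =>
      rw [prevD_eq (j' := 1) (w := by simp), dNext_eq_zero _ _ (by simp), zero_add] at h
      rw [dNext_eq (i' := 1) (w := by simp), prevD_eq_zero _ _ (by simp), add_zero]
      rw [coCx_d]
      exact h
    | succ n =>
      rw [dNext_eq (i' := n) (w := by simp), prevD_eq (j' := n + 2) (w := by simp)] at h
      rw [dNext_eq (i' := n + 2) (w := by simp), prevD_eq (j' := n) (w := by simp), coCx_d, coCx_d]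
      refine h.trans ?_
      simp only [unop_add, unop_comp]
      congr 1
      exact add_comm _ _

end Groth.Agent.Hyper50
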