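import Groth.Agent.Hyper50.Dies
import Mathlib.CategoryTheory.Abelian.Images

/-! Čech classes die exactly when sheaf cohomology vanishes. -/

set_option autoImplicit false
set_option linter.unusedSectionVars false

universe u

open CategoryTheory CategoryTheory.Limits Opposite Simplicial CategoryTheory.Abelian

namespace Groth.Agent.Hyper50

variable {C : Type u} [SmallCategory C] {J : GrothendieckTopology C} [HasPullbacks C] {X : C}

section glob

variable (X) in
/-- The hypercovering given by the identity. -/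
def triv : SimplicialObject (FormalCoproduct.{u} (Over X)) :=
  (Functor.const SimplexCategoryᵒᵖ).obj ((FormalCoproduct.incl (Over X)).obj (Over.mk (𝟙 X)))

theorem triv_subsingleton (V : Over X) (k : SimplexCategoryᵒᵖ) :
    Subsingleton ((ev (triv X ⋙ Pts) V).obj k) := by
  constructor
  rintro ⟨⟨⟩, a⟩ ⟨⟨⟩, b⟩
  exact Sigma.ext rfl (heq_of_eq (Over.mkIdTerminal.hom_ext a b))

noncomputable def trivElt (V : Over X) (k : SimplexCategoryᵒᵖ) : (ev (triv X ⋙ Pts) V).obj k :=
  ⟨PUnit.unit, Over.mkIdTerminal.from V⟩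

theorem isHyp_triv : IsHyp (J.over X) (triv X ⋙ Pts) where
  zero U := ⟨⊤, (J.over X).top_mem U, fun V _ _ => ⟨trivElt V _⟩⟩
  fill n U a := ⟨⊤, (J.over X).top_mem U, fun V g _ => ⟨trivElt V _, Fam.ext' fun j f =>
    (triv_subsingleton V _).elim _ _⟩⟩

variable (K : SimplicialObject (FormalCoproduct.{u} (Over X)))

/-- The class of a global section. -/
noncomputable def globH (P : Cᵒᵖ ⥤ AddCommGrpCat.{u}) : P.obj (op X) ⟶ Hyper.cechH X K P 0 :=
  (Hyper.cechCx X K P).liftCycles (glob X K P) 1 (by simp) (by ext z; exact glob_d X K P z) ≫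
    (Hyper.cechCx X K P).homologyπ 0

theorem globH_map {P Q : Cᵒᵖ ⥤ AddCommGrpCat.{u}} (α : P ⟶ Q) (z : P.obj (op X)) :
    HomologicalComplex.homologyMap ((cechFun X K).map α) 0 (globH K P z) = globH K Q (α.app (op X) z) := by
  rw [globH, globH, ConcreteCategory.comp_apply, ConcreteCategory.comp_apply]
  rw [← ConcreteCategory.comp_apply, HomologicalComplex.homologyπ_naturality, ConcreteCategory.comp_apply]
  refine congrArg ((Hyper.cechCx X K Q).homologyπ 0)
    (((AddCommGrpCat.mono_iff_injective ((Hyper.cechCx X K Q).iCycles 0)).1 inferInstance) ?_)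
  rw [← ConcreteCategory.comp_apply]
  erw [HomologicalComplex.cyclesMap_i]
  rw [ConcreteCategory.comp_apply]
  refine (congrArg _ (ConcreteCategory.congr_hom ((Hyper.cechCx X K P).liftCycles_i _ _ _ _) z)).trans
    ((glob_map X K α z).trans ?_)
  exact (ConcreteCategory.congr_hom ((Hyper.cechCx X K Q).liftCycles_i (glob X K Q) 1 (by simp) (by ext y; exact glob_d X K Q y)) _).symm

variable {K}

theorem glob_cechMap {L : SimplicialObject (FormalCoproduct.{u} (Over X))} (f : L ⟶ K)
    (P : Cᵒᵖ ⥤ AddCommGrpCat.{u}) (z : P.obj (op X)) :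
    (Hyper.cechMap X f P).f 0 (glob X K P z) = glob X L P z := by
  refine cech_ext X L (P := P) 0 fun i => ?_
  refine (ConcreteCategory.congr_hom (Pi.lift_π
    (fun i : (L.obj (op ⦋0⦌)).I =>
      Pi.π (fun i : (K.obj (op ⦋0⦌)).I => P.obj (op ((K.obj (op ⦋0⦌)).obj i).left)) ((f.app (op ⦋0⦌)).f i) ≫
        P.map ((f.app (op ⦋0⦌)).φ i).left.op) i) _).trans ?_
  show P.map ((f.app (op ⦋0⦌)).φ i).left.op
    (Pi.π (fun i : (K.obj (op ⦋0⦌)).I => P.obj (op ((K.obj (op ⦋0⦌)).obj i).left)) _ (glob X K P z)) = _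
  rw [glob_π, glob_π, ← Functor.map_comp_apply, ← op_comp, Over.w]

theorem globH_refine {L : SimplicialObject (FormalCoproduct.{u} (Over X))} (f : L ⟶ K)
    (P : Cᵒᵖ ⥤ AddCommGrpCat.{u}) (z : P.obj (op X)) :
    Hyper.cechHMap X f P 0 (globH K P z) = globH L P z := by
  show HomologicalComplex.homologyMap (Hyper.cechMap X f P) 0 _ = _
  rw [globH, globH, ConcreteCategory.comp_apply, ConcreteCategory.comp_apply]
  rw [← ConcreteCategory.comp_apply, HomologicalComplex.homologyπ_naturality, ConcreteCategory.comp_apply]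
  refine congrArg ((Hyper.cechCx X L P).homologyπ 0)
    (((AddCommGrpCat.mono_iff_injective ((Hyper.cechCx X L P).iCycles 0)).1 inferInstance) ?_)
  rw [← ConcreteCategory.comp_apply, HomologicalComplex.cyclesMap_i, ConcreteCategory.comp_apply]
  refine (congrArg _ (ConcreteCategory.congr_hom ((Hyper.cechCx X K P).liftCycles_i _ _ _ _) z)).trans
    ((glob_cechMap f P z).trans ?_)
  exact (ConcreteCategory.congr_hom ((Hyper.cechCx X L P).liftCycles_i (glob X L P) 1 (by simp) (by ext y; exact glob_d X L P y)) _).symm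

theorem globH_surjective (hK : IsHyp (J.over X) (K ⋙ Pts)) (F : Sheaf J AddCommGrpCat.{u})
    (ξ : Hyper.cechH X K F.obj 0) : ∃ z, globH K F.obj z = ξ := by
  let c := Hyper.cechCx X K F.obj
  obtain ⟨a, rfl⟩ := (AddCommGrpCat.epi_iff_surjective (c.homologyπ 0)).1 inferInstance ξ
  obtain ⟨z, hz⟩ := exists_glob_eq X K hK F (c.iCycles 0 a) (ConcreteCategory.congr_hom (c.iCycles_d 0 1) a)
  refine ⟨z, congrArg (c.homologyπ 0) ((AddCommGrpCat.mono_iff_injective (c.iCycles 0)).1 inferInstance ?_)⟩
  exact (ConcreteCategory.congr_hom (c.liftCycles_i _ _ _ _) z).trans hz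

theorem globH_injective (hK : IsHyp (J.over X) (K ⋙ Pts)) (F : Sheaf J AddCommGrpCat.{u})
    {z w : F.obj.obj (op X)} (h : globH K F.obj z = globH K F.obj w) : z = w := by
  let c := Hyper.cechCx X K F.obj
  have h1 := congrArg (c.iCycles 0) ((AddCommGrpCat.mono_iff_injective (c.homologyπ 0)).1 inferInstance h)
  have h2 : glob X K F.obj z = glob X K F.obj w :=
    ((ConcreteCategory.congr_hom (c.liftCycles_i _ _ _ _) z).symm.trans h1).trans
      (ConcreteCategory.congr_hom (c.liftCycles_i _ _ _ _) w)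
  refine sec_ext F ((zero_iff J X K).2 hK.zero) fun V g hg => ?_
  obtain ⟨i, a, rfl⟩ := Sieve.mem_ofArrows_iff _ _ _ |>.1 hg
  rw [op_comp, Functor.map_comp_apply, Functor.map_comp_apply, ← glob_π X K F.obj z i,
    ← glob_π X K F.obj w i, h2]

theorem dies_zero_iff (F : Sheaf J AddCommGrpCat.{u}) :
    Dies J X F.obj 0 ↔ ∀ z : F.obj.obj (op X), z = 0 := by
  refine ⟨fun h z => ?_, fun h K hK ξ => ?_⟩
  · obtain ⟨L, f, hL, hf⟩ := h (triv X) isHyp_triv (globH (triv X) F.obj z)
    rw [globH_refine] at hf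
    exact globH_injective hL F (hf.trans (map_zero _).symm)
  · obtain ⟨z, rfl⟩ := globH_surjective hK F ξ
    exact ⟨K, 𝟙 K, hK, by rw [globH_refine, h z, map_zero]⟩

end glob

section transfer

variable {A B : Cᵒᵖ ⥤ AddCommGrpCat.{u}} (η : A ⟶ B)

/-- Maps with locally zero kernel and cokernel do not change dying of classes. -/
theorem dies_iff_of_locallyBijective
    (hinj : IsLocallyZero J (kernel η)) (hsurj : IsLocallyZero J (cokernel η)) (q : ℕ) :
    Dies J X A q ↔ Dies J X B q := by
  let S1 := ShortComplex.mk (kernel.ι η) (cokernel.π (kernel.ι η)) (cokernel.condition _)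
  let S2 := ShortComplex.mk (Abelian.factorThruCoimage η) (cokernel.π η) (by
    rw [← cancel_epi (Abelian.coimage.π η), ← Category.assoc, Abelian.coimage.fac, cokernel.condition,
      comp_zero])
  have h1 : SecSES S1 := secSES_of_shortExact
    { exact := ShortComplex.exact_of_g_is_cokernel _ (cokernelIsCokernel (kernel.ι η))
      mono_f := inferInstance
      epi_g := inferInstance }
  have h2 : SecSES S2 := secSES_of_shortExact
    { exact := by
        refine ShortComplex.exact_of_g_is_cokernel _ ?_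
        exact CokernelCofork.IsColimit.ofπ' (cokernel.π η) _ (fun {W} k hk => ⟨cokernel.desc η k (by
            rw [← Abelian.coimage.fac η, Category.assoc, hk, comp_zero]), cokernel.π_desc _ _ _⟩)
      mono_f := inferInstance
      epi_g := inferInstance }
  have d1 : ∀ p, Dies J X (kernel η) p := Dies.of_isLocallyZero hinj
  have d2 : ∀ p, Dies J X (cokernel η) p := Dies.of_isLocallyZero hsurj
  have e1 : Dies J X A q ↔ Dies J X (Abelian.coimage η) q :=
    ⟨fun h => dies_right_of_middle J X h1 (d1 (q + 1)) h, fun h => dies_middle_of_left J X h1 h (d1 q)⟩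
  have e2 : Dies J X (Abelian.coimage η) q ↔ Dies J X B q :=
    ⟨fun h => dies_middle_of_left J X h2 (d2 q) h, fun h => dies_left_of_middle J X h2 (fun p _ => d2 p) h⟩
  exact e1.trans e2

end transfer

end Groth.Agent.Hyper50
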