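import Groth.Agent.Hyper50.IffHyp
import Mathlib.CategoryTheory.Limits.Preserves.FunctorCategory

/-! Base change of hypercoverings. -/

set_option autoImplicit false
set_option linter.unusedSectionVars false

universe u

open CategoryTheory CategoryTheory.Limits Opposite Simplicial

namespace Groth.Agent.Hyper50

variable {C : Type u} [SmallCategory C] (J : GrothendieckTopology C) [HasPullbacks C]
  [∀ (n : ℕ) (F : (SimplexCategory.Truncated n)ᵒᵖ ⥤ FormalCoproduct.{u} C),
    (SimplexCategory.Truncated.inclusion n).op.HasRightKanExtension F]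

theorem isLocFib_of_gamma [∀ (n : ℕ) (F : (SimplexCategory.Truncated n)ᵒᵖ ⥤ FormalCoproduct.{u} C),
      (SimplexCategory.Truncated.inclusion n).op.HasPointwiseRightKanExtension F]
    {L M : SimplicialObject (FormalCoproduct.{u} C)} (b : M ⟶ L)
    (h0 : Hyper.IsSRCovering J (b.app (op ⦋0⦌)))
    (hγ : ∀ (n : ℕ) (Q : FormalCoproduct.{u} C)
      (q1 : Q ⟶ L.obj (op ⦋n + 1⦌))
      (q2 : Q ⟶ ((SimplicialObject.truncation n ⋙ SimplicialObject.Truncated.cosk n).obj M).obj
        (op ⦋n + 1⦌))
      (γ : M.obj (op ⦋n + 1⦌) ⟶ Q),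
      IsPullback q1 q2 (((SimplicialObject.coskAdj n).unit.app L).app (op ⦋n + 1⦌))
        (((SimplicialObject.truncation n ⋙ SimplicialObject.Truncated.cosk n).map b).app
          (op ⦋n + 1⦌)) →
      γ ≫ q1 = b.app (op ⦋n + 1⦌) →
      γ ≫ q2 = ((SimplicialObject.coskAdj n).unit.app M).app (op ⦋n + 1⦌) →
      Hyper.IsSRCovering J γ) :
    IsLocFib J (Functor.whiskerRight b Pts : pts M ⟶ pts L) where
  zero := (isSRCovering_iff J _).1 h0
  fill n U a x hx := by
    let η := (SimplicialObject.coskAdj (C := FormalCoproduct.{u} C) n).unit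
    let T := SimplicialObject.truncation n ⋙ SimplicialObject.Truncated.cosk (C := FormalCoproduct.{u} C) n
    have sqn : b ≫ η.app L = η.app M ≫ T.map b := η.naturality b
    let pη : ∀ K, pts K ⟶ pts (T.obj K) := fun K => Functor.whiskerRight (η.app K) Pts
    let pb : pts M ⟶ pts L := Functor.whiskerRight b Pts
    let pT : pts (T.obj M) ⟶ pts (T.obj L) := Functor.whiskerRight (T.map b) Pts
    have sq : ∀ V, evMap pb V ≫ evMap (pη L) V = evMap (pη M) V ≫ evMap pT V := fun V => by
      simp only [pb, pη, pT, evMap, ← Functor.whiskerRight_comp, sqn]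
    have hu : ∀ (K : SimplicialObject (FormalCoproduct.{u} C)) (V : C)
        (c : Fam (ev (pts (T.obj K)) V) n (n + 1)), ∃! z, Fam.ofSimplex z = c := fun K V c => by
      have : SimplicialObject.IsCoskeletal (T.obj K) n := isCoskeletal_cosk n K
      have := ev_pts_coskeletal n (T.obj K) V
      exact c.existsUnique_ofSimplex
    obtain ⟨z, hz, -⟩ := hu M U (a.map (evMap (pη M) U))
    have hxz : (evMap (pη L) U).app _ x = (evMap pT U).app _ z := by
      refine (hu L U (a.map (evMap pb U ≫ evMap (pη L) U))).unique ?_ ?_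
      · rw [← Fam.map_map, ← hx, Fam.map_ofSimplex]
      · rw [sq, ← Fam.map_map, ← hz, Fam.map_ofSimplex]
    let f1 := (η.app L).app (op ⦋n + 1⦌)
    let f2 := (T.map b).app (op ⦋n + 1⦌)
    let γ : M.obj (op ⦋n + 1⦌) ⟶ pullback f1 f2 :=
      pullback.lift (b.app _) ((η.app M).app _) (NatTrans.congr_app sqn _)
    have hcov : Presheaf.IsLocallySurjective J (Pts.map γ) := (isSRCovering_iff J γ).1
      (hγ n _ _ _ γ (IsPullback.of_hasPullback f1 f2) (pullback.lift_fst _ _ _) (pullback.lift_snd _ _ _))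
    obtain ⟨q, hq1, hq2⟩ := Types.exists_of_isPullback
      (((IsPullback.of_hasPullback f1 f2).map Pts).map ((evaluation _ _).obj (op U))) x z hxz
    refine ⟨_, Presheaf.imageSieve_mem J (Pts.map γ) (U := op U) q, fun V g hg => ?_⟩
    obtain ⟨t, ht⟩ := hg
    have e1 : (evMap pb V).app _ t = (res (pts L) g).app _ x := by
      have h := congrArg ((Pts.map (pullback.fst f1 f2)).app (op V)) ht
      rw [← ConcreteCategory.comp_apply, ← NatTrans.comp_app, ← Functor.map_comp, pullback.lift_fst,
        NatTrans.naturality_apply] at h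
      exact h.trans (congrArg _ hq1)
    have e2 : (evMap (pη M) V).app _ t = (res (pts (T.obj M)) g).app _ z := by
      have h := congrArg ((Pts.map (pullback.snd f1 f2)).app (op V)) ht
      rw [← ConcreteCategory.comp_apply, ← NatTrans.comp_app, ← Functor.map_comp, pullback.lift_snd,
        NatTrans.naturality_apply] at h
      exact h.trans (congrArg _ hq2)
    refine ⟨t, ?_, e1⟩
    refine (Fam.map_bijective (evMap (pη M) V) (fun j hj => ?_)).1 ?_
    · have := isIso_unit_app n M hj
      exact ConcreteCategory.bijective_of_isIso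
        ((Pts ⋙ (evaluation Cᵒᵖ (Type u)).obj (op V)).map ((η.app M).app (op ⦋j⦌)))
    · rw [Fam.map_ofSimplex, e2, ← Fam.map_ofSimplex, hz, Fam.map_map, Fam.map_map, res_evMap]

theorem isPullback_pts {K L M P : SimplicialObject (FormalCoproduct.{u} C)} {a : K ⟶ L} {b : M ⟶ L}
    {p1 : P ⟶ K} {p2 : P ⟶ M} (hP : IsPullback p1 p2 a b) :
    IsPullback (Functor.whiskerRight p1 Pts : pts P ⟶ pts K) (Functor.whiskerRight p2 Pts)
      (Functor.whiskerRight a Pts) (Functor.whiskerRight b Pts) :=
  hP.map ((Functor.whiskeringRight SimplexCategoryᵒᵖ (FormalCoproduct.{u} C) (Cᵒᵖ ⥤ Type u)).obj Pts)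

end Groth.Agent.Hyper50
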