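import Groth.Agent.Hyper50.PathFib
import Groth.Agent.Hyper50.Pullback
import Groth.Agent.Hyper50.Compare

/-! Hypercoverings up to homotopy are cofiltered. -/

set_option autoImplicit false
set_option linter.unusedSectionVars false

universe u

open CategoryTheory CategoryTheory.Limits Opposite Simplicial

namespace Groth.Agent.Hyper50

variable {C : Type u} [SmallCategory C] [HasPullbacks C] {J : GrothendieckTopology C} {X : C}

/-- The map to the trivial hypercovering. -/
noncomputable def toTriv (L : SimplicialObject (FormalCoproduct.{u} (Over X))) : L ⟶ triv X where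
  app k := ⟨fun _ => PUnit.unit, fun i => Over.mkIdTerminal.from _⟩
  naturality k k' θ := FormalCoproduct.hom_ext rfl fun i => Over.mkIdTerminal.hom_ext _ _

theorem isLocFib_toTriv (L : SimplicialObject (FormalCoproduct.{u} (Over X))) (hL : IsHyp (J.over X) (pts L)) :
    IsLocFib (J.over X) (Functor.whiskerRight (toTriv L) Pts : pts L ⟶ pts (triv X)) where
  zero := ⟨fun {U} s => by
    obtain ⟨R, hR, h⟩ := hL.zero U
    exact (J.over X).superset_covering (fun V g hg => ⟨(h g hg).some, (triv_subsingleton V _).elim _ _⟩) hR⟩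
  fill n U a x _ := by
    obtain ⟨R, hR, h⟩ := hL.fill n U a
    refine ⟨R, hR, fun V g hg => ?_⟩
    obtain ⟨y, hy⟩ := h g hg
    exact ⟨y, hy, (triv_subsingleton V _).elim _ _⟩

theorem exists_common (K L : SimplicialObject (FormalCoproduct.{u} (Over X)))
    (hK : IsHyp (J.over X) (pts K)) (hL : IsHyp (J.over X) (pts L)) :
    ∃ (M : SimplicialObject (FormalCoproduct.{u} (Over X))) (_ : M ⟶ K) (_ : M ⟶ L), IsHyp (J.over X) (pts M) := by
  have h := IsPullback.of_hasPullback (toTriv K) (toTriv L)
  refine ⟨pullback (toTriv K) (toTriv L), pullback.fst _ _, pullback.snd _ _, ?_⟩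
  exact IsHyp.of_locFib (IsLocFib.of_isPullback (h.map ((Functor.whiskeringRight SimplexCategoryᵒᵖ
    (FormalCoproduct.{u} (Over X)) ((Over X)ᵒᵖ ⥤ Type u)).obj Pts)) (isLocFib_toTriv L hL)) hK

theorem exists_homotopic (K L : SimplicialObject (FormalCoproduct.{u} (Over X)))
    (hK : IsHyp (J.over X) (pts K)) (hL : IsHyp (J.over X) (pts L)) (a b : K ⟶ L) :
    ∃ (M : SimplicialObject (FormalCoproduct.{u} (Over X))) (c : M ⟶ K),
      IsHyp (J.over X) (pts M) ∧ Nonempty (SimplicialObject.Homotopy (c ≫ a) (c ≫ b)) := by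
  let q := PathFib.endsMap L
  have h := IsPullback.of_hasPullback (prod.lift a b) q
  let M := pullback (prod.lift a b) q
  let c : M ⟶ K := pullback.fst _ _
  let p : M ⟶ Path.P L := pullback.snd _ _
  refine ⟨M, c, IsHyp.of_locFib (IsLocFib.of_isPullback (h.map ((Functor.whiskeringRight SimplexCategoryᵒᵖ
    (FormalCoproduct.{u} (Over X)) ((Over X)ᵒᵖ ⥤ Type u)).obj Pts)) (PathFib.isLocFib_endsMap L hL)) hK, ?_⟩
  have w : c ≫ prod.lift a b = p ≫ q := pullback.condition
  have h0 : c ≫ a = p ≫ Path.ends L 0 := by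
    have := congrArg (fun t => t ≫ (prod.fst : L ⨯ L ⟶ L)) w
    exact (congrArg (c ≫ ·) (prod.lift_fst a b).symm).trans ((Category.assoc _ _ _).symm.trans
      (this.trans ((Category.assoc _ _ _).trans (congrArg (p ≫ ·) (prod.lift_fst _ _)))))
  have h1 : c ≫ b = p ≫ Path.ends L 1 := by
    have := congrArg (fun t => t ≫ (prod.snd : L ⨯ L ⟶ L)) w
    exact (congrArg (c ≫ ·) (prod.lift_snd a b).symm).trans ((Category.assoc _ _ _).symm.trans
      (this.trans ((Category.assoc _ _ _).trans (congrArg (p ≫ ·) (prod.lift_snd _ _)))))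
  rw [h0, h1]
  exact ⟨(Path.homotopy L).precomp p⟩

end Groth.Agent.Hyper50
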