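import Groth.Agent.Hyper50.Bridge
import Mathlib.AlgebraicTopology.SimplicialObject.Homotopy
import Mathlib.AlgebraicTopology.SimplexCategory.Basic

/-! Maps into a coskeletal object agreeing in low degrees are homotopic. -/

set_option autoImplicit false
set_option linter.unusedSectionVars false

universe v u

open CategoryTheory CategoryTheory.Limits Opposite Simplicial

namespace Groth.Agent.Hyper50

namespace CoskHomotopy

variable {E : Type u} [Category.{v} E] {X X' : SimplicialObject E} (F G : X ⟶ X') (n : ℕ)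

/-- All values are one. -/
def AllOne {j : SimplexCategory} (ψ : j ⟶ ⦋1⦌) : Prop := ∀ i, ψ.toOrderHom i = 1

open Classical in
/-- The prism map on truncated levels. -/
noncomputable def phi {j : SimplexCategory} (ψ : j ⟶ ⦋1⦌) : X.obj (op j) ⟶ X'.obj (op j) :=
  if AllOne ψ then G.app (op j) else F.app (op j)

variable {F G n}

theorem agree (h : ∀ p, p < n → F.app (op ⦋p⦌) = G.app (op ⦋p⦌)) {i j : SimplexCategory} (θ : i ⟶ j)
    (hi : i.len ≤ n) (hj : j.len ≤ n) (hθ : ¬ Mono θ ∨ i.len < n ∨ j.len < n) :
    X.map θ.op ≫ F.app (op i) = X.map θ.op ≫ G.app (op i) := by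
  have h' : ∀ l : SimplexCategory, l.len < n → F.app (op l) = G.app (op l) := fun l hl => h l.len hl
  by_cases hi' : i.len < n
  · rw [h' i hi']
  by_cases hj' : j.len < n
  · rw [F.naturality, G.naturality, h' j hj']
  have hθ' : ¬ Mono θ := (hθ.resolve_right fun h'' => h''.elim hi' hj')
  have hl : (image θ).len < n := by
    by_contra hl
    refine hθ' ?_
    have hle := SimplexCategory.len_le_of_epi (factorThruImage θ)
    have : IsIso (factorThruImage θ) := (SimplexCategory.isIso_iff_of_epi (factorThruImage θ)).2 (by omega)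
    rw [← image.fac θ]
    infer_instance
  rw [← image.fac θ, op_comp, X.map_comp, Category.assoc, Category.assoc, F.naturality, G.naturality,
    h' _ hl]

theorem phi_naturality (h : ∀ p, p < n → F.app (op ⦋p⦌) = G.app (op ⦋p⦌)) {i j : SimplexCategory}
    (θ : i ⟶ j) (hi : i.len ≤ n) (hj : j.len ≤ n) (ψ : j ⟶ ⦋1⦌) :
    phi F G ψ ≫ X'.map θ.op = X.map θ.op ≫ phi F G (θ ≫ ψ) := by
  classical
  by_cases hψ : AllOne ψ
  · rw [phi, phi, if_pos hψ, if_pos (show AllOne (θ ≫ ψ) from fun l => hψ _)]
    exact (G.naturality _).symm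
  · rw [phi, if_neg hψ, phi]
    by_cases hθψ : AllOne (θ ≫ ψ)
    · rw [if_pos hθψ]
      refine (F.naturality _).symm.trans (agree h θ hi hj ?_)
      by_contra hc
      push Not at hc
      obtain ⟨hm, hi', hj'⟩ := hc
      refine hψ fun l => ?_
      obtain ⟨l', rfl⟩ := ((Fintype.bijective_iff_injective_and_card _).2
        ⟨SimplexCategory.mono_iff_injective.1 hm, by simp; omega⟩).2 l
      exact hθψ l'
    · rw [if_neg hθψ]
      exact (F.naturality _).symm

/-- The step function on `⦋k + 1⦌` at `i`. -/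
def chi {k : ℕ} (i : Fin (k + 1)) : ⦋k + 1⦌ ⟶ ⦋1⦌ :=
  SimplexCategory.Hom.mk
    { toFun := fun l : Fin (k + 2) => if (i : ℕ) < (l : ℕ) then (1 : Fin 2) else 0
      monotone' := by
        intro a b hab
        have : (a : ℕ) ≤ (b : ℕ) := hab
        dsimp only
        split_ifs <;> first | exact le_refl _ | exact Fin.zero_le _ | omega }

theorem val_succAbove {m : ℕ} (p : Fin (m + 1)) (l : Fin m) :
    (p.succAbove l : ℕ) = if (l : ℕ) < p then (l : ℕ) else (l : ℕ) + 1 := by
  unfold Fin.succAbove
  split_ifs <;> simp_all [Fin.lt_def]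

theorem val_predAbove {m : ℕ} (p : Fin m) (l : Fin (m + 1)) :
    (p.predAbove l : ℕ) = if (p : ℕ) < l then (l : ℕ) - 1 else (l : ℕ) := by
  by_cases h : (p : ℕ) < l
  · rw [Fin.predAbove_of_castSucc_lt _ _ (show p.castSucc < l from h), if_pos h, Fin.val_pred]
  · rw [Fin.predAbove_of_le_castSucc _ _ (show l ≤ p.castSucc from not_lt.1 h), if_neg h,
      Fin.coe_castPred]

theorem chi_apply {k : ℕ} (i : Fin (k + 1)) (l : Fin (k + 2)) :
    (chi i).toOrderHom l = if (i : ℕ) < (l : ℕ) then (1 : Fin 2) else 0 :=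
  rfl

section lift

variable (n) [SimplicialObject.IsCoskeletal X' n]
  [Functor.HasPointwiseRightKanExtension (SimplexCategory.Truncated.inclusion n).op
    ((SimplexCategory.Truncated.inclusion n).op ⋙ X')]
  (h : ∀ p, p < n → F.app (op ⦋p⦌) = G.app (op ⦋p⦌))

noncomputable def limCone (p : SimplexCategory) :=
  Functor.isPointwiseRightKanExtensionOfIsRightKanExtension X'
    (𝟙 ((SimplexCategory.Truncated.inclusion n).op ⋙ X')) (op p)

/-- The prism cone. -/
noncomputable def prismCone {p : SimplexCategory} (χ : p ⟶ ⦋1⦌) :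
    Cone (StructuredArrow.proj (op p) (SimplexCategory.Truncated.inclusion n).op ⋙
      (SimplexCategory.Truncated.inclusion n).op ⋙ X') where
  pt := X.obj (op p)
  π :=
    { app := fun e => X.map e.hom ≫ phi F G (e.hom.unop ≫ χ)
      naturality := fun e e' φ => by
        have w : e'.hom = e.hom ≫ φ.right.unop.hom.op := (StructuredArrow.w φ).symm
        show 𝟙 _ ≫ X.map e'.hom ≫ phi F G (e'.hom.unop ≫ χ) =
          (X.map e.hom ≫ phi F G (e.hom.unop ≫ χ)) ≫ X'.map φ.right.unop.hom.op
        rw [Category.id_comp, Category.assoc,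
          phi_naturality h φ.right.unop.hom e'.right.unop.property e.right.unop.property, w,
          X.map_comp, Category.assoc, unop_comp, Quiver.Hom.unop_op, Category.assoc] }

noncomputable def prism {p : SimplexCategory} (χ : p ⟶ ⦋1⦌) : X.obj (op p) ⟶ X'.obj (op p) :=
  (limCone n p).lift (prismCone n h χ)

theorem prism_fac {p : SimplexCategory} (χ : p ⟶ ⦋1⦌) (j : SimplexCategory.Truncated n)
    (f : j.obj ⟶ p) : prism n h χ ≫ X'.map f.op = X.map f.op ≫ phi F G (f ≫ χ) := by
  have h' := (limCone n p).fac (prismCone n h χ)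
    (StructuredArrow.mk (S := op p) (Y := op j) (T := (SimplexCategory.Truncated.inclusion n).op) f.op)
  exact (congrArg (fun k => prism n h χ ≫ k) (Category.comp_id _).symm).trans h'

theorem hom_ext {p : SimplexCategory} {Z : E} {a b : Z ⟶ X'.obj (op p)}
    (hab : ∀ (j : SimplexCategory.Truncated n) (f : j.obj ⟶ p), a ≫ X'.map f.op = b ≫ X'.map f.op) :
    a = b :=
  (limCone n p).hom_ext fun e =>
    (congrArg (fun k => a ≫ k) (Category.comp_id (X'.map e.hom))).trans
      ((hab e.right.unop e.hom.unop).trans (congrArg (fun k => b ≫ k) (Category.comp_id (X'.map e.hom)).symm))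

theorem prism_naturality {p q : SimplexCategory} (θ : q ⟶ p) (χ : p ⟶ ⦋1⦌) :
    prism n h χ ≫ X'.map θ.op = X.map θ.op ≫ prism n h (θ ≫ χ) := by
  refine hom_ext n fun j f => ?_
  rw [Category.assoc, Category.assoc, ← X'.map_comp, ← op_comp, prism_fac n h, prism_fac n h,
    op_comp, X.map_comp, Category.assoc, Category.assoc]

theorem prism_const_one {p : SimplexCategory} {χ : p ⟶ ⦋1⦌} (hχ : AllOne χ) :
    prism n h χ = G.app (op p) := by
  classical
  refine hom_ext n fun j f => ?_
  rw [prism_fac n h, phi, if_pos (show AllOne (f ≫ χ) from fun l => hχ _)]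
  exact (G.naturality f.op)

theorem prism_const_zero {p : SimplexCategory} {χ : p ⟶ ⦋1⦌} (hχ : ∀ l, χ.toOrderHom l = 0) :
    prism n h χ = F.app (op p) := by
  classical
  refine hom_ext n fun j f => ?_
  rw [prism_fac n h, phi, if_neg (show ¬ AllOne (f ≫ χ) from fun hh => by
    have h0 := (hh 0).symm.trans (hχ _)
    exact absurd h0 (by decide))]
  exact (F.naturality f.op)

/-- The homotopy. -/
noncomputable def homotopy : SimplicialObject.Homotopy F G where
  h {k} i := X.σ i ≫ prism n h (chi i)
  h_zero_comp_δ_zero k := by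
    show (X.σ 0 ≫ prism n h (chi 0)) ≫ X'.map (SimplexCategory.δ 0).op = _
    rw [Category.assoc, prism_naturality n h, prism_const_one n h (fun l => ?_), ← Category.assoc]
    · erw [X.δ_comp_σ_self' (H := (Fin.castSucc_zero).symm), Category.id_comp]
    · show (chi 0).toOrderHom (Fin.succAbove 0 l) = 1
      rw [chi_apply, if_pos (by simp)]
  h_last_comp_δ_last k := by
    show (X.σ (Fin.last k) ≫ prism n h (chi (Fin.last k))) ≫ X'.map (SimplexCategory.δ (Fin.last (k + 1))).op = _
    rw [Category.assoc, prism_naturality n h, prism_const_zero n h (fun l => ?_), ← Category.assoc]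
    · erw [X.δ_comp_σ_succ' (H := (Fin.succ_last k).symm), Category.id_comp]
    · show (chi (Fin.last k)).toOrderHom ((Fin.last (k + 1)).succAbove l) = 0
      have hl : (l : Fin (k + 1)).1 < k + 1 := l.2
      rw [chi_apply, if_neg (by simp; omega)]
  h_succ_comp_δ_castSucc_of_lt {k} i j hij := by
    show (X.σ j.succ ≫ prism n h (chi j.succ)) ≫ X'.map (SimplexCategory.δ i.castSucc).op = _
    rw [Category.assoc, prism_naturality n h, ← Category.assoc]
    erw [X.δ_comp_σ_of_le hij]
    rw [Category.assoc]
    congr 3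
    ext l : 3
    show (chi j.succ).toOrderHom (i.castSucc.succAbove l) = (chi j).toOrderHom l
    have : (i : ℕ) ≤ (j : ℕ) := hij
    rw [chi_apply, chi_apply]
    apply if_congr _ rfl rfl
    rw [val_succAbove]; simp only [Fin.val_castSucc, Fin.val_succ]; split_ifs <;> omega
  h_succ_comp_δ_castSucc_succ {k} j := by
    show (X.σ j.succ ≫ prism n h (chi j.succ)) ≫ X'.map (SimplexCategory.δ j.castSucc.succ).op =
      (X.σ j.castSucc ≫ prism n h (chi j.castSucc)) ≫ X'.map (SimplexCategory.δ j.castSucc.succ).op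
    rw [Category.assoc, Category.assoc, prism_naturality n h, prism_naturality n h, ← Category.assoc,
      ← Category.assoc]
    erw [X.δ_comp_σ_self' (H := Fin.succ_castSucc j |>.symm ▸ rfl), X.δ_comp_σ_succ]
    congr 2
    ext l : 3
    show (chi j.succ).toOrderHom (j.castSucc.succ.succAbove l) = (chi j.castSucc).toOrderHom (j.castSucc.succ.succAbove l)
    rw [chi_apply, chi_apply]
    apply if_congr _ rfl rfl
    rw [val_succAbove]; simp only [Fin.val_castSucc, Fin.val_succ]; split_ifs <;> omega
  h_castSucc_comp_δ_succ_of_lt {k} i j hji := by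
    show (X.σ j.castSucc ≫ prism n h (chi j.castSucc)) ≫ X'.map (SimplexCategory.δ i.succ).op = _
    rw [Category.assoc, prism_naturality n h, ← Category.assoc]
    erw [X.δ_comp_σ_of_gt hji]
    rw [Category.assoc]
    congr 3
    ext l : 3
    show (chi j.castSucc).toOrderHom (i.succ.succAbove l) = (chi j).toOrderHom l
    have : (j : ℕ) < (i : ℕ) := hji
    rw [chi_apply, chi_apply]
    apply if_congr _ rfl rfl
    rw [val_succAbove]; simp only [Fin.val_castSucc, Fin.val_succ]; split_ifs <;> omega
  h_comp_σ_castSucc_of_le {k} i j hij := by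
    show (X.σ j ≫ prism n h (chi j)) ≫ X'.map (SimplexCategory.σ i.castSucc).op = _
    rw [Category.assoc, prism_naturality n h, ← Category.assoc, ← Category.assoc]
    erw [X.σ_comp_σ hij]
    congr 2
    ext l : 3
    show (chi j).toOrderHom (i.castSucc.predAbove l) = (chi j.succ).toOrderHom l
    have : (i : ℕ) ≤ (j : ℕ) := hij
    rw [chi_apply, chi_apply]
    apply if_congr _ rfl rfl
    rw [val_predAbove]; simp only [Fin.val_castSucc, Fin.val_succ]; split_ifs <;> omega
  h_comp_σ_succ_of_lt {k} i j hji := by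
    show (X.σ j ≫ prism n h (chi j)) ≫ X'.map (SimplexCategory.σ i.succ).op = _
    rw [Category.assoc, prism_naturality n h, ← Category.assoc, ← Category.assoc]
    erw [← X.σ_comp_σ hji]
    congr 2
    ext l : 3
    show (chi j).toOrderHom (i.succ.predAbove l) = (chi j.castSucc).toOrderHom l
    have : (j : ℕ) ≤ (i : ℕ) := hji
    rw [chi_apply, chi_apply]
    apply if_congr _ rfl rfl
    rw [val_predAbove]; simp only [Fin.val_castSucc, Fin.val_succ]; split_ifs <;> omega

end lift

end CoskHomotopy

end Groth.Agent.Hyper50
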