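import Mathlib.CategoryTheory.Sites.Sheaf
import Mathlib.CategoryTheory.Sites.SheafOfTypes
import Mathlib.Algebra.Category.Grp.Limits

/-! Gluing sections of abelian sheaves. -/

set_option autoImplicit false

universe u

open CategoryTheory CategoryTheory.Limits Opposite

namespace Groth.Agent.Hyper50

variable {C : Type u} [SmallCategory C] {J : GrothendieckTopology C} (F : Sheaf J AddCommGrpCat.{u})

theorem forget_isSheaf : Presieve.IsSheaf J (F.obj ⋙ CategoryTheory.forget AddCommGrpCat.{u}) :=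
  (isSheaf_iff_isSheaf_of_type J _).1
    ((Presheaf.isSheaf_iff_isSheaf_forget J F.obj (CategoryTheory.forget AddCommGrpCat.{u})).1 F.property)

theorem sec_ext {U : C} {R : Sieve U} (hR : R ∈ J U) {s t : F.obj.obj (op U)}
    (h : ∀ ⦃V : C⦄ (g : V ⟶ U), R g → F.obj.map g.op s = F.obj.map g.op t) : s = t :=
  ((forget_isSheaf F) R hR).isSeparatedFor.ext fun _ g hg => h g hg

theorem sec_glue {U : C} {R : Sieve U} (hR : R ∈ J U)
    (x : ∀ ⦃V : C⦄ (g : V ⟶ U), R g → F.obj.obj (op V))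
    (hx : ∀ ⦃V W : C⦄ (g : V ⟶ U) (hg : R g) (k : W ⟶ V),
      F.obj.map k.op (x g hg) = x (k ≫ g) (R.downward_closed hg k)) :
    ∃ s : F.obj.obj (op U), ∀ ⦃V : C⦄ (g : V ⟶ U) (hg : R g), F.obj.map g.op s = x g hg := by
  let fam : Presieve.FamilyOfElements (F.obj ⋙ CategoryTheory.forget AddCommGrpCat.{u}) R.arrows := x
  have hfam : fam.Compatible := (Presieve.compatible_iff_sieveCompatible fam).2
    fun V W g k hg => (hx g hg k).symm
  obtain ⟨s, hs, -⟩ := (forget_isSheaf F) R hR fam hfam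
  exact ⟨s, hs⟩

end Groth.Agent.Hyper50
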