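import Groth.Agent.Hyper50.Fam
import Groth.Agent.Hyper50.Sections
import Groth.Agent.Hyper50.SheafElem
import Mathlib.Algebra.Homology.ShortComplex.HomologicalComplex
import Mathlib.CategoryTheory.Limits.ConcreteCategory.Basic

/-! Degree zero Čech cohomology of a hypercovering. -/

set_option autoImplicit false
set_option linter.unusedSectionVars false

universe u

open CategoryTheory CategoryTheory.Limits Opposite Simplicial AlgebraicTopology

namespace Groth.Agent.Hyper50

/-- A family for the edge with given end points. -/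
def Fam.ofPair {S : SSet.{u}} (a : Fin 2 → S.obj (op ⦋0⦌)) : Fam S 0 1 where
  val j f := S.map (eqToHom (show j.obj = ⦋0⦌ from SimplexCategory.ext (Nat.le_zero.1 j.property))).op
    (a ((eqToHom (show ⦋0⦌ = j.obj from SimplexCategory.ext (Nat.le_zero.1 j.property).symm) ≫ f).toOrderHom 0))
  nat := fun ⟨i, hi⟩ ⟨j, hj⟩ g f => by
    obtain rfl : i = ⦋0⦌ := SimplexCategory.ext (Nat.le_zero.1 hi)
    obtain rfl : j = ⦋0⦌ := SimplexCategory.ext (Nat.le_zero.1 hj)
    have : g.hom = 𝟙 _ := by ext x; exact congrArg Fin.val (Subsingleton.elim (α := Fin 1) _ _)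
    simp [this]

theorem Fam.ofPair_val {S : SSet.{u}} (a : Fin 2 → S.obj (op ⦋0⦌)) (f : ⦋0⦌ ⟶ ⦋1⦌) :
    (Fam.ofPair a).val ⟨⦋0⦌, le_rfl⟩ f = a (f.toOrderHom 0) :=
  ConcreteCategory.congr_hom (S.map_id (op ⦋0⦌)) _

variable {C : Type u} [SmallCategory C] {J : GrothendieckTopology C}

/-- Evaluation of a family of sections at a point. -/
noncomputable def evalAt {L : FormalCoproduct.{u} C} (F : Cᵒᵖ ⥤ AddCommGrpCat.{u})
    (x : (∏ᶜ fun i : L.I => F.obj (op (L.obj i)) : AddCommGrpCat.{u})) {V : C}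
    (t : (Pts.obj L).obj (op V)) : F.obj (op V) :=
  F.map t.2.op (Pi.π (fun i : L.I => F.obj (op (L.obj i))) t.1 x)

theorem evalAt_map {L : FormalCoproduct.{u} C} (F : Cᵒᵖ ⥤ AddCommGrpCat.{u})
    (x : (∏ᶜ fun i : L.I => F.obj (op (L.obj i)) : AddCommGrpCat.{u})) {V W : C} (g : W ⟶ V)
    (t : (Pts.obj L).obj (op V)) :
    F.map g.op (evalAt F x t) = evalAt F x ((Pts.obj L).map g.op t) :=
  (Functor.map_comp_apply F t.2.op g.op _).symm

theorem evalAt_self {L : FormalCoproduct.{u} C} (F : Cᵒᵖ ⥤ AddCommGrpCat.{u})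
    (x : (∏ᶜ fun i : L.I => F.obj (op (L.obj i)) : AddCommGrpCat.{u})) (i : L.I) :
    evalAt F x (⟨i, 𝟙 _⟩ : (Pts.obj L).obj (op (L.obj i))) = Pi.π (fun i : L.I => F.obj (op (L.obj i))) i x :=
  ConcreteCategory.congr_hom (F.map_id _) _

theorem evalAt_lift {L M : FormalCoproduct.{u} C} (F : Cᵒᵖ ⥤ AddCommGrpCat.{u}) (f : M ⟶ L)
    (x : (∏ᶜ fun i : L.I => F.obj (op (L.obj i)) : AddCommGrpCat.{u})) {V : C}
    (t : (Pts.obj M).obj (op V)) :
    evalAt F (((FormalCoproduct.evalOp.{u} C AddCommGrpCat.{u}).obj F).map f.op x) t =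
      evalAt F x ((Pts.map f).app (op V) t) := by
  have h : Pi.π (fun i : M.I => F.obj (op (M.obj i))) t.1
      (((FormalCoproduct.evalOp.{u} C AddCommGrpCat.{u}).obj F).map f.op x) =
      F.map (f.φ t.1).op (Pi.π (fun i : L.I => F.obj (op (L.obj i))) (f.f t.1) x) :=
    ConcreteCategory.congr_hom (Pi.lift_π
      (fun i : M.I => Pi.π (fun i : L.I => F.obj (op (L.obj i))) (f.f i) ≫ F.map (f.φ i).op) t.1) x
  rw [evalAt, h, ← Functor.map_comp_apply, ← op_comp]
  rfl

theorem cechCxSite_d_zero (K : SimplicialObject (FormalCoproduct.{u} C)) (P : Cᵒᵖ ⥤ AddCommGrpCat.{u}) :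
    (Hyper.cechCxSite K P).d 0 1 =
      ((FormalCoproduct.evalOp.{u} C AddCommGrpCat.{u}).obj P).map (K.δ (0 : Fin 2)).op -
        ((FormalCoproduct.evalOp.{u} C AddCommGrpCat.{u}).obj P).map (K.δ (1 : Fin 2)).op := by
  change CochainComplex.of.d _ (AlternatingCofaceMapComplex.objD
    (X := (K.rightOp ⋙ (FormalCoproduct.evalOp.{u} C AddCommGrpCat.{u}).obj P : CosimplicialObject _))) 0 (0 + 1) = _
  erw [CochainComplex.of_d]
  rw [AlternatingCofaceMapComplex.objD, Fin.sum_univ_two]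
  simp [sub_eq_add_neg, CosimplicialObject.δ, SimplicialObject.δ]

/-- A degree zero cocycle comes from a compatible family. -/
theorem exists_global_of_cocycle {K : SimplicialObject (FormalCoproduct.{u} C)} (hK : IsHyp J (K ⋙ Pts))
    (F : Sheaf J AddCommGrpCat.{u})
    (x : (∏ᶜ fun i : (K.obj (op ⦋0⦌)).I => F.obj.obj (op ((K.obj (op ⦋0⦌)).obj i)) : AddCommGrpCat.{u}))
    (hx : (Hyper.cechCxSite K F.obj).d 0 1 x = 0) :
    ∃ z : (limit F.obj : AddCommGrpCat.{u}),
      Pi.lift (fun i : (K.obj (op ⦋0⦌)).I => limit.π F.obj (op ((K.obj (op ⦋0⦌)).obj i))) z = x := by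
  let L := K.obj (op ⦋0⦌)
  let M := K.obj (op ⦋1⦌)
  let X0 : AddCommGrpCat.{u} := ∏ᶜ fun i : L.I => F.obj.obj (op (L.obj i))
  let s : limit F.obj ⟶ X0 := Pi.lift fun i => limit.π F.obj (op (L.obj i))
  have hs : ∀ (z : (limit F.obj : AddCommGrpCat.{u})) {V : C} (t : (Pts.obj L).obj (op V)),
      evalAt F.obj (s z) t = limit.π F.obj (op V) z := fun z V t => by
    rw [evalAt, show Pi.π (fun i : L.I => F.obj.obj (op (L.obj i))) t.1 (s z) =
      limit.π F.obj (op (L.obj t.1)) z from ConcreteCategory.congr_hom (Pi.lift_π _ t.1) z]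
    exact ConcreteCategory.congr_hom (limit.w F.obj t.2.op) z
  have heq : ∀ {N : FormalCoproduct.{u} C} (x y : (∏ᶜ fun i : N.I => F.obj.obj (op (N.obj i)) : AddCommGrpCat.{u})),
      (∀ {V : C} (t : (Pts.obj N).obj (op V)), evalAt F.obj x t = evalAt F.obj y t) → x = y :=
    fun x y h => Concrete.limit_ext _ x y fun ⟨i⟩ => by
      refine (evalAt_self F.obj x i).symm.trans ((h _).trans (evalAt_self F.obj y i))
  have hd : ∀ x : X0, (Hyper.cechCxSite K F.obj).d 0 1 x = 0 ↔
      ∀ {V : C} (t : (Pts.obj M).obj (op V)),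
        evalAt F.obj x ((Pts.map (K.δ (0 : Fin 2))).app (op V) t) =
          evalAt F.obj x ((Pts.map (K.δ (1 : Fin 2))).app (op V) t) := fun x => by
    rw [cechCxSite_d_zero]
    show ((FormalCoproduct.evalOp.{u} C AddCommGrpCat.{u}).obj F.obj).map (K.δ (0 : Fin 2)).op x -
      ((FormalCoproduct.evalOp.{u} C AddCommGrpCat.{u}).obj F.obj).map (K.δ (1 : Fin 2)).op x = 0 ↔ _
    rw [sub_eq_zero]
    exact ⟨fun h V t => (evalAt_lift F.obj _ x t).symm.trans
        ((congrArg (fun y => evalAt F.obj y t) h).trans (evalAt_lift F.obj _ x t)),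
      fun h => heq _ _ fun {V} t => (evalAt_lift F.obj _ x t).trans
        ((h t).trans (evalAt_lift F.obj _ x t).symm)⟩
  revert x
  show ∀ x : X0, (Hyper.cechCxSite K F.obj).d 0 1 x = 0 → ∃ z, s z = x
  intro x hx
  rw [hd] at hx
  have ind : ∀ {V : C} (a b : (Pts.obj L).obj (op V)), evalAt F.obj x a = evalAt F.obj x b := by
    intro V a b
    let q : Fin 2 → (ev (K ⋙ Pts) V).obj (op ⦋0⦌) := fun i => if i = 0 then a else b
    obtain ⟨R, hR, hfill⟩ := hK.fill 0 V (Fam.ofPair q)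
    refine sec_ext F hR fun W g hg => ?_
    obtain ⟨y, hy⟩ := hfill g hg
    have e : ∀ f : ⦋0⦌ ⟶ ⦋1⦌, (Pts.map (K.map f.op)).app (op W) y =
        (Pts.obj L).map g.op (q (f.toOrderHom 0)) := fun f => by
      rw [← Fam.ofPair_val q f]
      exact congrArg (fun c : Fam _ 0 1 => c.val ⟨⦋0⦌, le_rfl⟩ f) hy
    rw [evalAt_map, evalAt_map]
    have e1 := e (SimplexCategory.δ 1)
    have e0 := e (SimplexCategory.δ 0)
    rw [show q ((SimplexCategory.δ (1 : Fin 2)).toOrderHom 0) = a from if_pos rfl] at e1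
    rw [show q ((SimplexCategory.δ (0 : Fin 2)).toOrderHom 0) = b from if_neg (by decide)] at e0
    rw [← e1, ← e0]
    exact (hx y).symm
  have key : ∀ U : C, ∃! w : F.obj.obj (op U), ∀ ⦃V : C⦄ (g : V ⟶ U) (t : (Pts.obj L).obj (op V)),
      F.obj.map g.op w = evalAt F.obj x t := by
    intro U
    obtain ⟨R, hR, hne⟩ := hK.zero U
    obtain ⟨w, hw⟩ := sec_glue F hR (fun V g hg => evalAt F.obj x (hne g hg).some) (fun V W g hg k => by
      rw [evalAt_map]
      exact ind _ _)
    refine ⟨w, fun V g t => sec_ext F (J.pullback_stable g hR) fun W k hk => ?_, fun w' hw' =>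
      sec_ext F hR fun V g hg => (hw' g (hne g hg).some).trans (hw g hg).symm⟩
    rw [← Functor.map_comp_apply, ← op_comp, hw (k ≫ g) hk, evalAt_map]
    exact ind _ _
  choose w hw hwu using key
  have hsec : (fun T : Cᵒᵖ => w T.unop) ∈ (F.obj ⋙ CategoryTheory.forget AddCommGrpCat.{u}).sections := by
    intro T T' g
    refine hwu T'.unop _ fun V k t => ?_
    show F.obj.map k.op (F.obj.map g (w T.unop)) = _
    rw [← Functor.map_comp_apply]
    exact hw T.unop (k ≫ g.unop) t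
  obtain ⟨z, hz, -⟩ := (Types.isLimit_iff _).1
    ⟨isLimitOfPreserves (CategoryTheory.forget AddCommGrpCat.{u}) (limit.isLimit F.obj)⟩ _ hsec
  refine ⟨z, heq _ _ fun {V} t => ?_⟩
  rw [hs, show limit.π F.obj (op V) z = w V from hz (op V)]
  have h1 := hw V (𝟙 V) t
  rw [op_id, CategoryTheory.Functor.map_id] at h1
  exact h1

/-- Degree zero Čech cohomology with respect to a hypercovering is global sections. -/
theorem cech_h0 {K : SimplicialObject (FormalCoproduct.{u} C)} (hK : IsHyp J (K ⋙ Pts)) :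
    ∀ F : Sheaf J AddCommGrpCat.{u}, Nonempty ((Hyper.cechCxSite K F.obj).homology 0 ≅ limit F.obj) := by
  intro F
  let L := K.obj (op ⦋0⦌)
  let M := K.obj (op ⦋1⦌)
  let X0 : AddCommGrpCat.{u} := ∏ᶜ fun i : L.I => F.obj.obj (op (L.obj i))
  let cx := Hyper.cechCxSite K F.obj
  let s : limit F.obj ⟶ X0 := Pi.lift fun i => limit.π F.obj (op (L.obj i))
  have hs : ∀ (z : (limit F.obj : AddCommGrpCat.{u})) {V : C} (t : (Pts.obj L).obj (op V)),
      evalAt F.obj (s z) t = limit.π F.obj (op V) z := fun z V t => by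
    rw [evalAt, show Pi.π (fun i : L.I => F.obj.obj (op (L.obj i))) t.1 (s z) =
      limit.π F.obj (op (L.obj t.1)) z from ConcreteCategory.congr_hom (Pi.lift_π _ t.1) z]
    exact ConcreteCategory.congr_hom (limit.w F.obj t.2.op) z
  have heq : ∀ {N : FormalCoproduct.{u} C} (x y : (∏ᶜ fun i : N.I => F.obj.obj (op (N.obj i)) : AddCommGrpCat.{u})),
      (∀ {V : C} (t : (Pts.obj N).obj (op V)), evalAt F.obj x t = evalAt F.obj y t) → x = y :=
    fun x y h => Concrete.limit_ext _ x y fun ⟨i⟩ => by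
      refine (evalAt_self F.obj x i).symm.trans ((h _).trans (evalAt_self F.obj y i))
  have hd : ∀ x : X0, (Hyper.cechCxSite K F.obj).d 0 1 x = 0 ↔
      ∀ {V : C} (t : (Pts.obj M).obj (op V)),
        evalAt F.obj x ((Pts.map (K.δ (0 : Fin 2))).app (op V) t) =
          evalAt F.obj x ((Pts.map (K.δ (1 : Fin 2))).app (op V) t) := fun x => by
    rw [cechCxSite_d_zero]
    show ((FormalCoproduct.evalOp.{u} C AddCommGrpCat.{u}).obj F.obj).map (K.δ (0 : Fin 2)).op x -
      ((FormalCoproduct.evalOp.{u} C AddCommGrpCat.{u}).obj F.obj).map (K.δ (1 : Fin 2)).op x = 0 ↔ _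
    rw [sub_eq_zero]
    exact ⟨fun h V t => (evalAt_lift F.obj _ x t).symm.trans
        ((congrArg (fun y => evalAt F.obj y t) h).trans (evalAt_lift F.obj _ x t)),
      fun h => heq _ _ fun {V} t => (evalAt_lift F.obj _ x t).trans
        ((h t).trans (evalAt_lift F.obj _ x t).symm)⟩
  have hsurj : ∀ x : X0, (Hyper.cechCxSite K F.obj).d 0 1 x = 0 → ∃ z, s z = x :=
    fun x hx => exists_global_of_cocycle hK F x hx
  have hinj : Function.Injective s := by
    intro z z' h
    refine Concrete.limit_ext _ z z' fun T => ?_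
    obtain ⟨R, hR, hne⟩ := hK.zero T.unop
    refine sec_ext F hR fun V g hg => ?_
    have h1 := congrArg (fun y => evalAt F.obj y (hne g hg).some) h
    simp only [hs] at h1
    exact (ConcreteCategory.congr_hom (limit.w F.obj g.op) z).trans
      (h1.trans (ConcreteCategory.congr_hom (limit.w F.obj g.op) z').symm)
  have hsd : s ≫ cx.d 0 1 = 0 := by
    ext z
    refine (hd (s z)).2 fun {V} t => ?_
    rw [hs, hs]
  let l := cx.liftCycles s 1 (by simp) hsd
  have hl : IsIso l := by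
    rw [ConcreteCategory.isIso_iff_bijective]
    refine ⟨fun a b h => hinj ?_, fun c => ?_⟩
    · have h' := congrArg (cx.iCycles 0) h
      rwa [← ConcreteCategory.comp_apply, ← ConcreteCategory.comp_apply, cx.liftCycles_i] at h'
    · obtain ⟨z, hz⟩ := hsurj (cx.iCycles 0 c) (by
        exact ConcreteCategory.congr_hom (cx.iCycles_d 0 1) c)
      refine ⟨z, (AddCommGrpCat.mono_iff_injective (cx.iCycles 0)).1 inferInstance ?_⟩
      rw [← ConcreteCategory.comp_apply, cx.liftCycles_i]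
      exact hz
  exact ⟨(asIso (l ≫ cx.homologyπ 0)).symm⟩

end Groth.Agent.Hyper50
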