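import Groth.Agent.Hyper50.Refine
import Groth.Agent.Hyper50.H0
import Groth.Prelude.Def_Hyper2
import Mathlib.CategoryTheory.Sites.Sheafification
import Mathlib.CategoryTheory.Sites.LocallyBijective

/-! Classes of presheaves with zero associated sheaf die after refinement. -/

set_option autoImplicit false
set_option linter.unusedSectionVars false

universe u

open CategoryTheory CategoryTheory.Limits Opposite Simplicial

namespace Groth.Agent.Hyper50

variable {C : Type u} [SmallCategory C] (J : GrothendieckTopology C)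

/-- A section of a presheaf with zero associated sheaf is locally zero. -/
theorem locally_zero {N : Cᵒᵖ ⥤ AddCommGrpCat.{u}}
    (hN : IsZero ((presheafToSheaf J AddCommGrpCat.{u}).obj N)) {U : C} (x : N.obj (op U)) :
    ∃ R ∈ J U, ∀ ⦃V : C⦄ (g : V ⟶ U), R g → N.map g.op x = 0 := by
  have : Presheaf.IsLocallyInjective J (toSheafify J N) :=
    ((J.W_iff_isLocallyBijective _).1 (J.W_toSheafify N)).1
  have hz : IsZero ((sheafify J N).obj (op U)) :=
    ((Functor.isZero_iff _).1 ((sheafToPresheaf J AddCommGrpCat.{u}).map_isZero hN)) (op U)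
  have := AddCommGrpCat.subsingleton_of_isZero hz
  refine ⟨_, Presheaf.equalizerSieve_mem J (toSheafify J N) x (0 : N.obj (op U)) (Subsingleton.elim _ _),
    fun V g hg => ?_⟩
  exact (show N.map g.op x = N.map g.op (0 : N.obj (op U)) from hg).trans (map_zero _)

/-- Every section is locally zero. -/
def IsLocallyZero (N : Cᵒᵖ ⥤ AddCommGrpCat.{u}) : Prop :=
  ∀ (U : C) (x : N.obj (op U)), ∃ R ∈ J U, ∀ ⦃V : C⦄ (g : V ⟶ U), R g → N.map g.op x = 0

variable [HasPullbacks C]

/-- Killing a cochain. -/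
theorem exists_refinement_kills' (X : C) (K : SimplicialObject (FormalCoproduct.{u} (Over X)))
    (hK : IsHyp (J.over X) (K ⋙ Pts)) (N : Cᵒᵖ ⥤ AddCommGrpCat.{u})
    (hN : IsLocallyZero J N) (p : ℕ)
    (x : ((Hyper.cechCx X K N).X p : AddCommGrpCat.{u})) :
    ∃ (L : SimplicialObject (FormalCoproduct.{u} (Over X))) (f : L ⟶ K),
      IsHyp (J.over X) (L ⋙ Pts) ∧ (Hyper.cechMap X f N).f p x = 0 := by
  let N' : (Over X)ᵒᵖ ⥤ AddCommGrpCat.{u} := (Over.forget X).op ⋙ N
  let W := K.obj (op ⦋p⦌)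
  have hloc : ∀ i : W.I, ∃ R ∈ (J.over X) (W.obj i), ∀ ⦃V : Over X⦄ (g : V ⟶ W.obj i), R g →
      N'.map g.op (Pi.π (fun i : W.I => N'.obj (op (W.obj i))) i x) = 0 := by
    intro i
    obtain ⟨R, hR, h⟩ := hN (W.obj i).left
      (Pi.π (fun i : W.I => N'.obj (op (W.obj i))) i x)
    exact ⟨(Sieve.overEquiv _).symm R, J.overEquiv_symm_mem_over _ _ hR,
      fun V g hg => h g.left ((Sieve.overEquiv_symm_iff R g).1 hg)⟩
  choose R hR h0 using hloc
  let Z : FormalCoproduct.{u} (Over X) :=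
    ⟨Σ i : W.I, {q : Σ V : Over X, (V ⟶ W.obj i) // R i q.2}, fun q => q.2.1.1⟩
  let u : Z ⟶ W := ⟨fun q => q.1, fun q => q.2.1.2⟩
  have hu : Hyper.IsSRCovering (J.over X) u := fun j => by
    refine (J.over X).superset_covering (fun V g hg => ?_) (hR j)
    rw [Sieve.mem_ofArrows_iff]
    exact ⟨⟨⟨j, ⟨⟨V, g⟩, hg⟩⟩, rfl⟩, 𝟙 _, by simp [u, Z]⟩
  obtain ⟨L, f, g, hL, hg⟩ := exists_refinement (J.over X) p K hK Z u hu
  refine ⟨L, f, hL, ?_⟩
  show ((FormalCoproduct.evalOp.{u} (Over X) AddCommGrpCat.{u}).obj N').map (f.app (op ⦋p⦌)).op x = 0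
  rw [← hg, op_comp, Functor.map_comp_apply]
  have : ((FormalCoproduct.evalOp.{u} (Over X) AddCommGrpCat.{u}).obj N').map u.op x = 0 := by
    refine Concrete.limit_ext _ _ _ fun ⟨q⟩ => ?_
    refine Eq.trans ?_ (map_zero _).symm
    exact (ConcreteCategory.congr_hom (Pi.lift_π
      (fun q : Z.I => Pi.π (fun i : W.I => N'.obj (op (W.obj i))) (u.f q) ≫ N'.map (u.φ q).op) q) x).trans
      (h0 q.1 q.2.1.2 q.2.2)
  exact (congrArg _ this).trans (map_zero _)

theorem exists_refinement_kills_class' (X : C) (K : SimplicialObject (FormalCoproduct.{u} (Over X)))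
    (hK : IsHyp (J.over X) (K ⋙ Pts)) (N : Cᵒᵖ ⥤ AddCommGrpCat.{u})
    (hN : IsLocallyZero J N) (p : ℕ)
    (ξ : Hyper.cechH X K N p) :
    ∃ (L : SimplicialObject (FormalCoproduct.{u} (Over X))) (f : L ⟶ K),
      IsHyp (J.over X) (L ⋙ Pts) ∧ Hyper.cechHMap X f N p ξ = 0 := by
  let cK := Hyper.cechCx X K N
  obtain ⟨c, rfl⟩ := (AddCommGrpCat.epi_iff_surjective (cK.homologyπ p)).1 inferInstance ξ
  obtain ⟨L, f, hL, hx⟩ := exists_refinement_kills' J X K hK N hN p (cK.iCycles p c)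
  refine ⟨L, f, hL, ?_⟩
  show HomologicalComplex.homologyMap (Hyper.cechMap X f N) p (cK.homologyπ p c) = 0
  rw [← ConcreteCategory.comp_apply, HomologicalComplex.homologyπ_naturality, ConcreteCategory.comp_apply]
  have : HomologicalComplex.cyclesMap (Hyper.cechMap X f N) p c = 0 :=
    (AddCommGrpCat.mono_iff_injective ((Hyper.cechCx X L N).iCycles p)).1 inferInstance (by
      rw [← ConcreteCategory.comp_apply, HomologicalComplex.cyclesMap_i, ConcreteCategory.comp_apply,
        map_zero]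
      exact hx)
  rw [this, map_zero]

theorem exists_refinement_kills_class (X : C) (K : SimplicialObject (FormalCoproduct.{u} (Over X)))
    (hK : IsHyp (J.over X) (K ⋙ Pts)) (N : Cᵒᵖ ⥤ AddCommGrpCat.{u})
    (hN : IsZero ((presheafToSheaf J AddCommGrpCat.{u}).obj N)) (p : ℕ)
    (ξ : Hyper.cechH X K N p) :
    ∃ (L : SimplicialObject (FormalCoproduct.{u} (Over X))) (f : L ⟶ K),
      IsHyp (J.over X) (L ⋙ Pts) ∧ Hyper.cechHMap X f N p ξ = 0 :=
  exists_refinement_kills_class' J X K hK N (fun _ x => locally_zero J hN x) p ξ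

end Groth.Agent.Hyper50
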