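import Groth.Agent.Hyper50.Acyclic
import Groth.Agent.Hyper50.Kill
import Mathlib.CategoryTheory.Abelian.Basic
import Mathlib.CategoryTheory.Sites.EpiMono

/-! Čech classes over all hypercoverings and sheaf cohomology. -/

set_option autoImplicit false
set_option linter.unusedSectionVars false

universe u

open CategoryTheory CategoryTheory.Limits Opposite Simplicial CategoryTheory.Abelian

namespace Groth.Agent.Hyper50

variable {C : Type u} [SmallCategory C] (J : GrothendieckTopology C) [HasPullbacks C] (X : C)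

/-- Every class in degree `q` dies on some refinement. -/
def Dies (P : Cᵒᵖ ⥤ AddCommGrpCat.{u}) (q : ℕ) : Prop :=
  ∀ (K : SimplicialObject (FormalCoproduct.{u} (Over X))), IsHyp (J.over X) (K ⋙ Pts) →
    ∀ ξ : Hyper.cechH X K P q, ∃ (L : SimplicialObject (FormalCoproduct.{u} (Over X))) (f : L ⟶ K),
      IsHyp (J.over X) (L ⋙ Pts) ∧ Hyper.cechHMap X f P q ξ = 0

theorem cechHMap_comp {K L M : SimplicialObject (FormalCoproduct.{u} (Over X))} (f : L ⟶ K) (g : M ⟶ L)
    (P : Cᵒᵖ ⥤ AddCommGrpCat.{u}) (q : ℕ) (x : Hyper.cechH X K P q) :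
    Hyper.cechHMap X (g ≫ f) P q x = Hyper.cechHMap X g P q (Hyper.cechHMap X f P q x) := by
  show HomologicalComplex.homologyMap (Hyper.cechMap X (g ≫ f) P) q x =
    HomologicalComplex.homologyMap (Hyper.cechMap X g P) q (HomologicalComplex.homologyMap (Hyper.cechMap X f P) q x)
  rw [← ConcreteCategory.comp_apply, ← HomologicalComplex.homologyMap_comp]
  congr 3
  show (AlgebraicTopology.alternatingCofaceMapComplex AddCommGrpCat.{u}).map _ =
    (AlgebraicTopology.alternatingCofaceMapComplex AddCommGrpCat.{u}).map _ ≫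
      (AlgebraicTopology.alternatingCofaceMapComplex AddCommGrpCat.{u}).map _
  rw [← Functor.map_comp]
  congr 1
  ext n x
  exact ConcreteCategory.congr_hom
    (((FormalCoproduct.evalOp.{u} (Over X) AddCommGrpCat.{u}).obj ((Over.forget X).op ⋙ P)).map_comp
      (f.app (op n)).op (g.app (op n)).op) _

theorem exists_ker {A B D : AddCommGrpCat.{u}} (f : A ⟶ B) (g : B ⟶ D) (w : f ≫ g = 0)
    (h : (ShortComplex.mk f g w).Exact) (b : B) (hb : g b = 0) : ∃ a, f a = b :=
  (ShortComplex.ab_exact_iff _).1 h b hb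

variable {J X} in
theorem Dies.of_isLocallyZero {N : Cᵒᵖ ⥤ AddCommGrpCat.{u}} (hN : IsLocallyZero J N) (q : ℕ) :
    Dies J X N q :=
  fun K hK ξ => exists_refinement_kills_class' J X K hK N hN q ξ

variable {S : ShortComplex (Cᵒᵖ ⥤ AddCommGrpCat.{u})} (hS : SecSES S)
include hS

theorem h0_mono (K : SimplicialObject (FormalCoproduct.{u} (Over X))) :
    Function.Injective (HomologicalComplex.homologyMap ((cechFun X K).map S.f) 0) := by
  have hT := cechSC_shortExact X K hS
  intro a b hab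
  let cA := (cechFun X K).obj S.X₁
  let cB := (cechFun X K).obj S.X₂
  obtain ⟨a, rfl⟩ := (AddCommGrpCat.epi_iff_surjective (cA.homologyπ 0)).1 inferInstance a
  obtain ⟨b, rfl⟩ := (AddCommGrpCat.epi_iff_surjective (cA.homologyπ 0)).1 inferInstance b
  rw [← ConcreteCategory.comp_apply, ← ConcreteCategory.comp_apply,
    HomologicalComplex.homologyπ_naturality, ConcreteCategory.comp_apply, ConcreteCategory.comp_apply] at hab
  have h1 := ((AddCommGrpCat.mono_iff_injective (cB.homologyπ 0)).1 inferInstance) hab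
  refine congrArg (cA.homologyπ 0) (((AddCommGrpCat.mono_iff_injective (cA.iCycles 0)).1 inferInstance) ?_)
  have := hT.mono_f
  have hm : Mono (((cechFun X K).map S.f).f 0) :=
    inferInstanceAs (Mono ((HomologicalComplex.eval AddCommGrpCat.{u} (ComplexShape.up ℕ) 0).map (cechSC X K S).f))
  apply (AddCommGrpCat.mono_iff_injective (((cechFun X K).map S.f).f 0)).1 hm
  rw [← ConcreteCategory.comp_apply, ← ConcreteCategory.comp_apply, ← HomologicalComplex.cyclesMap_i,
    ConcreteCategory.comp_apply, ConcreteCategory.comp_apply, h1]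

theorem dies_middle_of_left {q : ℕ} (hC : Dies J X S.X₃ q) (hA : Dies J X S.X₁ q) : Dies J X S.X₂ q := by
  intro K hK ξ
  obtain ⟨L, f, hL, hf⟩ := hC K hK (HomologicalComplex.homologyMap ((cechFun X K).map S.g) q ξ)
  rw [cechHMap_naturality] at hf
  obtain ⟨a, ha⟩ := exists_ker _ _ _ ((cechSC_shortExact X L hS).homology_exact₂ q) _ hf
  obtain ⟨M, g, hM, hg⟩ := hA L hL a
  refine ⟨M, g ≫ f, hM, ?_⟩
  rw [cechHMap_comp, ← ha]
  exact (cechHMap_naturality X L g S.f q a).trans (by rw [hg, map_zero])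

theorem dies_left_of_middle {q : ℕ} (hC : ∀ p, p + 1 = q → Dies J X S.X₃ p) (hB : Dies J X S.X₂ q) :
    Dies J X S.X₁ q := by
  intro K hK a
  obtain ⟨L, f, hL, hf⟩ := hB K hK (HomologicalComplex.homologyMap ((cechFun X K).map S.f) q a)
  rw [cechHMap_naturality] at hf
  cases q with
  | zero =>
    exact ⟨L, f, hL, h0_mono X hS L (hf.trans (map_zero _).symm)⟩
  | succ p =>
    obtain ⟨c, hc⟩ := exists_ker _ _ _ ((cechSC_shortExact X L hS).homology_exact₁ p (p + 1) rfl) _ hf
    obtain ⟨M, g, hM, hg⟩ := hC p rfl L hL c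
    refine ⟨M, g ≫ f, hM, ?_⟩
    rw [cechHMap_comp, ← hc]
    exact (cechHMap_δ X L g hS p c).trans ((congrArg _ hg).trans (map_zero _))

theorem dies_right_of_middle {q : ℕ} (hA : Dies J X S.X₁ (q + 1)) (hB : Dies J X S.X₂ q) :
    Dies J X S.X₃ q := by
  intro K hK c
  obtain ⟨L, f, hL, hf⟩ := hA K hK ((cechSC_shortExact X K hS).δ q (q + 1) rfl c)
  rw [cechHMap_δ X K f hS] at hf
  obtain ⟨b, hb⟩ := exists_ker _ _ _ ((cechSC_shortExact X L hS).homology_exact₃ q (q + 1) rfl) _ hf
  obtain ⟨M, g, hM, hg⟩ := hB L hL b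
  refine ⟨M, g ≫ f, hM, ?_⟩
  rw [cechHMap_comp, ← hb]
  exact (cechHMap_naturality X L g S.g q b).trans (by rw [hg, map_zero])

theorem dies_middle_of_right {q : ℕ} (hA : Dies J X S.X₁ q) (hC : Dies J X S.X₃ q) : Dies J X S.X₂ q :=
  dies_middle_of_left J X hS hC hA

omit hS

variable {T : ShortComplex (Cᵒᵖ ⥤ AddCommGrpCat.{u})}

theorem secSES_of_shortExact (hT : T.ShortExact) : SecSES T where
  inj U := (AddCommGrpCat.mono_iff_injective _).1
    (hT.map_of_exact ((evaluation Cᵒᵖ AddCommGrpCat.{u}).obj (op U))).mono_f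
  exact U b hb := exists_ker _ _ _ (hT.map_of_exact ((evaluation Cᵒᵖ AddCommGrpCat.{u}).obj (op U))).exact b hb
  surj U := (AddCommGrpCat.epi_iff_surjective _).1
    (hT.map_of_exact ((evaluation Cᵒᵖ AddCommGrpCat.{u}).obj (op U))).epi_g

end Groth.Agent.Hyper50
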