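import Groth.Agent.Hyper50.Glue
import Groth.Agent.Hyper50.Attach

/-! Hypercoverings built cell by cell. -/

set_option autoImplicit false

universe u

open CategoryTheory CategoryTheory.Limits Opposite Simplicial

namespace Groth.Agent.Hyper50

variable {C : Type u} [SmallCategory C]

/-- A covering in degree zero and, in every dimension, cells covering all boundary families. -/
structure Builder (J : GrothendieckTopology C) (Q : Prop) where
  L₀ : FormalCoproduct.{u} C
  fin₀ : Q → Finite L₀.I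
  zero : ∀ U : C, ∃ R ∈ J U, ∀ ⦃V : C⦄ (g : V ⟶ U), R g → ∃ i, Nonempty (V ⟶ L₀.obj i)
  cells : ∀ (n : ℕ) (S : SimplicialObject (FormalCoproduct.{u} C)),
    (∀ m : SimplexCategoryᵒᵖ, Q → Finite (S.obj m).I) → Cells S n
  cover : ∀ (n : ℕ) (S : SimplicialObject (FormalCoproduct.{u} C)) (hS) (U : C)
    (b : Fam (ev (pts S) U) n (n + 1)),
    ∃ R ∈ J U, ∀ ⦃V : C⦄ (g : V ⟶ U), R g → ∃ (x : (cells n S hS).I) (h : V ⟶ (cells n S hS).o x),
      b.map (res (pts S) g) = ((cells n S hS).a x).map (res (pts S) h)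
  finite : Q → ∀ n S hS, Finite (cells n S hS).I

theorem Cells.exists_fill {S : SimplicialObject (FormalCoproduct.{u} C)} {n : ℕ} (A : Cells S n)
    {U V : C} (b : Fam (ev (pts S) U) n (n + 1)) (g : V ⟶ U) (x : A.I) (k : V ⟶ A.o x)
    (hk : b.map (res (pts S) g) = (A.a x).map (res (pts S) k)) :
    ∃ y : (ev (pts A.attach) V).obj (op ⦋n + 1⦌), Fam.ofSimplex y =
      (b.map (res (pts S) g)).map (evMap (Functor.whiskerRight A.incl Pts) V) :=
  ⟨(res (pts A.attach) k).app _ (A.top x), by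
    rw [← Fam.map_ofSimplex, A.ofSimplex_top x, Fam.map_map, hk, Fam.map_map, res_evMap]⟩

namespace Builder

variable {J : GrothendieckTopology C} {Q : Prop} (B : Builder J Q)

/-- The stages, with finiteness in each degree. -/
noncomputable def stage : ℕ → {S : SimplicialObject (FormalCoproduct.{u} C) //
    ∀ m : SimplexCategoryᵒᵖ, Q → Finite (S.obj m).I}
  | 0 => ⟨(Functor.const _).obj B.L₀, fun _ h => B.fin₀ h⟩
  | n + 1 =>
    ⟨(B.cells n (stage n).1 (stage n).2).attach, fun m h =>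
      have := (stage n).2 m h
      have := B.finite h n (stage n).1 (stage n).2
      Cells.finite_obj _ m⟩

noncomputable def cellsAt (n : ℕ) : Cells (B.stage n).1 n :=
  B.cells n (B.stage n).1 (B.stage n).2

noncomputable def seq : Stable (FormalCoproduct.{u} C) where
  S n := (B.stage n).1
  step n := (B.cellsAt n).incl
  iso n m h := (B.cellsAt n).isIso_incl m h

noncomputable def hyp : SimplicialObject (FormalCoproduct.{u} C) := B.seq.lim

theorem finite_hyp (h : Q) (m : SimplexCategoryᵒᵖ) : Finite (B.hyp.obj m).I :=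
  (B.stage m.unop.len).2 m h

theorem prop_stage (P : C → Prop) (h0 : ∀ i, P (B.L₀.obj i))
    (h : ∀ n S hS x, P ((B.cells n S hS).o x)) :
    ∀ (n : ℕ) (m : SimplexCategoryᵒᵖ) (i : ((B.stage n).1.obj m).I), P (((B.stage n).1.obj m).obj i)
  | 0 => fun _ i => h0 i
  | n + 1 => fun m i =>
    (B.cellsAt n).obj_prop (prop_stage P h0 h n m) (fun x => h n _ _ x) i

theorem prop_hyp (P : C → Prop) (h0 : ∀ i, P (B.L₀.obj i))
    (h : ∀ n S hS x, P ((B.cells n S hS).o x)) (m : SimplexCategoryᵒᵖ) (i : (B.hyp.obj m).I) :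
    P ((B.hyp.obj m).obj i) :=
  B.prop_stage P h0 h m.unop.len m i

theorem _root_.Groth.Agent.Hyper50.Stable.step_κ {E : Type*} [Category E] (T : Stable E) (c : ℕ) :
    T.step c ≫ T.κ (c + 1) = T.κ c := by
  ext m
  let d := max (c + 1) m.unop.len
  have h1 : c + 1 ≤ d := le_max_left _ _
  have h2 : m.unop.len ≤ d := le_max_right _ _
  refine (cancel_mono (T.up m h2).hom).1 ?_
  refine (Category.assoc _ _ _).trans ?_
  refine (congrArg ((T.step c).app m ≫ ·) (T.κApp_up m h1 h2)).trans ?_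
  refine Eq.trans ?_ (T.κApp_up m ((Nat.le_succ c).trans h1) h2).symm
  rw [← T.t_comp (Nat.le_succ c) h1, T.t_succ]
  rfl

/-- The comparison on sections with a stage. -/
noncomputable abbrev κev (c : ℕ) : pts (B.stage c).1 ⟶ pts B.hyp :=
  Functor.whiskerRight (B.seq.κ c) Pts

theorem κev_bijective (c j : ℕ) (hj : j ≤ c) (V : C) :
    Function.Bijective ((evMap (B.κev c) V).app (op ⦋j⦌)) := by
  have := B.seq.isIso_κ c (op ⦋j⦌) hj
  exact ConcreteCategory.bijective_of_isIso
    ((Pts ⋙ (evaluation Cᵒᵖ (Type u)).obj (op V)).map ((B.seq.κ c).app (op ⦋j⦌)))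

theorem isHyp_hyp : IsHyp J (pts B.hyp) where
  zero U := by
    obtain ⟨R, hR, h⟩ := B.zero U
    refine ⟨R, hR, fun V g hg => ?_⟩
    obtain ⟨i, ⟨a⟩⟩ := h g hg
    exact ⟨⟨i, a⟩⟩
  fill n U b := by
    obtain ⟨b', rfl⟩ := (Fam.map_bijective (evMap (B.κev n) U)
      (fun j hj => B.κev_bijective n j hj U) (k := n + 1)).2 b
    obtain ⟨R, hR, h⟩ := B.cover n (B.stage n).1 (B.stage n).2 U b'
    refine ⟨R, hR, fun V g hg => ?_⟩
    obtain ⟨x, k, hk⟩ := h g hg
    obtain ⟨y, hy⟩ := (B.cellsAt n).exists_fill b' g x k hk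
    refine ⟨(evMap (B.κev (n + 1)) V).app _ y, ?_⟩
    have e2 : evMap (Functor.whiskerRight (B.cellsAt n).incl Pts) V ≫ evMap (B.κev (n + 1)) V =
        evMap (B.κev n) V := by
      show _ = evMap (Functor.whiskerRight (B.seq.κ n) Pts) V
      rw [← B.seq.step_κ n, Functor.whiskerRight_comp]
      rfl
    refine (Fam.map_ofSimplex (evMap (B.κev (n + 1)) V) y).symm.trans ?_
    refine (congrArg (Fam.map (evMap (B.κev (n + 1)) V)) hy).trans ?_
    refine (Fam.map_map _ _ _).trans ?_
    refine (congrArg (fun φ => Fam.map φ (b'.map (res (pts (B.stage n).1) g))) e2).trans ?_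
    rw [Fam.map_map, Fam.map_map]
    exact congrArg (fun φ => Fam.map φ b') (res_evMap (B.κev n) g)

end Builder

end Groth.Agent.Hyper50
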