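import Groth.Agent.Hyper50.Exist
import Mathlib.CategoryTheory.Sites.Over

/-! All boundary families over objects of a covering class give a hypercovering. -/

set_option autoImplicit false

universe u

open CategoryTheory CategoryTheory.Limits Opposite Simplicial

namespace Groth.Agent.Hyper50

variable {C : Type u} [SmallCategory C]

/-- The builder using every object of a covering class and every boundary family. -/
def bigBuilder (J : GrothendieckTopology C) (P : C → Prop)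
    (hP : ∀ U : C, ∃ R ∈ J U, ∀ ⦃V : C⦄ (g : V ⟶ U), R g →
      ∃ (W : C) (h : V ⟶ W) (k : W ⟶ U), P W ∧ h ≫ k = g) : Builder J False where
  L₀ := ⟨{W : C // P W}, fun W => W.1⟩
  fin₀ h := h.elim
  zero U := by
    obtain ⟨R, hR, h⟩ := hP U
    refine ⟨R, hR, fun V g hg => ?_⟩
    obtain ⟨W, a, k, hW, -⟩ := h g hg
    exact ⟨⟨W, hW⟩, ⟨a⟩⟩
  cells n S _ :=
    { I := Σ W : {W : C // P W}, Fam (ev (pts S) W.1) n (n + 1)
      o := fun x => x.1.1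
      a := fun x => x.2 }
  cover n S _ U b := by
    obtain ⟨R, hR, h⟩ := hP U
    refine ⟨R, hR, fun V g hg => ?_⟩
    obtain ⟨W, a, k, hW, rfl⟩ := h g hg
    exact ⟨⟨⟨W, hW⟩, b.map (res (pts S) k)⟩, a, by rw [Fam.map_map, res_comp]⟩
  finite h := h.elim

theorem exists_isHyp (J : GrothendieckTopology C) (P : C → Prop)
    (hP : ∀ U : C, ∃ R ∈ J U, ∀ ⦃V : C⦄ (g : V ⟶ U), R g →
      ∃ (W : C) (h : V ⟶ W) (k : W ⟶ U), P W ∧ h ≫ k = g) :
    ∃ K : SimplicialObject (FormalCoproduct.{u} C), IsHyp J (pts K) ∧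
      ∀ (m : SimplexCategoryᵒᵖ) (i : (K.obj m).I), P ((K.obj m).obj i) :=
  ⟨(bigBuilder J P hP).hyp, (bigBuilder J P hP).isHyp_hyp, fun m i =>
    (bigBuilder J P hP).prop_hyp P (fun W => W.2) (fun _ _ _ x => x.1.2) m i⟩

/-- Coverings by a class of objects pass to slices. -/
theorem over_cover (J : GrothendieckTopology C) (X : C) (B : Set C)
    (h1 : ∀ U : C, ∃ R ∈ J U, ∀ ⦃V : C⦄ (g : V ⟶ U), R g →
      ∃ (W : C) (h : V ⟶ W) (k : W ⟶ U), W ∈ B ∧ h ≫ k = g) (U : Over X) :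
    ∃ R ∈ (J.over X) U, ∀ ⦃V : Over X⦄ (g : V ⟶ U), R g →
      ∃ (W : Over X) (h : V ⟶ W) (k : W ⟶ U), W.left ∈ B ∧ h ≫ k = g := by
  obtain ⟨R, hR, h⟩ := h1 U.left
  refine ⟨(Sieve.overEquiv U).symm R, J.overEquiv_symm_mem_over _ _ hR, fun V g hg => ?_⟩
  rw [Sieve.overEquiv_symm_iff] at hg
  obtain ⟨W, a, k, hW, e⟩ := h _ hg
  refine ⟨Over.mk (k ≫ U.hom), Over.homMk a ?_, Over.homMk k, hW, Over.OverMorphism.ext e⟩
  show a ≫ k ≫ U.hom = V.hom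
  rw [reassoc_of% e, Over.w]

theorem cover_of_arrows (J : GrothendieckTopology C) (B : Set C)
    (h1 : ∀ U : C, ∃ (ι : Type u) (V : ι → C) (f : ∀ i, V i ⟶ U),
      Sieve.ofArrows V f ∈ J U ∧ ∀ i, V i ∈ B) (U : C) :
    ∃ R ∈ J U, ∀ ⦃V : C⦄ (g : V ⟶ U), R g →
      ∃ (W : C) (h : V ⟶ W) (k : W ⟶ U), W ∈ B ∧ h ≫ k = g := by
  obtain ⟨ι, V, f, hf, hB⟩ := h1 U
  refine ⟨_, hf, fun W g hg => ?_⟩
  rw [Sieve.mem_ofArrows_iff] at hg
  obtain ⟨i, a, ha⟩ := hg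
  exact ⟨V i, a, f i, hB i, ha.symm⟩

end Groth.Agent.Hyper50
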