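import Groth.Agent.Hyper50.Exist
import Mathlib.CategoryTheory.Limits.Shapes.FiniteProducts
import Mathlib.CategoryTheory.Limits.Shapes.Equalizers
import Mathlib.Data.Finite.Sigma

/-! Finitely many universal boundary families give a finite hypercovering. -/

set_option autoImplicit false

universe u

open CategoryTheory CategoryTheory.Limits Opposite Simplicial

namespace Groth.Agent.Hyper50

variable {C : Type u} [SmallCategory C]

section univ

variable (S : SimplicialObject (FormalCoproduct.{u} C)) (n : ℕ)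

/-- Positions of the values of a family. -/
abbrev Pos : Type := Σ j : SimplexCategory.Truncated n, (j.obj ⟶ ⦋n + 1⦌)

/-- Compatible tuples of indices. -/
abbrev Tup : Type u := {t : ∀ p : Pos n, (S.obj (op p.1.obj)).I //
  ∀ (i j : SimplexCategory.Truncated n) (g : i ⟶ j) (f : j.obj ⟶ ⦋n + 1⦌),
    t ⟨i, g.hom ≫ f⟩ = (S.map g.hom.op).f (t ⟨j, f⟩)}

theorem truncated_finite : Finite (SimplexCategory.Truncated n) :=
  Finite.of_injective (fun j : SimplexCategory.Truncated n =>
    (⟨j.obj.len, Nat.lt_succ_of_le j.property⟩ : Fin (n + 1)))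
    fun i j h => ObjectProperty.FullSubcategory.ext (SimplexCategory.ext (congrArg Fin.val h))

theorem hom_finite (a b : SimplexCategory) : Finite (a ⟶ b) :=
  Finite.of_injective (fun f => (f.toOrderHom : Fin _ → Fin _))
    fun _ _ h => SimplexCategory.Hom.ext _ _ (OrderHom.ext _ _ h)

theorem pos_finite : Finite (Pos n) := by
  have := truncated_finite n
  have := fun j : SimplexCategory.Truncated n => hom_finite j.obj ⦋n + 1⦌
  infer_instance

/-- The relations between the positions. -/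
abbrev Rel : Type := Σ (i : SimplexCategory.Truncated n) (j : SimplexCategory.Truncated n) (_ : i ⟶ j),
  (j.obj ⟶ ⦋n + 1⦌)

theorem rel_finite : Finite (Rel n) := by
  have := truncated_finite n
  have := fun j : SimplexCategory.Truncated n => hom_finite j.obj ⦋n + 1⦌
  have : ∀ i j : SimplexCategory.Truncated n, Finite (i ⟶ j) := fun i j =>
    have := hom_finite i.obj j.obj
    Finite.of_injective (fun g => g.hom) fun _ _ h => InducedCategory.hom_ext h
  infer_instance

theorem tup_finite (h : ∀ m, Finite (S.obj m).I) : Finite (Tup S n) := by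
  have := pos_finite n
  infer_instance

/-- For each tuple of indices there is a universal family. -/
theorem exists_universal [HasFiniteProducts C] [HasEqualizers C] (t : Tup S n) :
    ∃ (L : C) (a : Fam (ev (pts S) L) n (n + 1)), ∀ (U : C) (b : Fam (ev (pts S) U) n (n + 1)),
      (∀ (j : SimplexCategory.Truncated n) f, (b.val j f).1 = t.1 ⟨j, f⟩) →
        ∃ h : U ⟶ L, b = a.map (res (pts S) h) := by
  have := pos_finite n
  have := rel_finite n
  let F : Pos n → C := fun p => (S.obj (op p.1.obj)).obj (t.1 p)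
  let G : Rel n → C := fun r => (S.obj (op r.1.obj)).obj (t.1 ⟨r.1, r.2.2.1.hom ≫ r.2.2.2⟩)
  let u : (∏ᶜ F) ⟶ ∏ᶜ G := Pi.lift fun r => Pi.π F ⟨r.1, r.2.2.1.hom ≫ r.2.2.2⟩
  let v : (∏ᶜ F) ⟶ ∏ᶜ G := Pi.lift fun r => Pi.π F ⟨r.2.1, r.2.2.2⟩ ≫
    (S.map r.2.2.1.hom.op).φ (t.1 ⟨r.2.1, r.2.2.2⟩) ≫
      eqToHom (congrArg (S.obj (op r.1.obj)).obj (t.2 r.1 r.2.1 r.2.2.1 r.2.2.2).symm)
  let a : Fam (ev (pts S) (equalizer u v)) n (n + 1) :=
    { val := fun j f => ⟨t.1 ⟨j, f⟩, equalizer.ι u v ≫ Pi.π F ⟨j, f⟩⟩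
      nat := fun i j g f => by
        have h := congrArg (fun z => z ≫ Pi.π G ⟨i, j, g, f⟩) (equalizer.condition u v)
        simp only [u, v, Category.assoc, Pi.lift_π] at h
        refine Sigma.ext (t.2 i j g f) ?_
        rw [h]
        show HEq (equalizer.ι u v ≫ Pi.π F ⟨j, f⟩ ≫ _ ≫ eqToHom _)
          ((equalizer.ι u v ≫ Pi.π F ⟨j, f⟩) ≫ (S.map g.hom.op).φ (t.1 ⟨j, f⟩))
        simp only [← Category.assoc]
        exact comp_eqToHom_heq _ _ }
  refine ⟨equalizer u v, a, fun U b hb => ?_⟩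
  let q : ∀ p : Pos n, U ⟶ F p := fun p =>
    (b.val p.1 p.2).2 ≫ eqToHom (congrArg (S.obj (op p.1.obj)).obj (hb p.1 p.2))
  have key : ∀ p : Pos n, b.val p.1 p.2 = ⟨t.1 p, q p⟩ := fun p =>
    Sigma.ext (hb p.1 p.2) (comp_eqToHom_heq _ _).symm
  refine ⟨equalizer.lift (Pi.lift q) (Pi.hom_ext _ _ fun r => ?_), Fam.ext' fun j f => ?_⟩
  · obtain ⟨i, j, g, f⟩ := r
    simp only [u, v, Category.assoc, Pi.lift_π, Pi.lift_π_assoc]
    have h := b.nat i j g f
    rw [key ⟨i, g.hom ≫ f⟩, key ⟨j, f⟩] at h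
    refine eq_of_heq ((Sigma.ext_iff.1 h).2.trans ?_)
    rw [← Category.assoc]
    exact (comp_eqToHom_heq _ _).symm
  · rw [key ⟨j, f⟩]
    refine Sigma.ext rfl (heq_of_eq ?_)
    show q ⟨j, f⟩ = equalizer.lift (Pi.lift q) _ ≫ equalizer.ι u v ≫ Pi.π F ⟨j, f⟩
    rw [equalizer.lift_ι_assoc, Pi.lift_π]

end univ

/-- The builder using finite coverings of the universal families. -/
noncomputable def finBuilder [HasFiniteProducts C] [HasEqualizers C] (J : GrothendieckTopology C)
    (L₀ : FormalCoproduct.{u} C) (hL : Finite L₀.I)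
    (h0 : ∀ U : C, ∃ R ∈ J U, ∀ ⦃V : C⦄ (g : V ⟶ U), R g → ∃ i, Nonempty (V ⟶ L₀.obj i))
    (ι : C → Type u) (hι : ∀ U, Finite (ι U)) (cov : ∀ U, ι U → C) (f : ∀ U i, cov U i ⟶ U)
    (hc : ∀ U, Sieve.ofArrows (cov U) (f U) ∈ J U) : Builder J True where
  L₀ := L₀
  fin₀ _ := hL
  zero := h0
  cells n S _ :=
    { I := Σ t : Tup S n, ι (exists_universal S n t).choose
      o := fun x => cov _ x.2
      a := fun x => (exists_universal S n x.1).choose_spec.choose.map (res (pts S) (f _ x.2)) }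
  cover n S _ U b := by
    let t : Tup S n := ⟨fun p => (b.val p.1 p.2).1, fun i j g f => congrArg Sigma.fst (b.nat i j g f)⟩
    obtain ⟨h, hh⟩ := (exists_universal S n t).choose_spec.choose_spec U b fun j f => rfl
    refine ⟨_, J.pullback_stable h (hc _), fun V g hg => ?_⟩
    rw [Sieve.pullback_apply, Sieve.mem_ofArrows_iff] at hg
    obtain ⟨i, k, hk⟩ := hg
    refine ⟨⟨t, i⟩, k, ?_⟩
    rw [hh, Fam.map_map, Fam.map_map, res_comp, res_comp, hk]
  finite h n S hS := by
    have := tup_finite S n fun m => hS m h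
    have := fun t : Tup S n => hι (exists_universal S n t).choose
    infer_instance

end Groth.Agent.Hyper50
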