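import Groth.Agent.Hyper50.LocSurj
import Groth.Agent.SSet45.Coskeletal
import Mathlib.AlgebraicTopology.SimplicialObject.Basic

/-! Matching families and local filling conditions for simplicial presheaves of sets. -/

set_option autoImplicit false

universe u

open CategoryTheory CategoryTheory.Limits Opposite Simplicial

namespace Groth.Agent.Hyper50

/-- A compatible family of simplices of dimension at most `n` indexed by those of `Δ[k]`. -/
@[ext]
structure Fam (S : SSet.{u}) (n k : ℕ) where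
  val : ∀ j : SimplexCategory.Truncated n, (j.obj ⟶ ⦋k⦌) → S.obj (op j.obj)
  nat : ∀ (i j : SimplexCategory.Truncated n) (g : i ⟶ j) (f : j.obj ⟶ ⦋k⦌),
    val i (g.hom ≫ f) = S.map g.hom.op (val j f)

namespace Fam

variable {S T R : SSet.{u}} {n k : ℕ}

theorem ext' {a b : Fam S n k} (h : ∀ j f, a.val j f = b.val j f) : a = b :=
  Fam.ext (funext fun j => funext fun f => h j f)

@[simps]
def map (φ : S ⟶ T) (a : Fam S n k) : Fam T n k where
  val j f := φ.app _ (a.val j f)
  nat i j g f := by rw [a.nat, NatTrans.naturality_apply]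

@[simps]
def ofSimplex (x : S.obj (op ⦋k⦌)) : Fam S n k where
  val j f := S.map f.op x
  nat i j g f := by rw [op_comp, Functor.map_comp, comp_apply]

theorem map_ofSimplex (φ : S ⟶ T) (x : S.obj (op ⦋k⦌)) :
    (ofSimplex x : Fam S n k).map φ = ofSimplex (φ.app _ x) :=
  ext' fun j f => by simp [NatTrans.naturality_apply]

theorem map_map (φ : S ⟶ T) (ψ : T ⟶ R) (a : Fam S n k) :
    (a.map φ).map ψ = a.map (φ ≫ ψ) :=
  ext' fun j f => rfl

theorem map_id (a : Fam S n k) : a.map (𝟙 S) = a :=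
  ext' fun j f => rfl

/-- Reindexing along a map of simplices. -/
@[simps]
def pre {l : ℕ} (θ : ⦋l⦌ ⟶ ⦋k⦌) (a : Fam S n k) : Fam S n l where
  val j f := a.val j (f ≫ θ)
  nat i j g f := by rw [Category.assoc, a.nat]

theorem existsUnique_ofSimplex [SimplicialObject.IsCoskeletal S n] (a : Fam S n k) :
    ∃! x : S.obj (op ⦋k⦌), ofSimplex x = a := by
  obtain ⟨x, hx, hu⟩ := SSet45.cosk_existsUnique S n a.val a.nat
  exact ⟨x, ext' fun j f => hx j f, fun y hy => hu y fun j f => by rw [← hy]; rfl⟩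

/-- A bijection in degrees at most `n` identifies families. -/
theorem map_bijective (φ : S ⟶ T) (h : ∀ j ≤ n, Function.Bijective (φ.app (op ⦋j⦌))) :
    Function.Bijective (map φ : Fam S n k → Fam T n k) := by
  have h' : ∀ j : SimplexCategory.Truncated n, Function.Bijective (φ.app (op j.obj)) := fun j =>
    h j.obj.len j.property
  refine ⟨fun a b hab => ext' fun j f => (h' j).1 (congrArg (fun c : Fam T n k => c.val j f) hab),
    fun b => ?_⟩
  choose v hv using fun j (f : j.obj ⟶ ⦋k⦌) => (h' j).2 (b.val j f)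
  refine ⟨⟨v, fun i j g f => (h' i).1 ?_⟩, ext' hv⟩
  rw [hv, NatTrans.naturality_apply, hv, b.nat]

end Fam

variable {C : Type u} [SmallCategory C]

/-- The sections of a simplicial presheaf of sets over an object. -/
abbrev ev (S : SimplicialObject (Cᵒᵖ ⥤ Type u)) (U : C) : SSet.{u} :=
  S ⋙ (evaluation Cᵒᵖ (Type u)).obj (op U)

/-- Restriction of sections. -/
abbrev res (S : SimplicialObject (Cᵒᵖ ⥤ Type u)) {U V : C} (g : V ⟶ U) : ev S U ⟶ ev S V :=
  Functor.whiskerLeft S ((evaluation Cᵒᵖ (Type u)).map g.op)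

/-- A morphism on sections. -/
abbrev evMap {S T : SimplicialObject (Cᵒᵖ ⥤ Type u)} (p : S ⟶ T) (U : C) : ev S U ⟶ ev T U :=
  Functor.whiskerRight p ((evaluation Cᵒᵖ (Type u)).obj (op U))

theorem res_evMap {S T : SimplicialObject (Cᵒᵖ ⥤ Type u)} (p : S ⟶ T) {U V : C} (g : V ⟶ U) :
    res S g ≫ evMap p V = evMap p U ≫ res T g := by
  ext m x
  exact (NatTrans.naturality_apply (p.app m) g.op x)

theorem res_comp (S : SimplicialObject (Cᵒᵖ ⥤ Type u)) {U V W : C} (h : W ⟶ V) (g : V ⟶ U) :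
    res S g ≫ res S h = res S (h ≫ g) := by
  ext m x
  exact (Functor.map_comp_apply (S.obj m) g.op h.op x).symm

variable (J : GrothendieckTopology C)

/-- Local filling of all matching families and local existence of a vertex. -/
structure IsHyp (S : SimplicialObject (Cᵒᵖ ⥤ Type u)) : Prop where
  zero : ∀ U : C, ∃ R ∈ J U, ∀ ⦃V : C⦄ (g : V ⟶ U), R g → Nonempty ((ev S V).obj (op ⦋0⦌))
  fill : ∀ (n : ℕ) (U : C) (a : Fam (ev S U) n (n + 1)), ∃ R ∈ J U, ∀ ⦃V : C⦄ (g : V ⟶ U), R g →
    ∃ y : (ev S V).obj (op ⦋n + 1⦌), Fam.ofSimplex y = a.map (res S g)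

/-- Relative local filling. -/
structure IsLocFib {S T : SimplicialObject (Cᵒᵖ ⥤ Type u)} (p : S ⟶ T) : Prop where
  zero : Presheaf.IsLocallySurjective J (p.app (op ⦋0⦌))
  fill : ∀ (n : ℕ) (U : C) (a : Fam (ev S U) n (n + 1)) (x : (ev T U).obj (op ⦋n + 1⦌)),
    Fam.ofSimplex x = a.map (evMap p U) → ∃ R ∈ J U, ∀ ⦃V : C⦄ (g : V ⟶ U), R g →
      ∃ y : (ev S V).obj (op ⦋n + 1⦌),
        Fam.ofSimplex y = a.map (res S g) ∧ (evMap p V).app _ y = (res T g).app _ x

variable {J}

theorem IsHyp.of_locFib {S T : SimplicialObject (Cᵒᵖ ⥤ Type u)} {p : S ⟶ T}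
    (hp : IsLocFib J p) (hT : IsHyp J T) : IsHyp J S where
  zero U := by
    obtain ⟨R, hR, h⟩ := hT.zero U
    let x := fun V (g : V ⟶ U) (hg : R g) => (h g hg).some
    have := hp.zero
    refine ⟨Sieve.bind R fun V g hg => Presheaf.imageSieve (p.app (op ⦋0⦌)) (x V g hg),
      J.bind_covering hR fun V g hg => Presheaf.imageSieve_mem J _ _, ?_⟩
    rintro W _ ⟨V, h', g, hg, ⟨t, -⟩, rfl⟩
    exact ⟨t⟩
  fill n U a := by
    obtain ⟨R, hR, h⟩ := hT.fill n U (a.map (evMap p U))
    choose x hx using h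
    have key : ∀ ⦃V : C⦄ (g : V ⟶ U) (hg : R g), Fam.ofSimplex (x g hg) =
        (a.map (res S g)).map (evMap p V) := fun V g hg => by
      rw [hx, Fam.map_map, Fam.map_map, res_evMap]
    choose R' hR' h' using fun V g (hg : R g) => hp.fill n V _ (x g hg) (key g hg)
    refine ⟨Sieve.bind R fun V g hg => R' V g hg, J.bind_covering hR fun V g hg => hR' V g hg, ?_⟩
    rintro W _ ⟨V, w, g, hg, hw, rfl⟩
    obtain ⟨y, hy, -⟩ := h' V g hg w hw
    exact ⟨y, by rw [hy, Fam.map_map, res_comp]⟩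

theorem IsLocFib.comp {S T Q : SimplicialObject (Cᵒᵖ ⥤ Type u)} {p : S ⟶ T} {q : T ⟶ Q}
    (hp : IsLocFib J p) (hq : IsLocFib J q) : IsLocFib J (p ≫ q) where
  zero := by
    have := hp.zero; have := hq.zero
    rw [NatTrans.comp_app]
    infer_instance
  fill n U a x hx := by
    obtain ⟨R, hR, h⟩ := hq.fill n U (a.map (evMap p U)) x (hx.trans (Fam.ext' fun j f => rfl))
    choose z hz hz' using h
    have key : ∀ ⦃V : C⦄ (g : V ⟶ U) (hg : R g), Fam.ofSimplex (z g hg) =
        (a.map (res S g)).map (evMap p V) := fun V g hg => by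
      rw [hz, Fam.map_map, Fam.map_map, res_evMap]
    choose R' hR' h' using fun V g (hg : R g) => hp.fill n V _ (z g hg) (key g hg)
    refine ⟨Sieve.bind R fun V g hg => R' V g hg, J.bind_covering hR fun V g hg => hR' V g hg, ?_⟩
    rintro W _ ⟨V, w, g, hg, hw, rfl⟩
    obtain ⟨y, hy, hy'⟩ := h' V g hg w hw
    refine ⟨y, by rw [hy, Fam.map_map, res_comp], ?_⟩
    show (evMap q W).app _ ((evMap p W).app _ y) = _
    rw [hy', ← comp_apply, ← NatTrans.comp_app, res_evMap, NatTrans.comp_app, comp_apply, hz']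
    rw [← res_comp]
    rfl

theorem IsLocFib.of_isPullback {P A B D : SimplicialObject (Cᵒᵖ ⥤ Type u)} {fst : P ⟶ A}
    {snd : P ⟶ B} {f : A ⟶ D} {g : B ⟶ D} (h : IsPullback fst snd f g) (hg : IsLocFib J g) :
    IsLocFib J fst where
  zero := by
    have : Presheaf.IsLocallySurjective J (((evaluation _ _).obj (op ⦋0⦌)).map g) := hg.zero
    exact isLocallySurjective_of_isPullback J (h.map ((evaluation _ _).obj (op ⦋0⦌)))
  fill n U a x hx := by
    have sq : ∀ (m : SimplexCategoryᵒᵖ) (V : C), IsPullback ((evMap fst V).app m) ((evMap snd V).app m)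
        ((evMap f V).app m) ((evMap g V).app m) := fun m V =>
      (h.map ((evaluation _ _).obj m)).map ((evaluation _ _).obj (op V))
    have w : ∀ V, evMap fst V ≫ evMap f V = evMap snd V ≫ evMap g V := fun V => by
      rw [← Functor.whiskerRight_comp, h.w, Functor.whiskerRight_comp]
    obtain ⟨R, hR, hfill⟩ := hg.fill n U (a.map (evMap snd U)) ((evMap f U).app _ x) (by
      rw [← Fam.map_ofSimplex, hx, Fam.map_map, Fam.map_map, w])
    refine ⟨R, hR, fun V k hk => ?_⟩
    obtain ⟨y, hy, hy'⟩ := hfill k hk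
    obtain ⟨p, hp1, hp2⟩ := Types.exists_of_isPullback (sq _ V) ((res A k).app _ x) y (by
      rw [hy', ← comp_apply, ← comp_apply, ← NatTrans.comp_app, ← NatTrans.comp_app, res_evMap])
    refine ⟨p, Fam.ext' fun j s => Types.ext_of_isPullback (sq _ V) ?_ ?_, hp1⟩
    · show (evMap fst V).app _ ((ev P V).map s.op p) = _
      rw [NatTrans.naturality_apply, hp1, ← NatTrans.naturality_apply]
      have := congrArg (fun c : Fam (ev A U) n (n + 1) => (res A k).app _ (c.val j s)) hx
      refine this.trans ?_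
      show (res A k).app _ ((evMap fst U).app _ _) = (evMap fst V).app _ ((res P k).app _ _)
      rw [← comp_apply, ← comp_apply, ← NatTrans.comp_app, ← NatTrans.comp_app, res_evMap]
    · show (evMap snd V).app _ ((ev P V).map s.op p) = _
      rw [NatTrans.naturality_apply, hp2]
      refine (congrArg (fun c : Fam (ev B V) n (n + 1) => c.val j s) hy).trans ?_
      show (res B k).app _ ((evMap snd U).app _ _) = (evMap snd V).app _ ((res P k).app _ _)
      rw [← comp_apply, ← comp_apply, ← NatTrans.comp_app, ← NatTrans.comp_app, res_evMap]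

end Groth.Agent.Hyper50
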