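import Groth.Agent.Hyper50.Sections

/-! Every presheaf receives a map from a coproduct of representables, surjective on sections. -/

set_option autoImplicit false

universe u

open CategoryTheory CategoryTheory.Limits Opposite

namespace Groth.Agent.Hyper50

variable {C : Type u} [SmallCategory C]

/-- All sections of a presheaf. -/
def elemsFC (P : Cᵒᵖ ⥤ Type u) : FormalCoproduct.{u} C :=
  ⟨Σ U : C, P.obj (op U), fun p => p.1⟩

/-- The tautological map. -/
def elemsMap (P : Cᵒᵖ ⥤ Type u) : Pts.obj (elemsFC P) ⟶ P where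
  app T := ↾fun x => P.map x.2.op x.1.2
  naturality T T' g := by
    ext ⟨p, h⟩
    exact Functor.map_comp_apply P h.op g p.2

theorem elemsMap_surjective (P : Cᵒᵖ ⥤ Type u) (T : Cᵒᵖ) : Function.Surjective ((elemsMap P).app T) :=
  fun x => ⟨⟨⟨T.unop, x⟩, 𝟙 _⟩, ConcreteCategory.congr_hom (P.map_id T) x⟩

/-- A map to a coproduct of representables gives a morphism of formal coproducts. -/
def ofPts {K : FormalCoproduct.{u} C} {P : Cᵒᵖ ⥤ Type u} (v : P ⟶ Pts.obj K) : elemsFC P ⟶ K where
  f p := (v.app (op p.1) p.2).1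
  φ p := (v.app (op p.1) p.2).2

theorem map_ofPts {K : FormalCoproduct.{u} C} {P : Cᵒᵖ ⥤ Type u} (v : P ⟶ Pts.obj K) :
    Pts.map (ofPts v) = elemsMap P ≫ v := by
  ext T ⟨p, h⟩
  exact (NatTrans.naturality_apply v h.op p.2).symm

end Groth.Agent.Hyper50
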