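import Mathlib.AlgebraicTopology.SimplicialObject.Basic
import Mathlib.CategoryTheory.Functor.OfSequence

/-! Gluing a sequence of simplicial objects which is stable in each degree. -/

set_option autoImplicit false

universe v u

open CategoryTheory Opposite Simplicial

namespace Groth.Agent.Hyper50

/-- A sequence of simplicial objects whose `n`-th transition is invertible in degrees at most `n`. -/
structure Stable (E : Type u) [Category.{v} E] where
  S : ℕ → SimplicialObject E
  step : ∀ n, S n ⟶ S (n + 1)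
  iso : ∀ n (m : SimplexCategoryᵒᵖ), m.unop.len ≤ n → IsIso ((step n).app m)

namespace Stable

variable {E : Type u} [Category.{v} E] (T : Stable E)

def t {a b : ℕ} (h : a ≤ b) : T.S a ⟶ T.S b :=
  (Functor.ofSequence T.step).map (homOfLE h)

theorem t_refl (a : ℕ) : T.t (le_refl a) = 𝟙 _ :=
  (Functor.ofSequence T.step).map_id a

theorem t_comp {a b c : ℕ} (h : a ≤ b) (h' : b ≤ c) : T.t h ≫ T.t h' = T.t (h.trans h') :=
  ((Functor.ofSequence T.step).map_comp (homOfLE h) (homOfLE h')).symm

theorem t_succ (a : ℕ) : T.t (Nat.le_succ a) = T.step a :=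
  Functor.ofSequence_map_homOfLE_succ T.step a

theorem isIso_t {a b : ℕ} (h : a ≤ b) (m : SimplexCategoryᵒᵖ) (hm : m.unop.len ≤ a) :
    IsIso ((T.t h).app m) := by
  induction h with
  | refl =>
    rw [show T.t (Nat.le.refl : a ≤ a) = 𝟙 _ from T.t_refl a]
    exact inferInstanceAs (IsIso (𝟙 ((T.S a).obj m)))
  | @step b h ih =>
    rw [← T.t_comp h (Nat.le_succ b), T.t_succ, NatTrans.comp_app]
    have := T.iso b m (hm.trans h)
    infer_instance

noncomputable def up (m : SimplexCategoryᵒᵖ) {c : ℕ} (h : m.unop.len ≤ c) :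
    (T.S m.unop.len).obj m ≅ (T.S c).obj m :=
  @asIso _ _ _ _ ((T.t h).app m) (T.isIso_t h m le_rfl)

theorem up_hom (m : SimplexCategoryᵒᵖ) {c : ℕ} (h : m.unop.len ≤ c) :
    (T.up m h).hom = (T.t h).app m := rfl

noncomputable def limMap {m m' : SimplexCategoryᵒᵖ} (θ : m ⟶ m') :
    (T.S m.unop.len).obj m ⟶ (T.S m'.unop.len).obj m' :=
  (T.up m (le_max_left _ _)).hom ≫ (T.S _).map θ ≫
    (T.up m' (le_max_right m.unop.len m'.unop.len)).inv

theorem limMap_up {m m' : SimplexCategoryᵒᵖ} (θ : m ⟶ m') {c : ℕ} (h : m.unop.len ≤ c)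
    (h' : m'.unop.len ≤ c) :
    T.limMap θ ≫ (T.up m' h').hom = (T.up m h).hom ≫ (T.S c).map θ := by
  have hd : max m.unop.len m'.unop.len ≤ c := max_le h h'
  simp only [limMap, up_hom, Category.assoc]
  rw [← T.t_comp (le_max_right m.unop.len m'.unop.len) hd, NatTrans.comp_app,
    ← up_hom _ _ (le_max_right _ _), Iso.inv_hom_id_assoc, NatTrans.naturality,
    ← T.t_comp (le_max_left m.unop.len m'.unop.len) hd, NatTrans.comp_app, Category.assoc]

/-- The glued simplicial object. -/
noncomputable def lim : SimplicialObject E where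
  obj m := (T.S m.unop.len).obj m
  map θ := T.limMap θ
  map_id m := by
    rw [← cancel_mono (T.up m (le_refl m.unop.len)).hom, T.limMap_up (𝟙 m) le_rfl le_rfl]
    simp
  map_comp {m m' m''} θ θ' := by
    let c := max m.unop.len (max m'.unop.len m''.unop.len)
    have h : m.unop.len ≤ c := le_max_left _ _
    have h' : m'.unop.len ≤ c := (le_max_left _ _).trans (le_max_right _ _)
    have h'' : m''.unop.len ≤ c := (le_max_right _ _).trans (le_max_right _ _)
    rw [← cancel_mono (T.up m'' h'').hom, T.limMap_up (θ ≫ θ') h h'', Category.assoc,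
      T.limMap_up θ' h' h'', reassoc_of% T.limMap_up θ h h', Functor.map_comp]

theorem lim_obj (n : ℕ) : T.lim.obj (op ⦋n⦌) = (T.S n).obj (op ⦋n⦌) := rfl

noncomputable def κApp (c : ℕ) (m : SimplexCategoryᵒᵖ) : (T.S c).obj m ⟶ T.lim.obj m :=
  (T.t (le_max_left c m.unop.len)).app m ≫ (T.up m (le_max_right c m.unop.len)).inv

theorem κApp_up {c d : ℕ} (m : SimplexCategoryᵒᵖ) (h : c ≤ d) (h' : m.unop.len ≤ d) :
    T.κApp c m ≫ (T.up m h').hom = (T.t h).app m := by
  have hd : max c m.unop.len ≤ d := max_le h h'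
  simp only [κApp, up_hom, Category.assoc]
  rw [← T.t_comp (le_max_right c m.unop.len) hd, NatTrans.comp_app,
    ← up_hom _ _ (le_max_right _ _)]
  erw [Iso.inv_hom_id_assoc]
  rw [← T.t_comp (le_max_left c m.unop.len) hd, NatTrans.comp_app]

/-- The coprojection from a stage. -/
noncomputable def κ (c : ℕ) : T.S c ⟶ T.lim where
  app m := T.κApp c m
  naturality m m' θ := by
    let d := max c (max m.unop.len m'.unop.len)
    have hc : c ≤ d := le_max_left _ _
    have h : m.unop.len ≤ d := (le_max_left _ _).trans (le_max_right _ _)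
    have h' : m'.unop.len ≤ d := (le_max_right _ _).trans (le_max_right _ _)
    have key : ((T.S c).map θ ≫ T.κApp c m') ≫ (T.up m' h').hom =
        (T.κApp c m ≫ T.limMap θ) ≫ (T.up m' h').hom := by
      rw [Category.assoc, Category.assoc, T.κApp_up m' hc h', NatTrans.naturality,
        ← T.κApp_up m hc h, Category.assoc]
      exact congrArg (T.κApp c m ≫ ·) (T.limMap_up θ h h').symm
    exact (cancel_mono (T.up m' h').hom).1 key

theorem isIso_κ (c : ℕ) (m : SimplexCategoryᵒᵖ) (hm : m.unop.len ≤ c) : IsIso ((T.κ c).app m) := by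
  have : IsIso ((T.t (le_max_left c m.unop.len)).app m) := T.isIso_t _ m hm
  exact inferInstanceAs (IsIso (_ ≫ _))

end Stable

end Groth.Agent.Hyper50
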