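import Groth.Agent.Hyper50.Compare

/-! Čech classes over hypercoverings and sheaf cohomology. -/

set_option autoImplicit false
set_option linter.unusedSectionVars false

universe u

open CategoryTheory CategoryTheory.Limits Opposite Simplicial CategoryTheory.Abelian

namespace Groth.Agent.Hyper50

variable {C : Type u} [SmallCategory C] {J : GrothendieckTopology C} [HasPullbacks C] {X : C}

theorem isLocallyZero_kernel {A B : Cᵒᵖ ⥤ AddCommGrpCat.{u}} (η : A ⟶ B) [Presheaf.IsLocallyInjective J η] :
    IsLocallyZero J (kernel η) := by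
  intro U k
  have h : η.app (op U) ((kernel.ι η).app (op U) k) = η.app (op U) 0 := by
    rw [map_zero]
    exact ConcreteCategory.congr_hom (NatTrans.congr_app (kernel.condition η) (op U)) k
  refine ⟨_, Presheaf.equalizerSieve_mem J η (X := op U) _ _ h, fun V g hg => ?_⟩
  have hm : Mono ((kernel.ι η).app (op V)) :=
    inferInstanceAs (Mono (((evaluation Cᵒᵖ AddCommGrpCat.{u}).obj (op V)).map (kernel.ι η)))
  apply (AddCommGrpCat.mono_iff_injective _).1 hm
  rw [NatTrans.naturality_apply, map_zero]
  exact (show A.map g.op _ = A.map g.op (0 : A.obj (op U)) from hg).trans (map_zero _)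

theorem isLocallyZero_cokernel {A B : Cᵒᵖ ⥤ AddCommGrpCat.{u}} (η : A ⟶ B) [Presheaf.IsLocallySurjective J η] :
    IsLocallyZero J (cokernel η) := by
  intro U y
  have he : Epi ((cokernel.π η).app (op U)) :=
    inferInstanceAs (Epi (((evaluation Cᵒᵖ AddCommGrpCat.{u}).obj (op U)).map (cokernel.π η)))
  obtain ⟨b, rfl⟩ := (AddCommGrpCat.epi_iff_surjective _).1 he y
  refine ⟨_, Presheaf.imageSieve_mem J η (U := op U) b, fun V g hg => ?_⟩
  obtain ⟨t, ht⟩ := hg
  rw [← NatTrans.naturality_apply]
  refine (congrArg _ ht.symm).trans ?_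
  exact ConcreteCategory.congr_hom (NatTrans.congr_app (cokernel.condition η) (op V)) t

variable [∀ (n : ℕ) (F : (SimplexCategory.Truncated n)ᵒᵖ ⥤ FormalCoproduct.{u} (Over X)),
  (SimplexCategory.Truncated.inclusion n).op.HasRightKanExtension F]

theorem dies_injective (I : Sheaf J AddCommGrpCat.{u}) [Injective I] (q : ℕ) : Dies J X I.obj (q + 1) :=
  fun K hK ξ => ⟨K, 𝟙 K, hK, by
    have := AddCommGrpCat.subsingleton_of_isZero
      (cech_injective_vanishing X K ((isHypercovering_iff J X K).2 hK) I q)
    rw [Subsingleton.elim ξ 0, map_zero]⟩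

section

variable (F : Sheaf J AddCommGrpCat.{u})

/-- The presheaf quotient of the injective embedding. -/
noncomputable abbrev quotPre : Cᵒᵖ ⥤ AddCommGrpCat.{u} := cokernel (SiteCoh.injSES F).f.hom

/-- Its map to the sheaf quotient. -/
noncomputable abbrev quotMap : quotPre F ⟶ (SiteCoh.injSES F).X₃.obj :=
  cokernel.desc _ (SiteCoh.injSES F).g.hom (congrArg (fun k => k.hom) (SiteCoh.injSES F).zero)

theorem quot_secSES : SecSES (ShortComplex.mk (SiteCoh.injSES F).f.hom (cokernel.π _) (cokernel.condition _)) := by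
  have : Mono (SiteCoh.injSES F).f := inferInstanceAs (Mono (Injective.ι F))
  have : Mono (SiteCoh.injSES F).f.hom := inferInstanceAs (Mono ((sheafToPresheaf J AddCommGrpCat.{u}).map _))
  exact secSES_of_shortExact
    { exact := ShortComplex.exact_of_g_is_cokernel _ (cokernelIsCokernel _)
      mono_f := this
      epi_g := inferInstance }

theorem quotMap_π (U : C) (b : (Injective.under F).obj.obj (op U)) :
    (quotMap F).app (op U) ((cokernel.π (SiteCoh.injSES F).f.hom).app (op U) b) =
      (SiteCoh.injSES F).g.hom.app (op U) b :=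
  ConcreteCategory.congr_hom (NatTrans.congr_app (cokernel.π_desc _ _ _) (op U)) b

theorem quotMap_injective (U : C) : Function.Injective ((quotMap F).app (op U)) := by
  intro a b hab
  obtain ⟨a, rfl⟩ := (quot_secSES F).surj U a
  obtain ⟨b, rfl⟩ := (quot_secSES F).surj U b
  rw [quotMap_π, quotMap_π, ← sub_eq_zero, ← map_sub] at hab
  obtain ⟨t, ht⟩ := sec_exact (SiteCoh.injSES_shortExact F) U hab
  rw [← sub_eq_zero, ← map_sub]
  refine (congrArg _ ht.symm).trans ?_
  exact ConcreteCategory.congr_hom
    (NatTrans.congr_app (cokernel.condition (SiteCoh.injSES F).f.hom) (op U)) t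

theorem quotMap_locInj : Presheaf.IsLocallyInjective J (quotMap F) :=
  Presheaf.isLocallyInjective_of_injective _ _ fun U => quotMap_injective F U.unop

theorem quotMap_locSurj : Presheaf.IsLocallySurjective J (quotMap F) := by
  have h1 : Sheaf.IsLocallySurjective (SiteCoh.injSES F).g :=
    (Sheaf.isLocallySurjective_iff_epi' AddCommGrpCat.{u} _).2
      (inferInstanceAs (Epi (cokernel.π (Injective.ι F))))
  have h2 : Presheaf.IsLocallySurjective J ((SiteCoh.injSES F).g.hom) := h1
  exact @Presheaf.isLocallySurjective_of_isLocallySurjective_fac _ _ J _ _ _ _ _ _ _ _ _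
    (cokernel.π (SiteCoh.injSES F).f.hom) (quotMap F) (SiteCoh.injSES F).g.hom (cokernel.π_desc _ _ _) h2

theorem quotMap_secSES :
    SecSES (ShortComplex.mk (quotMap F) (cokernel.π (quotMap F)) (cokernel.condition _)) := by
  have : ∀ U, Mono ((quotMap F).app U) := fun U =>
    (AddCommGrpCat.mono_iff_injective _).2 (quotMap_injective F U.unop)
  exact secSES_of_shortExact
    { exact := ShortComplex.exact_of_g_is_cokernel _ (cokernelIsCokernel _)
      mono_f := NatTrans.mono_of_mono_app _
      epi_g := inferInstance }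

theorem dies_quot_iff (q : ℕ) : Dies J X (quotPre F) q ↔ Dies J X (SiteCoh.injSES F).X₃.obj q :=
  dies_iff_of_locallyBijective _ (@isLocallyZero_kernel _ _ _ _ _ _ _ (quotMap_locInj F))
    (@isLocallyZero_cokernel _ _ _ _ _ _ _ (quotMap_locSurj F)) q

theorem surjective_of_dies (hF : Dies J X F.obj 1) :
    Function.Surjective ((SiteCoh.injSES F).g.hom.app (op X)) := by
  intro z
  have hP := quot_secSES F
  have h2 := quotMap_secSES F
  let S2 := ShortComplex.mk (quotMap F) (cokernel.π (quotMap F)) (cokernel.condition _)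
  have := quotMap_locSurj F
  obtain ⟨L, f, hL, hf⟩ := Dies.of_isLocallyZero (X := X) (isLocallyZero_cokernel (J := J) (quotMap F))
    0 (triv X) isHyp_triv (HomologicalComplex.homologyMap ((cechFun X (triv X)).map S2.g) 0
      (globH (triv X) (SiteCoh.injSES F).X₃.obj z))
  have hf' := (cechHMap_naturality X (triv X) f S2.g 0 _).symm.trans hf
  obtain ⟨c, hc⟩ := exists_ker _ _ _ ((cechSC_shortExact X L h2).homology_exact₂ 0) _ hf'
  obtain ⟨M, g, hM, hg⟩ := hF L hL ((cechSC_shortExact X L hP).δ 0 1 rfl c)
  have hg' := (cechHMap_δ X L g hP 0 c).symm.trans hg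
  obtain ⟨η, hη⟩ := exists_ker _ _ _ ((cechSC_shortExact X M hP).homology_exact₃ 0 1 rfl) _ hg'
  obtain ⟨w, rfl⟩ := globH_surjective hM (Injective.under F) η
  refine ⟨w, globH_injective hM (SiteCoh.injSES F).X₃ ?_⟩
  have hη' : globH M (quotPre F) ((cokernel.π (SiteCoh.injSES F).f.hom).app (op X) w) =
      Hyper.cechHMap X g (quotPre F) 0 c :=
    (globH_map M (cokernel.π (SiteCoh.injSES F).f.hom) w).symm.trans hη
  have h1 := congrArg (HomologicalComplex.homologyMap ((cechFun X M).map (quotMap F)) 0) hη'
  rw [globH_map, quotMap_π] at h1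
  refine h1.trans ((cechHMap_naturality X L g (quotMap F) 0 c).symm.trans ?_)
  refine (congrArg _ (hc.trans (globH_refine f _ z))).trans ?_
  exact globH_refine g _ z

theorem dies_of_surjective (hsurj : Function.Surjective ((SiteCoh.injSES F).g.hom.app (op X))) :
    Dies J X F.obj 1 := by
  intro K hK ξ
  have hP := quot_secSES F
  have hI := cech_injective_vanishing X K ((isHypercovering_iff J X K).2 hK) (Injective.under F) 0
  have he := (cechSC_shortExact X K hP).epi_δ 0 1 rfl hI
  obtain ⟨c, rfl⟩ := (AddCommGrpCat.epi_iff_surjective _).1 he ξ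
  obtain ⟨z, hz⟩ := globH_surjective hK (SiteCoh.injSES F).X₃
    (HomologicalComplex.homologyMap ((cechFun X K).map (quotMap F)) 0 c)
  obtain ⟨w, rfl⟩ := hsurj z
  refine ⟨K, 𝟙 K, hK, ?_⟩
  have hc : c = HomologicalComplex.homologyMap ((cechFun X K).map (cokernel.π (SiteCoh.injSES F).f.hom)) 0
      (globH K (Injective.under F).obj w) := by
    apply h0_mono X (quotMap_secSES F) K
    refine hz.symm.trans ?_
    rw [globH_map, globH_map, quotMap_π]
  have h0 : (cechSC_shortExact X K hP).δ 0 1 rfl c = 0 := by
    rw [hc]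
    exact ConcreteCategory.congr_hom ((cechSC_shortExact X K hP).comp_δ 0 1 rfl) _
  exact (congrArg _ h0).trans (map_zero _)

end

theorem dies_iff (q : ℕ) : ∀ F : Sheaf J AddCommGrpCat.{u},
    Dies J X F.obj q ↔ Subsingleton (Ext.{u} (CohCx.freeSheaf J X) F q) := by
  induction q with
  | zero =>
    intro F
    rw [dies_zero_iff, (SiteCoh.hu0Equiv F X).toEquiv.subsingleton_congr]
    exact ⟨fun h => ⟨fun a b => (h a).trans (h b).symm⟩, fun h z => Subsingleton.elim _ _⟩
  | succ q ih =>
    intro F
    have hS := SiteCoh.injSES_shortExact F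
    have hP := quot_secSES F
    cases q with
    | zero =>
      constructor
      · intro hF
        refine ⟨fun a b => ?_⟩
        have key : ∀ ξ : Ext.{u} (CohCx.freeSheaf J X) F 1, ξ = 0 := fun ξ => by
          have : Subsingleton (Ext.{u} (CohCx.freeSheaf J X) (SiteCoh.injSES F).X₂ (0 + 1)) :=
            Ext.subsingleton_of_injective _ (Injective.under F) 0
          obtain ⟨s, rfl⟩ := SiteCoh.exists_comp_extClass hS (CohCx.freeSheaf J X) 0 ξ
          obtain ⟨t, rfl⟩ := (SiteCoh.hu0Equiv _ X).symm.surjective s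
          obtain ⟨w, rfl⟩ := surjective_of_dies F hF t
          rw [← SiteCoh.hu0Equiv_symm_comp_mk₀, Ext.comp_assoc _ _ _ (add_zero 0) (zero_add 1) (by omega),
            hS.comp_extClass, Ext.comp_zero]
        exact (key a).trans (key b).symm
      · intro hF
        exact dies_of_surjective F (@sec_surjective _ _ _ _ hS X hF)
    | succ q =>
      have e1 : Dies J X F.obj (q + 1 + 1) ↔ Dies J X (quotPre F) (q + 1) :=
        ⟨fun h => dies_right_of_middle J X hP h (dies_injective (Injective.under F) q),
          fun h => dies_left_of_middle J X hP (fun p hp => by obtain rfl : p = q + 1 := by omega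
                                                              exact h) (dies_injective (Injective.under F) (q + 1))⟩
      rw [e1, dies_quot_iff, ih]
      have h2 : Subsingleton (Ext.{u} (CohCx.freeSheaf J X) (SiteCoh.injSES F).X₂ (q + 1 + 1)) :=
        Ext.subsingleton_of_injective _ (Injective.under F) (q + 1)
      have h2' : Subsingleton (Ext.{u} (CohCx.freeSheaf J X) (SiteCoh.injSES F).X₂ (q + 1)) :=
        Ext.subsingleton_of_injective _ (Injective.under F) q
      constructor
      · intro h
        exact ext_subsingleton_X₁ hS _ (q + 1)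
      · intro h
        exact ext_subsingleton_X₃ hS _ (q + 1)

end Groth.Agent.Hyper50
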