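import Groth.Agent.Hyper50.CoskHomotopy
import Mathlib.AlgebraicTopology.SimplicialObject.Homotopy
import Mathlib.CategoryTheory.Limits.Shapes.FiniteLimits
import Mathlib.CategoryTheory.Limits.Shapes.Equalizers

/-! The path object of a simplicial object in a category with finite limits. -/

set_option autoImplicit false
set_option linter.unusedSectionVars false
set_option linter.unusedVariables false

universe v u

open CategoryTheory CategoryTheory.Limits Opposite Simplicial

namespace Groth.Agent.Hyper50.Path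

open CoskHomotopy (chi chi_apply val_succAbove val_predAbove)

variable {D : Type u} [Category.{v} D] [HasFiniteLimits D] (L : SimplicialObject D)

/-- Compatibility of prisms. -/
noncomputable abbrev pL (k : ℕ) : (∏ᶜ fun _ : Fin (k + 1) => L _⦋k + 1⦌) ⟶ (∏ᶜ fun _ : Fin k => L _⦋k⦌) :=
  Pi.lift fun i => Pi.π (fun _ : Fin (k + 1) => L _⦋k + 1⦌) i.castSucc ≫ L.δ i.castSucc.succ

/-- Compatibility of prisms. -/
noncomputable abbrev pR (k : ℕ) : (∏ᶜ fun _ : Fin (k + 1) => L _⦋k + 1⦌) ⟶ (∏ᶜ fun _ : Fin k => L _⦋k⦌) :=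
  Pi.lift fun i => Pi.π (fun _ : Fin (k + 1) => L _⦋k + 1⦌) i.succ ≫ L.δ i.castSucc.succ

/-- Prisms. -/
noncomputable abbrev obj (k : ℕ) : D := equalizer (pL L k) (pR L k)

/-- The top simplices of a prism. -/
noncomputable abbrev pr (k : ℕ) (i : Fin (k + 1)) : obj L k ⟶ L _⦋k + 1⦌ :=
  equalizer.ι (pL L k) (pR L k) ≫ Pi.π (fun _ : Fin (k + 1) => L _⦋k + 1⦌) i

theorem pr_rel (k : ℕ) (i : Fin k) :
    pr L k i.castSucc ≫ L.δ i.castSucc.succ = pr L k i.succ ≫ L.δ i.castSucc.succ := by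
  have h := congrArg (fun t => t ≫ Pi.π (fun _ : Fin k => L _⦋k⦌) i) (equalizer.condition (pL L k) (pR L k))
  simpa [pL, pR] using h

theorem obj_ext {k : ℕ} {Z : D} {a b : Z ⟶ obj L k} (h : ∀ i, a ≫ pr L k i = b ≫ pr L k i) : a = b :=
  equalizer.hom_ext (Limits.Pi.hom_ext _ _ fun i => by simpa [pr] using h i)

/-- Gluing top simplices. -/
noncomputable def glue {k : ℕ} {Z : D} (t : Fin (k + 1) → (Z ⟶ L _⦋k + 1⦌))
    (h : ∀ i : Fin k, t i.castSucc ≫ L.δ i.castSucc.succ = t i.succ ≫ L.δ i.castSucc.succ) : Z ⟶ obj L k :=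
  equalizer.lift (Pi.lift t) (Limits.Pi.hom_ext _ _ fun i => by simpa [pL, pR] using h i)

theorem glue_pr {k : ℕ} {Z : D} (t : Fin (k + 1) → (Z ⟶ L _⦋k + 1⦌))
    (h : ∀ i : Fin k, t i.castSucc ≫ L.δ i.castSucc.succ = t i.succ ≫ L.δ i.castSucc.succ) (i : Fin (k + 1)) :
    glue L t h ≫ pr L k i = t i := by
  simp [glue, pr]

variable {m : SimplexCategory} {k : ℕ}

/-- The simplex `i` contains the chain. -/
def Adm (α : m ⟶ ⦋k⦌) (χ : m ⟶ ⦋1⦌) (j : Fin (k + 1)) : Prop :=
  ∀ l, (χ.toOrderHom l = 0 → α.toOrderHom l ≤ j) ∧ (χ.toOrderHom l = 1 → j ≤ α.toOrderHom l)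

theorem adm_exists (α : m ⟶ ⦋k⦌) (χ : m ⟶ ⦋1⦌) : ∃ j, Adm α χ j := by
  classical
  let S := Finset.univ.filter fun l => χ.toOrderHom l = 0
  refine ⟨S.sup fun l => (α.toOrderHom l : Fin (k + 1)), fun l => ⟨fun hl => ?_, fun hl => ?_⟩⟩
  · exact Finset.le_sup (f := fun l => (α.toOrderHom l : Fin (k + 1))) (Finset.mem_filter.2 ⟨Finset.mem_univ _, hl⟩)
  · refine Finset.sup_le fun l' hl' => α.toOrderHom.monotone ?_
    rcases le_total l' l with h | h
    · exact h
    · have := χ.toOrderHom.monotone h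
      rw [hl, (Finset.mem_filter.1 hl').2] at this
      exact absurd this (by decide)

/-- The position in the top simplices. -/
def psi (α : m ⟶ ⦋k⦌) (χ : m ⟶ ⦋1⦌) : m ⟶ ⦋k + 1⦌ :=
  SimplexCategory.Hom.mk
    { toFun := fun l => (⟨(α.toOrderHom l : ℕ) + (χ.toOrderHom l : ℕ), by
        have h1 : (α.toOrderHom l : ℕ) < k + 1 := (α.toOrderHom l).2
        have h2 : (χ.toOrderHom l : ℕ) < 2 := (χ.toOrderHom l).2
        omega⟩ : Fin (k + 2))
      monotone' := fun a b h => by
        have h1 : (α.toOrderHom a : ℕ) ≤ (α.toOrderHom b : ℕ) := α.toOrderHom.monotone h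
        have h2 : (χ.toOrderHom a : ℕ) ≤ (χ.toOrderHom b : ℕ) := χ.toOrderHom.monotone h
        exact (show (α.toOrderHom a : ℕ) + (χ.toOrderHom a : ℕ) ≤
          (α.toOrderHom b : ℕ) + (χ.toOrderHom b : ℕ) by omega) }

theorem psi_val (α : m ⟶ ⦋k⦌) (χ : m ⟶ ⦋1⦌) (l) :
    ((psi α χ).toOrderHom l : ℕ) = (α.toOrderHom l : ℕ) + (χ.toOrderHom l : ℕ) :=
  rfl

theorem psi_σ {α : m ⟶ ⦋k⦌} {χ : m ⟶ ⦋1⦌} {j : Fin (k + 1)} (h : Adm α χ j) :
    psi α χ ≫ SimplexCategory.σ j = α := by
  ext l : 3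
  refine Fin.ext ?_
  show (j.predAbove ((psi α χ).toOrderHom l) : ℕ) = _
  rw [val_predAbove, psi_val]
  rcases Fin.exists_fin_two.1 ⟨χ.toOrderHom l, rfl⟩ with h0 | h1
  · rw [h0]
    have := (h l).1 h0
    rw [Fin.le_def] at this
    simp only [Fin.val_zero]
    split_ifs <;> omega
  · rw [h1]
    have := (h l).2 h1
    rw [Fin.le_def] at this
    simp only [Fin.val_one]
    split_ifs <;> omega

theorem psi_chi {α : m ⟶ ⦋k⦌} {χ : m ⟶ ⦋1⦌} {j : Fin (k + 1)} (h : Adm α χ j) :
    psi α χ ≫ chi j = χ := by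
  ext l : 3
  show (chi j).toOrderHom ((psi α χ).toOrderHom l) = _
  rw [chi_apply, psi_val]
  rcases Fin.exists_fin_two.1 ⟨χ.toOrderHom l, rfl⟩ with h0 | h1
  · rw [h0]
    have := (h l).1 h0
    rw [Fin.le_def] at this
    simp only [Fin.val_zero]
    rw [if_neg (by omega)]
  · rw [h1]
    have := (h l).2 h1
    rw [Fin.le_def] at this
    simp only [Fin.val_one]
    rw [if_pos (by omega)]

theorem adm_σ_chi (i : Fin (k + 1)) : Adm (SimplexCategory.σ i) (chi i) i := by
  intro l
  show ((chi i).toOrderHom l = 0 → i.predAbove l ≤ i) ∧ ((chi i).toOrderHom l = 1 → i ≤ i.predAbove l)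
  rw [chi_apply]
  constructor <;> intro h <;> rw [Fin.le_def, val_predAbove] <;> split_ifs at h ⊢ <;> simp_all <;> omega

theorem psi_σ_chi (i : Fin (k + 1)) : psi (SimplexCategory.σ i) (chi i) = 𝟙 _ := by
  ext l : 3
  refine Fin.ext ?_
  rw [psi_val]
  show (i.predAbove l : ℕ) + ((chi i).toOrderHom l : ℕ) = (l : ℕ)
  rw [chi_apply, val_predAbove]
  split_ifs <;> simp <;> omega

/-- The value of a prism at a chain. -/
noncomputable def EV (α : m ⟶ ⦋k⦌) (χ : m ⟶ ⦋1⦌) : obj L k ⟶ L.obj (op m) :=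
  pr L k (adm_exists α χ).choose ≫ L.map (psi α χ).op

theorem EV_eq {α : m ⟶ ⦋k⦌} {χ : m ⟶ ⦋1⦌} {j : Fin (k + 1)} (h : Adm α χ j) :
    EV L α χ = pr L k j ≫ L.map (psi α χ).op := by
  have step : ∀ i : Fin k, Adm α χ i.castSucc → Adm α χ i.succ →
      pr L k i.castSucc ≫ L.map (psi α χ).op = pr L k i.succ ≫ L.map (psi α χ).op := by
    intro i h1 h2
    obtain ⟨φ, hφ⟩ := SimplexCategory.eq_comp_δ_of_not_surjective' (psi α χ) i.castSucc.succ (fun l hl => by
      have hv := congrArg (fun z : Fin (k + 2) => (z : ℕ)) hl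
      simp only [Fin.val_succ, Fin.val_castSucc] at hv
      rw [psi_val] at hv
      rcases Fin.exists_fin_two.1 ⟨χ.toOrderHom l, rfl⟩ with h0 | h0
      · have := (h1 l).1 h0
        rw [Fin.le_def] at this
        rw [h0] at hv
        simp at hv this
        omega
      · have := (h2 l).2 h0
        rw [Fin.le_def] at this
        rw [h0] at hv
        simp at hv this
        omega)
    rw [hφ, op_comp, L.map_comp, ← Category.assoc, ← Category.assoc]
    congr 1
    exact pr_rel L k i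
  have key : ∀ (d : ℕ) (a b : Fin (k + 1)), (b : ℕ) = (a : ℕ) + d → Adm α χ a → Adm α χ b →
      pr L k a ≫ L.map (psi α χ).op = pr L k b ≫ L.map (psi α χ).op := by
    intro d
    induction d with
    | zero => intro a b hab _ _; obtain rfl : a = b := Fin.ext (by omega); rfl
    | succ d ih =>
      intro a b hab ha hb
      have hlt : (b : ℕ) - 1 < k := by
        have := b.2; omega
      let c : Fin k := ⟨(b : ℕ) - 1, hlt⟩
      have hc : c.succ = b := Fin.ext (by simp [c]; omega)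
      have hcb : Adm α χ c.castSucc := fun l => ⟨fun h0 => by
          have := (ha l).1 h0
          rw [Fin.le_def] at this ⊢
          simp [c] at *
          omega, fun h0 => by
          have := (hb l).2 h0
          rw [Fin.le_def] at this ⊢
          simp [c] at *
          omega⟩
      refine (ih a c.castSucc (by simp [c]; omega) ha hcb).trans ?_
      rw [← hc] at hb ⊢
      exact step c hcb hb
  have hs := (adm_exists α χ).choose_spec
  rw [EV]
  rcases le_total ((adm_exists α χ).choose : ℕ) (j : ℕ) with hle | hle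
  · exact key ((j : ℕ) - ((adm_exists α χ).choose : ℕ)) _ _ (by omega) hs h
  · exact (key (((adm_exists α χ).choose : ℕ) - (j : ℕ)) _ _ (by omega) h hs).symm

theorem EV_natural (α : m ⟶ ⦋k⦌) (χ : m ⟶ ⦋1⦌) {m' : SimplexCategory} (ρ : m' ⟶ m) :
    EV L α χ ≫ L.map ρ.op = EV L (ρ ≫ α) (ρ ≫ χ) := by
  obtain ⟨j, hj⟩ := adm_exists α χ
  have hj' : Adm (ρ ≫ α) (ρ ≫ χ) j := fun l => hj _
  rw [EV_eq L hj, EV_eq L hj', Category.assoc, ← L.map_comp]
  rfl

theorem EV_top (i : Fin (k + 1)) : EV L (SimplexCategory.σ i) (chi i) = pr L k i := by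
  rw [EV_eq L (adm_σ_chi i), psi_σ_chi]
  simp

/-- The action of a map of simplices. -/
noncomputable def act {k k' : ℕ} (θ : ⦋k'⦌ ⟶ ⦋k⦌) : obj L k ⟶ obj L k' :=
  glue L (fun i => EV L (SimplexCategory.σ i ≫ θ) (chi i)) (fun i => by
    show _ ≫ L.map _ = _ ≫ L.map _
    rw [EV_natural, EV_natural]
    congr 1
    · rw [← Category.assoc, ← Category.assoc]
      congr 1
      have h1 := SimplexCategory.δ_comp_σ_succ (i := i.castSucc)
      have h2 := SimplexCategory.δ_comp_σ_self' (i := i.succ) (j := i.castSucc.succ) (Fin.succ_castSucc i)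
      exact h1.trans h2.symm
    · ext l : 3
      show (chi i.castSucc).toOrderHom (i.castSucc.succ.succAbove l) = (chi i.succ).toOrderHom (i.castSucc.succ.succAbove l)
      rw [chi_apply, chi_apply]
      apply if_congr _ rfl rfl
      rw [val_succAbove]; simp only [Fin.val_castSucc, Fin.val_succ]; split_ifs <;> omega)

theorem act_EV {k k' : ℕ} (θ : ⦋k'⦌ ⟶ ⦋k⦌) (α : m ⟶ ⦋k'⦌) (χ : m ⟶ ⦋1⦌) :
    act L θ ≫ EV L α χ = EV L (α ≫ θ) χ := by
  obtain ⟨j, hj⟩ := adm_exists α χ
  rw [EV_eq L hj, ← Category.assoc, act, glue_pr, EV_natural, ← Category.assoc, psi_σ hj, psi_chi hj]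

/-- The path object. -/
noncomputable def P : SimplicialObject D where
  obj k := obj L k.unop.len
  map {k k'} θ := act L (k := k.unop.len) (k' := k'.unop.len) θ.unop
  map_id k := obj_ext L fun i => by
    rw [act, glue_pr, Category.id_comp]
    exact (congrArg (fun t => EV L t (chi i)) (Category.comp_id _)).trans (EV_top L i)
  map_comp {a b c} θ θ' := obj_ext L fun i => by
    refine (glue_pr L _ _ i).trans ?_
    rw [Category.assoc]
    show _ = act L θ.unop ≫ (act L θ'.unop ≫ pr L _ i)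
    rw [show act L θ'.unop ≫ pr L _ i = _ from glue_pr L _ _ i, act_EV, unop_comp, ← Category.assoc]

/-- A constant step. -/
abbrev cst (m : SimplexCategory) (b : Fin 2) : m ⟶ ⦋1⦌ := SimplexCategory.const m ⦋1⦌ b

/-- The two end points. -/
noncomputable def ends (b : Fin 2) : P L ⟶ L where
  app k := EV L (m := k.unop) (k := k.unop.len) (𝟙 k.unop) (cst k.unop b)
  naturality k k' θ := by
    show act L θ.unop ≫ EV L (𝟙 k'.unop) _ = EV L (𝟙 k.unop) _ ≫ L.map θ.unop.op
    rw [act_EV, EV_natural]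
    exact congrArg (fun t => EV L t (cst k'.unop b)) ((Category.id_comp θ.unop).trans (Category.comp_id θ.unop).symm)

/-- The tautological homotopy of the path object. -/
noncomputable def homotopy : SimplicialObject.Homotopy (ends L 0) (ends L 1) where
  h {k} i := pr L k i
  h_zero_comp_δ_zero k := by
    show pr L k 0 ≫ L.map (SimplexCategory.δ 0).op = EV L (𝟙 ⦋k⦌) (cst ⦋k⦌ 1)
    rw [← EV_top, EV_natural]
    congr 1
  h_last_comp_δ_last k := by
    show pr L k (Fin.last k) ≫ L.map (SimplexCategory.δ (Fin.last (k + 1))).op = EV L (𝟙 ⦋k⦌) (cst ⦋k⦌ 0)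
    rw [← EV_top, EV_natural]
    congr 1
    · exact SimplexCategory.δ_comp_σ_succ' (Fin.succ_last k).symm
    · ext l : 3
      show (chi (Fin.last k)).toOrderHom ((Fin.last (k + 1)).succAbove l) = 0
      have hl : (l : Fin (k + 1)).1 < k + 1 := l.2
      rw [chi_apply, if_neg (by simp; omega)]
  h_succ_comp_δ_castSucc_of_lt {k} i j hij := by
    show pr L (k + 1) j.succ ≫ L.map (SimplexCategory.δ i.castSucc).op = act L (SimplexCategory.δ i) ≫ pr L k j
    rw [← EV_top, ← EV_top, EV_natural, act_EV]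
    congr 1
    · exact SimplexCategory.δ_comp_σ_of_le hij
    · ext l : 3
      show (chi j.succ).toOrderHom (i.castSucc.succAbove l) = (chi j).toOrderHom l
      have : (i : ℕ) ≤ (j : ℕ) := hij
      rw [chi_apply, chi_apply]
      apply if_congr _ rfl rfl
      rw [val_succAbove]; simp only [Fin.val_castSucc, Fin.val_succ]; split_ifs <;> omega
  h_succ_comp_δ_castSucc_succ {k} j := (pr_rel L (k + 1) j).symm
  h_castSucc_comp_δ_succ_of_lt {k} i j hji := by
    show pr L (k + 1) j.castSucc ≫ L.map (SimplexCategory.δ i.succ).op = act L (SimplexCategory.δ i) ≫ pr L k j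
    rw [← EV_top, ← EV_top, EV_natural, act_EV]
    congr 1
    · exact SimplexCategory.δ_comp_σ_of_gt hji
    · ext l : 3
      show (chi j.castSucc).toOrderHom (i.succ.succAbove l) = (chi j).toOrderHom l
      have : (j : ℕ) < (i : ℕ) := hji
      rw [chi_apply, chi_apply]
      apply if_congr _ rfl rfl
      rw [val_succAbove]; simp only [Fin.val_castSucc, Fin.val_succ]; split_ifs <;> omega
  h_comp_σ_castSucc_of_le {k} i j hij := by
    show pr L k j ≫ L.map (SimplexCategory.σ i.castSucc).op = act L (SimplexCategory.σ i) ≫ pr L (k + 1) j.succ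
    rw [← EV_top, ← EV_top, EV_natural, act_EV]
    congr 1
    · exact SimplexCategory.σ_comp_σ hij
    · ext l : 3
      show (chi j).toOrderHom (i.castSucc.predAbove l) = (chi j.succ).toOrderHom l
      have : (i : ℕ) ≤ (j : ℕ) := hij
      rw [chi_apply, chi_apply]
      apply if_congr _ rfl rfl
      rw [val_predAbove]; simp only [Fin.val_castSucc, Fin.val_succ]; split_ifs <;> omega
  h_comp_σ_succ_of_lt {k} i j hji := by
    show pr L k j ≫ L.map (SimplexCategory.σ i.succ).op = act L (SimplexCategory.σ i) ≫ pr L (k + 1) j.castSucc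
    rw [← EV_top, ← EV_top, EV_natural, act_EV]
    congr 1
    · exact (SimplexCategory.σ_comp_σ hji).symm
    · ext l : 3
      show (chi j).toOrderHom (i.succ.predAbove l) = (chi j.castSucc).toOrderHom l
      have : (j : ℕ) ≤ (i : ℕ) := hji
      rw [chi_apply, chi_apply]
      apply if_congr _ rfl rfl
      rw [val_predAbove]; simp only [Fin.val_castSucc, Fin.val_succ]; split_ifs <;> omega

end Groth.Agent.Hyper50.Path
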