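import Groth.Agent.Hyper50.Path
import Groth.Agent.Hyper50.FamExt
import Groth.Agent.Hyper50.H0
import Groth.Agent.Hyper50.Bridge

/-! The end point map of the path object of a hypercovering fills locally. -/

set_option autoImplicit false
set_option linter.unusedSectionVars false
set_option linter.unusedVariables false

universe u

open CategoryTheory CategoryTheory.Limits Opposite Simplicial

namespace Groth.Agent.Hyper50.PathFib

open CoskHomotopy (chi)

variable {C : Type u} [SmallCategory C] [HasFiniteLimits (FormalCoproduct.{u} C)] {J : GrothendieckTopology C}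
  (L : SimplicialObject (FormalCoproduct.{u} C))

/-- Sections are morphisms. -/
def el {Y : FormalCoproduct.{u} C} {U : C} :
    ((FormalCoproduct.incl C).obj U ⟶ Y) ≃ (Pts.obj Y).obj (op U) :=
  FormalCoproduct.inclHomEquiv U Y

theorem el_map {Y Y' : FormalCoproduct.{u} C} {U : C} (a : (FormalCoproduct.incl C).obj U ⟶ Y) (f : Y ⟶ Y') :
    (Pts.map f).app (op U) (el a) = el (a ≫ f) := rfl

/-- A value of a map on a section. -/
abbrev ap {Y Y' : FormalCoproduct.{u} C} (f : Y ⟶ Y') {U : C} (y : (Pts.obj Y).obj (op U)) :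
    (Pts.obj Y').obj (op U) := (Pts.map f).app (op U) y

/-- Restriction of a section. -/
abbrev rs {Y : FormalCoproduct.{u} C} {U V : C} (g : V ⟶ U) (y : (Pts.obj Y).obj (op U)) :
    (Pts.obj Y).obj (op V) := (Pts.obj Y).map g.op y

theorem ap_comp {Y Y' Y'' : FormalCoproduct.{u} C} (f : Y ⟶ Y') (f' : Y' ⟶ Y'') {U : C}
    (y : (Pts.obj Y).obj (op U)) : ap (f ≫ f') y = ap f' (ap f y) :=
  ConcreteCategory.congr_hom (NatTrans.congr_app (Pts.map_comp f f') (op U)) y

theorem ap_rs {Y Y' : FormalCoproduct.{u} C} (f : Y ⟶ Y') {U V : C} (g : V ⟶ U)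
    (y : (Pts.obj Y).obj (op U)) : ap f (rs g y) = rs g (ap f y) :=
  NatTrans.naturality_apply (Pts.map f) g.op y

theorem ap_map_id {m : SimplexCategory} {U : C} (y : (Pts.obj (L.obj (op m))).obj (op U)) :
    ap (L.map (𝟙 m).op) y = y :=
  ConcreteCategory.congr_hom (NatTrans.congr_app
    ((congrArg Pts.map (L.map_id (op m))).trans (Pts.map_id _)) (op U)) y

theorem rs_rs {Y : FormalCoproduct.{u} C} {U V W : C} (h : W ⟶ V) (g : V ⟶ U)
    (y : (Pts.obj Y).obj (op U)) : rs h (rs g y) = rs (h ≫ g) y :=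
  (Functor.map_comp_apply (Pts.obj Y) g.op h.op y).symm

/-- Auxiliary simplicial set receiving all chains. -/
def chainSet (U : C) (m : SimplexCategory) : SSet.{u} where
  obj j := (m ⟶ j.unop) → (Pts.obj (L.obj (op m))).obj (op U)
  map θ := ↾fun F β => F (β ≫ θ.unop)
  map_id j := by ext F β; exact congrArg F (Category.comp_id β)
  map_comp θ θ' := by ext F β; exact congrArg F (Category.assoc β θ'.unop θ.unop).symm

/-- All chains of a prism with given step function. -/
noncomputable def toChainSet (U : C) (m : SimplexCategory) (χ : m ⟶ ⦋1⦌) :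
    ev (pts (Path.P L)) U ⟶ chainSet L U m where
  app j := ↾fun p β => ap (Path.EV L (k := j.unop.len) β χ) p
  naturality j j' θ := by
    ext p
    funext β
    show ap (Path.EV L (k := j'.unop.len) β χ) (ap (Path.act L θ.unop) p) = _
    rw [← ap_comp, Path.act_EV]
    rfl

section fill

variable {L} {n : ℕ} {U : C} (a : Fam (ev (pts (Path.P L)) U) n (n + 1))

/-- Values on the boundary. -/
noncomputable def v {m : SimplexCategory} (α : m ⟶ ⦋n + 1⦌) (χ : m ⟶ ⦋1⦌) (h : (image α).len ≤ n) :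
    (Pts.obj (L.obj (op m))).obj (op U) :=
  (a.map (toChainSet L U m χ)).ext₀ α h (𝟙 m)

theorem v_eq {m : SimplexCategory} {α : m ⟶ ⦋n + 1⦌} (χ : m ⟶ ⦋1⦌) (h : (image α).len ≤ n)
    (j : SimplexCategory.Truncated n) (f : j.obj ⟶ ⦋n + 1⦌) (β : m ⟶ j.obj) (fac : β ≫ f = α) :
    v a α χ h = ap (Path.EV L (k := j.obj.len) β χ) (a.val j f) := by
  have h1 := congrFun ((a.map (toChainSet L U m χ)).val_ext₀ j f β fac) (𝟙 m)
  refine h1.symm.trans ?_
  show ap (Path.EV L (k := j.obj.len) (𝟙 m ≫ β) χ) (a.val j f) = _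
  rw [Category.id_comp]

theorem v_natural {m m' : SimplexCategory} (ρ : m' ⟶ m) (α : m ⟶ ⦋n + 1⦌) (χ : m ⟶ ⦋1⦌)
    (h : (image α).len ≤ n) (h' : (image (ρ ≫ α)).len ≤ n) :
    ap (L.map ρ.op) (v a α χ h) = v a (ρ ≫ α) (ρ ≫ χ) h' := by
  rw [v_eq a χ h ⟨image α, h⟩ (image.ι α) (factorThruImage α) (image.fac α), ← ap_comp, Path.EV_natural,
    v_eq a (ρ ≫ χ) h' ⟨image α, h⟩ (image.ι α) (ρ ≫ factorThruImage α) (by rw [Category.assoc, image.fac])]

end fill

variable [HasBinaryProducts (SimplicialObject (FormalCoproduct.{u} C))]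

/-- Both end points. -/
noncomputable def endsMap : Path.P L ⟶ L ⨯ L := prod.lift (Path.ends L 0) (Path.ends L 1)

/-- The two projections. -/
noncomputable def proj : Fin 2 → ((L ⨯ L) ⟶ L)
  | 0 => prod.fst
  | 1 => prod.snd

theorem endsMap_proj (b : Fin 2) : endsMap L ≫ proj L b = Path.ends L b := by
  fin_cases b
  · exact prod.lift_fst _ _
  · exact prod.lift_snd _ _

theorem prod_point_ext [∀ (k : SimplexCategoryᵒᵖ), PreservesLimit (pair L L) ((evaluation SimplexCategoryᵒᵖ (FormalCoproduct.{u} C)).obj k)]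
    {k : SimplexCategoryᵒᵖ} {U : C} {z z' : (Pts.obj ((L ⨯ L).obj k)).obj (op U)}
    (h : ∀ b, ap ((proj L b).app k) z = ap ((proj L b).app k) z') : z = z' := by
  have hl := mapIsLimitOfPreservesOfIsLimit ((evaluation SimplexCategoryᵒᵖ (FormalCoproduct.{u} C)).obj k)
    (prod.fst : L ⨯ L ⟶ L) prod.snd (prodIsProd L L)
  obtain ⟨z, rfl⟩ := el.surjective z
  obtain ⟨z', rfl⟩ := el.surjective z'
  refine congrArg el (BinaryFan.IsLimit.hom_ext hl ?_ ?_)
  · exact el.injective (h 0)
  · exact el.injective (h 1)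

theorem isLocFib_endsMap (hL : IsHyp J (pts L)) :
    IsLocFib J (Functor.whiskerRight (endsMap L) Pts : pts (Path.P L) ⟶ pts (L ⨯ L)) := by
  classical
  have hend : ∀ {k : SimplexCategoryᵒᵖ} {U : C} (y : (Pts.obj ((Path.P L).obj k)).obj (op U)) (b : Fin 2),
      ap ((proj L b).app k) (ap ((endsMap L).app k) y) = ap ((Path.ends L b).app k) y := fun y b => by
    rw [← ap_comp, ← NatTrans.comp_app, endsMap_proj]
  constructor
  · constructor
    intro U s
    let q : Fin 2 → (ev (pts L) U).obj (op ⦋0⦌) := fun b => ap ((proj L b).app (op ⦋0⦌)) s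
    obtain ⟨R, hR, hfill⟩ := hL.fill 0 U (Fam.ofPair q)
    refine J.superset_covering (fun V g hg => ?_) hR
    obtain ⟨t, ht⟩ := hfill g hg
    obtain ⟨t', rfl⟩ := el.surjective t
    let y := el (Path.glue L (k := 0) (fun _ => t') (fun i => i.elim0))
    refine ⟨y, prod_point_ext L fun b => ?_⟩
    show ap ((proj L b).app (op ⦋0⦌)) (ap ((endsMap L).app (op ⦋0⦌)) y) =
      ap ((proj L b).app (op ⦋0⦌)) (rs g s)
    rw [hend, ap_rs]
    have hadm : Path.Adm (k := 0) (𝟙 ⦋0⦌) (Path.cst ⦋0⦌ b) (0 : Fin 1) := fun l =>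
      ⟨fun _ => le_of_eq (Subsingleton.elim (α := Fin 1) _ _), fun _ => le_of_eq (Subsingleton.elim (α := Fin 1) _ _)⟩
    show ap (Path.EV L (k := 0) (𝟙 ⦋0⦌) (Path.cst ⦋0⦌ b)) y = _
    rw [Path.EV_eq L hadm, ap_comp]
    refine Eq.trans (congrArg (ap (L.map (Path.psi (k := 0) (𝟙 ⦋0⦌) (Path.cst ⦋0⦌ b)).op))
      (show ap (Path.pr L 0 0) y = el t' from (el_map _ _).trans (congrArg el (Path.glue_pr L (fun _ => t') _ 0)))) ?_
    have h2 := congrArg (fun c : Fam _ 0 1 => c.val ⟨⦋0⦌, le_rfl⟩ (Path.psi (k := 0) (𝟙 ⦋0⦌) (Path.cst ⦋0⦌ b))) ht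
    refine h2.trans (congrArg (rs g) ((Fam.ofPair_val q _).trans (congrArg q (Fin.ext ?_))))
    exact (Path.psi_val (k := 0) (𝟙 ⦋0⦌) (Path.cst ⦋0⦌ b) 0).trans (Nat.zero_add _)
  · intro n U a x hx
    let X : Fin 2 → (Pts.obj (L.obj (op ⦋n + 1⦌))).obj (op U) := fun b => ap ((proj L b).app _) x
    -- agreement with the given end points
    have hXv : ∀ {m : SimplexCategory} (α : m ⟶ ⦋n + 1⦌) (h : (image α).len ≤ n) (b : Fin 2),
        v a α (Path.cst m b) h = ap (L.map α.op) (X b) := by
      intro m α h b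
      let j : SimplexCategory.Truncated n := ⟨image α, h⟩
      have e0 := congrArg (fun c : Fam _ n (n + 1) => ap ((proj L b).app (op j.obj)) (c.val j (image.ι α))) hx
      have e1 : ap (L.map (image.ι α).op) (X b) = ap ((Path.ends L b).app (op j.obj)) (a.val j (image.ι α)) := by
        refine Eq.trans ?_ (e0.trans (hend (k := op j.obj) (a.val j (image.ι α)) b))
        show ap (L.map (image.ι α).op) (ap ((proj L b).app _) x) =
          ap ((proj L b).app (op j.obj)) (ap ((L ⨯ L).map (image.ι α).op) x)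
        rw [← ap_comp, ← ap_comp, (proj L b).naturality]
      rw [v_eq a _ h j (image.ι α) (factorThruImage α) (image.fac α),
        ← congrArg (fun θ : m ⟶ ⦋n + 1⦌ => ap (L.map θ.op) (X b)) (image.fac α)]
      rw [op_comp, L.map_comp, ap_comp, e1, ← ap_comp]
      refine congrArg (fun e => ap e (a.val j (image.ι α))) ?_
      show _ = Path.EV L (m := j.obj) (k := j.obj.len) (𝟙 j.obj) (Path.cst j.obj b) ≫ _
      rw [Path.EV_natural]
      exact congrArg (fun t => Path.EV L (k := j.obj.len) t (Path.cst m b)) (Category.comp_id _).symm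
    -- fill the middle simplices
    let fam1 : ∀ χ : ⦋n + 1⦌ ⟶ ⦋1⦌, Fam (ev (pts L) U) n (n + 1) := fun χ =>
      { val := fun j f => v a f (f ≫ χ) (Fam.len_image_le j f)
        nat := fun i j g f => ((v_natural a g.hom f (f ≫ χ) (Fam.len_image_le j f)
          (Fam.len_image_le i (g.hom ≫ f))).trans (by simp [Category.assoc])).symm }
    choose R1 hR1 hfill1 using fun χ => hL.fill n U (fam1 χ)
    obtain ⟨R, hR, hle⟩ := iInf_mem_of_finite J R1 hR1
    have hstep : ∀ ⦃V : C⦄ (g : V ⟶ U), R g → ∃ R' ∈ J V, ∀ ⦃W : C⦄ (h : W ⟶ V), R' h →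
        ∃ y : (ev (pts (Path.P L)) W).obj (op ⦋n + 1⦌),
          Fam.ofSimplex y = a.map (res (pts (Path.P L)) (h ≫ g)) ∧
            ap ((endsMap L).app (op ⦋n + 1⦌)) y = rs (h ≫ g) x := by
      intro V g hg
      have hw : ∀ χ : ⦋n + 1⦌ ⟶ ⦋1⦌, ∃ w : (Pts.obj (L.obj (op ⦋n + 1⦌))).obj (op V),
          (∀ (j : SimplexCategory.Truncated n) (f : j.obj ⟶ ⦋n + 1⦌),
            ap (L.map f.op) w = rs g (v a f (f ≫ χ) (Fam.len_image_le j f))) ∧
          ∀ b, χ = Path.cst _ b → w = rs g (X b) := by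
        intro χ
        by_cases hc : ∃ b, χ = Path.cst _ b
        · obtain ⟨b, rfl⟩ := hc
          refine ⟨rs g (X b), fun j f => ?_, fun b' hb' => ?_⟩
          · rw [ap_rs, ← hXv f (Fam.len_image_le j f) b]
            rfl
          · obtain rfl : b = b' := congrArg (fun t : ⦋n + 1⦌ ⟶ ⦋1⦌ => t.toOrderHom 0) hb'
            rfl
        · obtain ⟨w, hw⟩ := hfill1 χ g (hle χ g hg)
          exact ⟨w, fun j f => congrArg (fun c : Fam _ n (n + 1) => c.val j f) hw,
            fun b hb => (hc ⟨b, hb⟩).elim⟩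
      choose w hw1 hw2 using hw
      let Vv : ∀ {m : SimplexCategory} (α : m ⟶ ⦋n + 1⦌) (χ : m ⟶ ⦋1⦌), (Pts.obj (L.obj (op m))).obj (op V) :=
        fun {m} α χ => if h : (image α).len ≤ n then rs g (v a α χ h)
          else if h' : ∃ χ', α ≫ χ' = χ then ap (L.map α.op) (w h'.choose)
          else ap (L.map α.op) (w (Path.cst _ 0))
      have hsmall : ∀ {m : SimplexCategory} (α : m ⟶ ⦋n + 1⦌) (χ : m ⟶ ⦋1⦌) (h : (image α).len ≤ n),
          Vv α χ = rs g (v a α χ h) := fun α χ h => dif_pos h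
      have hid : ∀ χ : ⦋n + 1⦌ ⟶ ⦋1⦌, Vv (𝟙 _) χ = w χ := by
        intro χ
        have h : ¬ (image (𝟙 ⦋n + 1⦌)).len ≤ n := by
          rw [SimplexCategory.image_eq (Category.comp_id (𝟙 ⦋n + 1⦌))]
          simp
        have hex : ∃ χ', 𝟙 ⦋n + 1⦌ ≫ χ' = χ := ⟨χ, Category.id_comp χ⟩
        refine ((dif_neg h).trans (dif_pos hex)).trans ?_
        rw [show hex.choose = χ from (Category.id_comp _).symm.trans hex.choose_spec]
        exact ap_map_id L _
      have htop : ∀ {m : SimplexCategory} (α : m ⟶ ⦋n + 1⦌), m.len ≤ n + 1 → ¬ (image α).len ≤ n →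
          ∃ e : m = ⦋n + 1⦌, α = eqToHom e := by
        intro m α hm hα
        have h1 := SimplexCategory.len_le_of_epi (factorThruImage α)
        have h2 := SimplexCategory.len_le_of_mono (image.ι α)
        have e : m = ⦋n + 1⦌ := SimplexCategory.ext (show m.len = n + 1 by
          have : (⦋n + 1⦌ : SimplexCategory).len = n + 1 := rfl
          omega)
        subst e
        refine ⟨rfl, ?_⟩
        have : IsIso (factorThruImage α) := (SimplexCategory.isIso_iff_of_epi _).2 (by
          have : (⦋n + 1⦌ : SimplexCategory).len = n + 1 := rfl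
          omega)
        have : Mono α := by rw [← image.fac α]; infer_instance
        exact SimplexCategory.eq_id_of_mono α
      have hVnat : ∀ {m m' : SimplexCategory} (ρ : m' ⟶ m) (α : m ⟶ ⦋n + 1⦌) (χ : m ⟶ ⦋1⦌),
          m.len ≤ n + 1 → m'.len ≤ n + 1 → ap (L.map ρ.op) (Vv α χ) = Vv (ρ ≫ α) (ρ ≫ χ) := by
        intro m m' ρ α χ hm hm'
        by_cases hα : (image α).len ≤ n
        · have hρα : (image (ρ ≫ α)).len ≤ n :=
            Fam.image_len_le ⟨image α, hα⟩ (image.ι α) (ρ ≫ factorThruImage α) (by rw [Category.assoc, image.fac])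
          rw [hsmall α χ hα, hsmall _ _ hρα, ap_rs, v_natural a ρ α χ hα hρα]
        · obtain ⟨rfl, rfl⟩ := htop α hm hα
          rw [eqToHom_refl, Category.comp_id, hid]
          by_cases hρ : (image ρ).len ≤ n
          · rw [hsmall _ _ hρ]
            have e1 := congrArg (ap (L.map (factorThruImage ρ).op)) (hw1 χ ⟨image ρ, hρ⟩ (image.ι ρ))
            rw [← ap_comp, ← L.map_comp, ← op_comp, image.fac, ap_rs] at e1
            refine e1.trans (congrArg (rs g) ?_)
            have hρ' : (image (factorThruImage ρ ≫ image.ι ρ)).len ≤ n := by rw [image.fac]; exact hρ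
            rw [v_natural a (factorThruImage ρ) (image.ι ρ) (image.ι ρ ≫ χ) _ hρ']
            congr 1
            · exact image.fac ρ
            · rw [← Category.assoc, image.fac]
          · obtain ⟨rfl, rfl⟩ := htop ρ hm' hρ
            rw [eqToHom_refl, Category.id_comp, hid]
            exact ap_map_id L _
      let fam2 : Fin (n + 2) → Fam (ev (pts L) V) (n + 1) (n + 2) := fun i =>
        { val := fun j f => Vv (f ≫ SimplexCategory.σ i) (f ≫ chi i)
          nat := fun i' j g' f => ((hVnat g'.hom (f ≫ SimplexCategory.σ i) (f ≫ chi i) j.property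
            i'.property).trans (by simp only [Category.assoc])).symm }
      choose R2 hR2 hfill2 using fun i => hL.fill (n + 1) V (fam2 i)
      obtain ⟨R', hR', hle'⟩ := iInf_mem_of_finite J R2 hR2
      refine ⟨R', hR', fun W h hh => ?_⟩
      choose t ht using fun i => hfill2 i h (hle' i h hh)
      choose t' ht' using fun i => el.surjective (t i)
      have ht2 : ∀ (i : Fin (n + 2)) (j : SimplexCategory.Truncated (n + 1)) (f : j.obj ⟶ ⦋n + 2⦌),
          ap (L.map f.op) (t i) = rs h (Vv (f ≫ SimplexCategory.σ i) (f ≫ chi i)) := fun i j f =>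
        congrArg (fun c : Fam _ (n + 1) (n + 2) => c.val j f) (ht i)
      have hcompat : ∀ i : Fin (n + 1), t' i.castSucc ≫ L.δ i.castSucc.succ = t' i.succ ≫ L.δ i.castSucc.succ := by
        intro i
        apply el.injective
        rw [← el_map, ← el_map, ht', ht']
        refine (ht2 i.castSucc ⟨⦋n + 1⦌, le_rfl⟩ (SimplexCategory.δ i.castSucc.succ)).trans
          (Eq.trans ?_ (ht2 i.succ ⟨⦋n + 1⦌, le_rfl⟩ (SimplexCategory.δ i.castSucc.succ)).symm)
        congr 2
        · exact (SimplexCategory.δ_comp_σ_succ (i := i.castSucc)).trans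
            (SimplexCategory.δ_comp_σ_self' (i := i.succ) (j := i.castSucc.succ) (Fin.succ_castSucc i)).symm
        · ext l : 3
          show (chi i.castSucc).toOrderHom (i.castSucc.succ.succAbove l) = (chi i.succ).toOrderHom (i.castSucc.succ.succAbove l)
          rw [CoskHomotopy.chi_apply, CoskHomotopy.chi_apply]
          apply if_congr _ rfl rfl
          rw [CoskHomotopy.val_succAbove]; simp only [Fin.val_castSucc, Fin.val_succ]; split_ifs <;> omega
      let y : (Pts.obj ((Path.P L).obj (op ⦋n + 1⦌))).obj (op W) := el (Path.glue L (k := n + 1) t' hcompat)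
      have hpr : ∀ i, ap (Path.pr L (n + 1) i) y = t i := fun i =>
        (el_map _ _).trans ((congrArg el (Path.glue_pr L t' hcompat i)).trans (ht' i))
      have hEV : ∀ {m : SimplexCategory} (α : m ⟶ ⦋n + 1⦌) (χ : m ⟶ ⦋1⦌), m.len ≤ n + 1 →
          ap (Path.EV L (k := n + 1) α χ) y = rs h (Vv α χ) := by
        intro m α χ hm
        obtain ⟨j, hj⟩ := Path.adm_exists α χ
        rw [Path.EV_eq L hj, ap_comp, hpr]
        refine (ht2 j ⟨m, hm⟩ (Path.psi α χ)).trans ?_
        simp only [Path.psi_σ hj, Path.psi_chi hj]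
      refine ⟨y, Fam.ext' fun j f => ?_, prod_point_ext L fun b => ?_⟩
      · show ap (Path.act L (k := n + 1) (k' := j.obj.len) f) y = rs (h ≫ g) (a.val j f)
        obtain ⟨A, hA⟩ := el.surjective (ap (Path.act L (k := n + 1) (k' := j.obj.len) f) y)
        obtain ⟨B, hB⟩ := el.surjective (rs (h ≫ g) (a.val j f))
        rw [← hA, ← hB]
        refine congrArg el (Path.obj_ext L fun i => el.injective ?_)
        refine (el_map A _).symm.trans (Eq.trans ?_ (el_map B _))
        refine (congrArg (ap (Path.pr L j.obj.len i)) hA).trans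
          (Eq.trans ?_ (congrArg (ap (Path.pr L j.obj.len i)) hB).symm)
        show ap (Path.pr L j.obj.len i) (ap (Path.act L (k := n + 1) (k' := j.obj.len) f) y) =
          ap (Path.pr L j.obj.len i) (rs (h ≫ g) (a.val j f))
        have hlen : (⦋j.obj.len + 1⦌ : SimplexCategory).len ≤ n + 1 := Nat.succ_le_succ j.property
        have hs : (image (SimplexCategory.σ i ≫ f)).len ≤ n := Fam.image_len_le j f (SimplexCategory.σ i) rfl
        rw [← ap_comp, ← Path.EV_top L i, Path.act_EV, hEV _ _ hlen, hsmall _ _ hs, rs_rs, ap_rs,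
          v_eq a (chi i) hs j f (SimplexCategory.σ i) rfl]
      · rw [hend, ap_rs]
        show ap (Path.EV L (k := n + 1) (𝟙 ⦋n + 1⦌) (Path.cst ⦋n + 1⦌ b)) y = _
        rw [hEV _ _ (le_refl (n + 1)), hid, hw2 _ b rfl, rs_rs]
    choose R' hR' hy using hstep
    refine ⟨Sieve.bind R fun V g hg => R' g hg, J.bind_covering hR fun V g hg => hR' g hg, ?_⟩
    rintro W _ ⟨V, h, g, hg, hh, rfl⟩
    exact hy g hg h hh

end Groth.Agent.Hyper50.PathFib
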