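import Mathlib.Algebra.Homology.QuasiIso
import Mathlib.Algebra.Category.Grp.Abelian
import Mathlib.Algebra.Category.Grp.Colimits
import Mathlib.Algebra.Category.Grp.Limits
import Mathlib.CategoryTheory.Abelian.FunctorCategory
import Mathlib.CategoryTheory.Limits.FunctorCategory.Finite
import Mathlib.CategoryTheory.Preadditive.AdditiveFunctor
import Mathlib.Algebra.Homology.ShortComplex.ExactFunctor

/-! Quasi-isomorphisms of complexes of presheaves are detected pointwise. -/

set_option autoImplicit false

universe u

open CategoryTheory CategoryTheory.Limits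

namespace Groth.Agent.Hyper50

variable {D : Type u} [Category.{u} D] {ι : Type*} {c : ComplexShape ι}

theorem quasiIso_of_evaluation {K L : HomologicalComplex (D ⥤ AddCommGrpCat.{u}) c} (φ : K ⟶ L)
    (h : ∀ d : D, QuasiIso ((((evaluation D AddCommGrpCat.{u}).obj d).mapHomologicalComplex c).map φ)) :
    QuasiIso φ := by
  rw [quasiIso_iff]
  intro i
  rw [quasiIsoAt_iff_isIso_homologyMap]
  have : ∀ d : D, IsIso ((HomologicalComplex.homologyMap φ i).app d) := by
    intro d
    let F := (evaluation D AddCommGrpCat.{u}).obj d
    have e := ShortComplex.mapHomologyIso_hom_naturality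
      ((HomologicalComplex.shortComplexFunctor (D ⥤ AddCommGrpCat.{u}) c i).map φ) F
    have h' : IsIso (HomologicalComplex.homologyMap ((F.mapHomologicalComplex c).map φ) i) :=
      (quasiIsoAt_iff_isIso_homologyMap _ _).1 ((quasiIso_iff _).1 (h d) i)
    exact IsIso.of_isIso_fac_left (hh := @IsIso.comp_isIso _ _ _ _ _ _ _ h' inferInstance) e.symm
  exact NatIso.isIso_of_isIso_app _

end Groth.Agent.Hyper50
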