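import Groth.Agent.Hyper50.Pullback
import Groth.Agent.Hyper50.FamExt
import Mathlib.CategoryTheory.Limits.Types.Products
import Mathlib.Data.Fintype.Prod

/-! Refining a simplicial object along a covering of one of its levels. -/

set_option autoImplicit false
set_option linter.unusedSectionVars false

universe u

open CategoryTheory CategoryTheory.Limits Opposite Simplicial

namespace Groth.Agent.Hyper50

section coEv

variable {D : Type*} [Category D] [HasFiniteProducts D] (n : ℕ)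

/-- The right adjoint of evaluation in degree `n`. -/
noncomputable def coEv (Z : D) : SimplicialObject D where
  obj k := ∏ᶜ fun _ : ⦋n⦌ ⟶ k.unop => Z
  map θ := Pi.lift fun α => Pi.π _ (α ≫ θ.unop)
  map_id k := Pi.hom_ext _ _ fun α => by simp
  map_comp θ θ' := Pi.hom_ext _ _ fun α => by simp

noncomputable abbrev coEvπ (Z : D) {k : SimplexCategory} (α : ⦋n⦌ ⟶ k) :
    (coEv n Z).obj (op k) ⟶ Z :=
  Pi.π (fun _ : ⦋n⦌ ⟶ k => Z) α

noncomputable def coEvMap {Z Z' : D} (f : Z ⟶ Z') : coEv n Z ⟶ coEv n Z' where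
  app k := Limits.Pi.map fun _ => f
  naturality k k' θ := Pi.hom_ext _ _ fun α => by simp [coEv]

noncomputable def coEvUnit (K : SimplicialObject D) : K ⟶ coEv n (K.obj (op ⦋n⦌)) where
  app k := Pi.lift fun α => K.map α.op
  naturality k k' θ := Pi.hom_ext _ _ fun α => by
    simp only [coEv, Category.assoc, Pi.lift_π]
    rw [← K.map_comp]
    rfl

theorem coEv_map_π (Z : D) {k k' : SimplexCategory} (θ : k' ⟶ k) (α : ⦋n⦌ ⟶ k') :
    (coEv n Z).map θ.op ≫ coEvπ n Z α = coEvπ n Z (α ≫ θ) := by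
  simp [coEv, coEvπ]

theorem coEvMap_π {Z Z' : D} (f : Z ⟶ Z') {k : SimplexCategory} (α : ⦋n⦌ ⟶ k) :
    (coEvMap n f).app (op k) ≫ coEvπ n Z' α = coEvπ n Z α ≫ f := by
  exact Limits.Pi.map_π (fun _ : ⦋n⦌ ⟶ k => f) α

theorem coEvUnit_π (K : SimplicialObject D) {k : SimplexCategory} (α : ⦋n⦌ ⟶ k) :
    (coEvUnit n K).app (op k) ≫ coEvπ n (K.obj (op ⦋n⦌)) α = K.map α.op :=
  Pi.lift_π (fun β : ⦋n⦌ ⟶ k => K.map β.op) α

end coEv

variable {C : Type u} [SmallCategory C] (J : GrothendieckTopology C) [HasPullbacks C] [HasTerminal C]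

/-- The sections of a finite product. -/
theorem pts_pi_bijective {Z : FormalCoproduct.{u} C} {k : SimplexCategory} (n : ℕ) (U : C) :
    Function.Bijective fun (z : (Pts.obj ((coEv n Z).obj (op k))).obj (op U)) (α : ⦋n⦌ ⟶ k) =>
      (Pts.map (coEvπ n Z α)).app (op U) z := by
  let G : FormalCoproduct.{u} C ⥤ Type u := Pts ⋙ (evaluation Cᵒᵖ (Type u)).obj (op U)
  have : PreservesLimitsOfSize.{0, 0} G := preservesLimitsOfSize_shrink.{0, u, 0, u} G
  have h := isLimitFanMkObjOfIsLimit G (fun _ : ⦋n⦌ ⟶ k => Z)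
    (fun α => coEvπ n Z α) (productIsProduct _)
  obtain h := (Types.isLimit_iff _).1 ⟨h⟩
  refine ⟨fun a b hab => ?_, fun y => ?_⟩
  · obtain ⟨c, -, hu⟩ := h (fun α => (Pts.map (coEvπ n Z α.as)).app (op U) b) (by
      intro α β f
      obtain rfl : α = β := Discrete.ext (Discrete.eq_of_hom f)
      obtain rfl : f = 𝟙 α := Subsingleton.elim _ _
      simp)
    exact (hu a fun α => congrFun hab α.as).trans (hu b fun α => rfl).symm
  · obtain ⟨c, hc, -⟩ := h (fun α => y α.as) (by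
      intro α β f
      obtain rfl : α = β := Discrete.ext (Discrete.eq_of_hom f)
      obtain rfl : f = 𝟙 α := Subsingleton.elim _ _
      simp)
    exact ⟨c, funext fun α => hc ⟨α⟩⟩

theorem pts_coEv_natural {Z : FormalCoproduct.{u} C} {k : SimplexCategory} (n : ℕ) {U V : C}
    (g : V ⟶ U) (z : (Pts.obj ((coEv n Z).obj (op k))).obj (op U)) (α : ⦋n⦌ ⟶ k) :
    (Pts.map (coEvπ n Z α)).app (op V) ((Pts.obj ((coEv n Z).obj (op k))).map g.op z) =
      (Pts.obj Z).map g.op ((Pts.map (coEvπ n Z α)).app (op U) z) :=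
  NatTrans.naturality_apply (Pts.map (coEvπ n Z α)) g.op z

theorem isLocFib_coEv (n : ℕ) {Z W : FormalCoproduct.{u} C} (u : Z ⟶ W)
    (hu : Hyper.IsSRCovering J u) :
    IsLocFib J (Functor.whiskerRight (coEvMap n u) Pts : pts (coEv n Z) ⟶ pts (coEv n W)) := by
  have hu' := (isSRCovering_iff J u).1 hu
  have hev : ∀ {k : SimplexCategory} (V : C) (z : (Pts.obj ((coEv n Z).obj (op k))).obj (op V))
      (α : ⦋n⦌ ⟶ k), (Pts.map (coEvπ n W α)).app (op V)
        ((Pts.map ((coEvMap n u).app (op k))).app (op V) z) =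
        (Pts.map u).app (op V) ((Pts.map (coEvπ n Z α)).app (op V) z) := fun V z α => by
    rw [← ConcreteCategory.comp_apply, ← ConcreteCategory.comp_apply, ← NatTrans.comp_app,
      ← NatTrans.comp_app, ← Functor.map_comp, ← Functor.map_comp, coEvMap_π]
  constructor
  · constructor
    intro U s
    obtain ⟨R, hR, hle⟩ := iInf_mem_of_finite J
      (fun α : ⦋n⦌ ⟶ ⦋0⦌ => Presheaf.imageSieve (Pts.map u) ((Pts.map (coEvπ n W α)).app (op U) s))
      (fun α => Presheaf.imageSieve_mem J _ _)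
    refine J.superset_covering (fun V g hg => ?_) hR
    choose t ht using fun α => hle α g hg
    obtain ⟨z, hz⟩ := (pts_pi_bijective n V).2 t
    refine ⟨z, (pts_pi_bijective n V).1 (funext fun α => ?_)⟩
    show (Pts.map (coEvπ n W α)).app (op V) ((Pts.map ((coEvMap n u).app (op ⦋0⦌))).app (op V) z) =
      (Pts.map (coEvπ n W α)).app (op V) ((Pts.obj ((coEv n W).obj (op ⦋0⦌))).map g.op s)
    rw [hev, show (Pts.map (coEvπ n Z α)).app (op V) z = t α from congrFun hz α, ht, pts_coEv_natural]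
  · intro m U a x hx
    let P : (⦋n⦌ ⟶ ⦋m + 1⦌) → Prop := fun α =>
      ∃ (j : SimplexCategory.Truncated m) (β : ⦋n⦌ ⟶ j.obj) (f : j.obj ⟶ ⦋m + 1⦌), β ≫ f = α
    let v : ∀ (j : SimplexCategory.Truncated m) (f : j.obj ⟶ ⦋m + 1⦌) (β : ⦋n⦌ ⟶ j.obj),
        (Pts.obj Z).obj (op U) := fun j f β => (Pts.map (coEvπ n Z β)).app (op U) (a.val j f)
    have hπ : ∀ {k : SimplexCategory} (γ : ⦋n⦌ ⟶ k) (V : C)
        (z : (Pts.obj ((coEv n Z).obj (op k))).obj (op V)),
        (Pts.map (coEvπ n Z (𝟙 ⦋n⦌))).app (op V) ((Pts.map ((coEv n Z).map γ.op)).app (op V) z) =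
          (Pts.map (coEvπ n Z γ)).app (op V) z := fun γ V z => by
      rw [← ConcreteCategory.comp_apply, ← NatTrans.comp_app, ← Functor.map_comp, coEv_map_π,
        Category.id_comp]
    have hv : ∀ (j j' : SimplexCategory.Truncated m) (f : j.obj ⟶ ⦋m + 1⦌) (f' : j'.obj ⟶ ⦋m + 1⦌)
        (β : ⦋n⦌ ⟶ j.obj) (β' : ⦋n⦌ ⟶ j'.obj), β ≫ f = β' ≫ f' → v j f β = v j' f' β' := by
      intro j j' f f' β β' h
      refine (hπ β U _).symm.trans (Eq.trans ?_ (hπ β' U _))
      exact congrArg _ (a.val_congr f f' β β' h)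
    have huv : ∀ (j : SimplexCategory.Truncated m) (f : j.obj ⟶ ⦋m + 1⦌) (β : ⦋n⦌ ⟶ j.obj),
        (Pts.map u).app (op U) (v j f β) = (Pts.map (coEvπ n W (β ≫ f))).app (op U) x := fun j f β => by
      have h := congrArg (fun c : Fam _ m (m + 1) => (Pts.map (coEvπ n W β)).app (op U) (c.val j f)) hx
      refine ((hev U (a.val j f) β).symm.trans h.symm).trans ?_
      show (Pts.map (coEvπ n W β)).app (op U) ((Pts.map ((coEv n W).map f.op)).app (op U) x) = _
      rw [← ConcreteCategory.comp_apply, ← NatTrans.comp_app, ← Functor.map_comp, coEv_map_π]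
    obtain ⟨R, hR, hle⟩ := iInf_mem_of_finite J
      (fun α : ⦋n⦌ ⟶ ⦋m + 1⦌ =>
        Presheaf.imageSieve (Pts.map u) ((Pts.map (coEvπ n W α)).app (op U) x))
      (fun α => Presheaf.imageSieve_mem J _ _)
    refine ⟨R, hR, fun V g hg => ?_⟩
    have ht : ∀ α, ∃ t : (Pts.obj Z).obj (op V),
        (Pts.map u).app (op V) t = (Pts.obj W).map g.op ((Pts.map (coEvπ n W α)).app (op U) x) ∧
        ∀ (j : SimplexCategory.Truncated m) (β : ⦋n⦌ ⟶ j.obj) (f : j.obj ⟶ ⦋m + 1⦌),
          β ≫ f = α → t = (Pts.obj Z).map g.op (v j f β) := by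
      intro α
      by_cases h : P α
      · obtain ⟨j, β, f, hf⟩ := h
        refine ⟨(Pts.obj Z).map g.op (v j f β), ?_, fun j' β' f' hf' => ?_⟩
        · rw [NatTrans.naturality_apply, huv, hf]
        · rw [hv j j' f f' β β' (hf.trans hf'.symm)]
      · exact ⟨_, (hle α g hg).choose_spec, fun j β f hf => (h ⟨j, β, f, hf⟩).elim⟩
    choose t ht1 ht2 using ht
    obtain ⟨y, hy⟩ := (pts_pi_bijective n V).2 t
    refine ⟨y, Fam.ext' fun j f => (pts_pi_bijective n V).1 (funext fun β => ?_),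
      (pts_pi_bijective n V).1 (funext fun α => ?_)⟩
    · show (Pts.map (coEvπ n Z β)).app (op V) ((Pts.map ((coEv n Z).map f.op)).app (op V) y) =
        (Pts.map (coEvπ n Z β)).app (op V) ((Pts.obj ((coEv n Z).obj (op j.obj))).map g.op (a.val j f))
      rw [← ConcreteCategory.comp_apply, ← NatTrans.comp_app, ← Functor.map_comp, coEv_map_π,
        pts_coEv_natural]
      exact (congrFun hy (β ≫ f)).trans (ht2 _ j β f rfl)
    · show (Pts.map (coEvπ n W α)).app (op V) ((Pts.map ((coEvMap n u).app (op ⦋m + 1⦌))).app (op V) y) =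
        (Pts.map (coEvπ n W α)).app (op V) ((Pts.obj ((coEv n W).obj (op ⦋m + 1⦌))).map g.op x)
      rw [hev, show (Pts.map (coEvπ n Z α)).app (op V) y = t α from congrFun hy α, ht1, pts_coEv_natural]

/-- A covering of one level is dominated by a refinement. -/
theorem exists_refinement (n : ℕ) (K : SimplicialObject (FormalCoproduct.{u} C)) (hK : IsHyp J (pts K))
    (Z : FormalCoproduct.{u} C) (u : Z ⟶ K.obj (op ⦋n⦌)) (hu : Hyper.IsSRCovering J u) :
    ∃ (L : SimplicialObject (FormalCoproduct.{u} C)) (f : L ⟶ K) (g : L.obj (op ⦋n⦌) ⟶ Z),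
      IsHyp J (pts L) ∧ g ≫ u = f.app (op ⦋n⦌) := by
  have h := IsPullback.of_hasPullback (coEvUnit n K) (coEvMap n u)
  refine ⟨pullback (coEvUnit n K) (coEvMap n u), pullback.fst _ _,
    (pullback.snd (coEvUnit n K) (coEvMap n u)).app (op ⦋n⦌) ≫ coEvπ n Z (𝟙 ⦋n⦌),
    IsHyp.of_locFib (IsLocFib.of_isPullback (h.map ((Functor.whiskeringRight SimplexCategoryᵒᵖ (FormalCoproduct.{u} C)
      (Cᵒᵖ ⥤ Type u)).obj Pts)) (isLocFib_coEv J n u hu)) hK, ?_⟩
  rw [Category.assoc, ← coEvMap_π, ← Category.assoc, ← NatTrans.comp_app, ← pullback.condition,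
    NatTrans.comp_app, Category.assoc, coEvUnit_π]
  simp

end Groth.Agent.Hyper50
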