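import Groth.Agent.Hyper50.Bridge
import Groth.Agent.Hyper50.LocSurj
import Groth.Agent.Hyper50.QuasiEval
import Groth.Agent.SSet45.Coskeletal
import Mathlib.AlgebraicTopology.SimplicialObject.ChainHomotopy
import Mathlib.AlgebraicTopology.AlternatingFaceMapComplex
import Mathlib.Algebra.Category.Grp.Adjunctions
import Mathlib.CategoryTheory.Sites.LocallyBijective
import Mathlib.CategoryTheory.Sites.Adjunction
import Mathlib.CategoryTheory.Sites.Abelian
import Mathlib.Algebra.Category.Grp.FilteredColimits
import Mathlib.CategoryTheory.Limits.FunctorCategory.Basic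

/-! Free sheaf homology is invariant under trivial fibrations of coskeletal objects. -/

set_option autoImplicit false
set_option linter.unusedSectionVars false

universe u

open CategoryTheory CategoryTheory.Limits Opposite Simplicial AlgebraicTopology

namespace Groth.Agent.Hyper50

variable {C : Type u} [SmallCategory C]

theorem ev_coskeletal (n : ℕ) (S : SimplicialObject (Cᵒᵖ ⥤ Type u))
    [SimplicialObject.IsCoskeletal S n] (U : C) : SimplicialObject.IsCoskeletal (ev S U) n := by
  have := preservesLimitsOfSize_shrink.{0, u, 0, u} ((evaluation Cᵒᵖ (Type u)).obj (op U))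
  exact isCoskeletal_comp n ((evaluation Cᵒᵖ (Type u)).obj (op U)) S

namespace TrivFib

variable {L K : SimplicialObject (Cᵒᵖ ⥤ Type u)} (f : L ⟶ K) (n : ℕ)

/-- A simplex all whose `n`-dimensional faces lift on the nose. -/
def good (k : SimplexCategoryᵒᵖ) (U : Cᵒᵖ) : Set ((K.obj k).obj U) :=
  {x | ∀ α : ⦋n⦌ ⟶ k.unop, ∃ l : (L.obj (op ⦋n⦌)).obj U,
    (f.app (op ⦋n⦌)).app U l = (K.map α.op).app U x}

/-- The simplicial subpresheaf of good simplices. -/
def sub : SimplicialObject (Cᵒᵖ ⥤ Type u) where
  obj k :=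
    { obj := fun U => good f n k U
      map := fun {U V} g => ↾fun x => ⟨(K.obj k).map g x.1, fun α => by
        obtain ⟨l, hl⟩ := x.2 α
        exact ⟨(L.obj _).map g l, by rw [NatTrans.naturality_apply, hl, NatTrans.naturality_apply]⟩⟩
      map_id := fun U => by ext x; exact ConcreteCategory.congr_hom ((K.obj k).map_id U) x.1
      map_comp := fun g h => by ext x; exact ConcreteCategory.congr_hom ((K.obj k).map_comp g h) x.1 }
  map θ :=
    { app := fun U => ↾fun x => ⟨(K.map θ).app U x.1, fun α => by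
        obtain ⟨l, hl⟩ := x.2 (α ≫ θ.unop)
        refine ⟨l, hl.trans ?_⟩
        rw [← ConcreteCategory.comp_apply, ← NatTrans.comp_app, ← K.map_comp]
        rfl⟩
      naturality := fun U V g => by
        ext x
        exact NatTrans.naturality_apply (K.map θ) g x.1 }
  map_id k := by
    ext U x
    exact ConcreteCategory.congr_hom (congr_app (K.map_id k) U) x.1
  map_comp θ θ' := by
    ext U x
    exact ConcreteCategory.congr_hom (congr_app (K.map_comp θ θ') U) x.1

/-- The inclusion. -/
def incl : sub f n ⟶ K where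
  app k := { app := fun U => ↾fun x => x.1 }

/-- The factorisation. -/
def toSub : L ⟶ sub f n where
  app k :=
    { app := fun U => ↾fun x => ⟨(f.app k).app U x, fun α => ⟨(L.map α.op).app U x, by
        rw [← ConcreteCategory.comp_apply, ← NatTrans.comp_app, f.naturality α.op, NatTrans.comp_app,
          ConcreteCategory.comp_apply]⟩⟩
      naturality := fun U V g => by
        ext x
        apply Subtype.ext
        exact NatTrans.naturality_apply (f.app k) g x }
  naturality k k' θ := by
    ext U x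
    apply Subtype.ext
    exact ConcreteCategory.congr_hom (congr_app (f.naturality θ) U) x

theorem toSub_incl : toSub f n ≫ incl f n = f := rfl

theorem sub_coskeletal [SimplicialObject.IsCoskeletal K n] (U : C) :
    SimplicialObject.IsCoskeletal (ev (sub f n) U) n := by
  have := ev_coskeletal n K U
  refine SSet45.isCoskeletal_of_existsUnique _ _ fun k a ha => ?_
  obtain ⟨x, hx, hu⟩ := SSet45.cosk_existsUnique (ev K U) n (fun j g => (a j g).1)
    (fun i j g h => congrArg Subtype.val (ha i j g h))
  refine ⟨⟨x, fun α => ?_⟩, fun j g => Subtype.ext (hx j g),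
    fun y hy => Subtype.ext (hu y.1 fun j g => congrArg Subtype.val (hy j g))⟩
  obtain ⟨l, hl⟩ := (a ⟨⦋n⦌, le_rfl⟩ α).2 (𝟙 ⦋n⦌)
  refine ⟨l, hl.trans ?_⟩
  refine Eq.trans ?_ (hx ⟨⦋n⦌, le_rfl⟩ α).symm
  exact ConcreteCategory.congr_hom (congr_app (K.map_id (op ⦋n⦌)) (op U)) _

variable {f n}
  (h1 : ∀ i : ℕ, i < n → ∀ U, Function.Bijective ((f.app (op ⦋i⦌)).app U))

include h1 in
theorem toSub_bijective (i : ℕ) (hi : i < n) (U : Cᵒᵖ) :
    Function.Bijective (((toSub f n).app (op ⦋i⦌)).app U) := by
  refine ⟨fun a b hab => (h1 i hi U).1 (congrArg Subtype.val hab), fun x => ?_⟩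
  obtain ⟨l, hl⟩ := (h1 i hi U).2 x.1
  exact ⟨l, Subtype.ext hl⟩

theorem toSub_surjective (U : Cᵒᵖ) :
    Function.Surjective (((toSub f n).app (op ⦋n⦌)).app U) := by
  intro x
  obtain ⟨l, hl⟩ := x.2 (𝟙 ⦋n⦌)
  exact ⟨l, Subtype.ext (hl.trans (ConcreteCategory.congr_hom (congr_app (K.map_id (op ⦋n⦌)) U) x.1))⟩

variable [SimplicialObject.IsCoskeletal L n] [SimplicialObject.IsCoskeletal K n]

include h1 in
theorem exists_section (U : C) : ∃ g : ev (sub f n) U ⟶ ev L U,
    g ≫ evMap (toSub f n) U = 𝟙 _ ∧ Nonempty (SSet.Homotopy (𝟙 _) (evMap (toSub f n) U ≫ g)) := by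
  have := ev_coskeletal n L U
  have := sub_coskeletal f n U
  obtain ⟨g, hg, hg', -⟩ := SSet45.exists_section_homotopy (evMap (toSub f n) U)
    (SSet45.rlp_I_of_coskeletal (evMap (toSub f n) U) n (fun i hi => toSub_bijective h1 i hi (op U))
      (toSub_surjective (op U)))
  exact ⟨g, hg, hg'⟩

include h1 in
theorem toSub_app_surjective (k : SimplexCategoryᵒᵖ) (U : Cᵒᵖ) :
    Function.Surjective (((toSub f n).app k).app U) := by
  intro x
  obtain ⟨g, hg, -⟩ := exists_section h1 U.unop
  exact ⟨g.app k x, ConcreteCategory.congr_hom (congr_app hg k) x⟩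

variable (J : GrothendieckTopology C) (h2 : Presheaf.IsLocallySurjective J (f.app (op ⦋n⦌)))

include h2 in
theorem incl_W (k : SimplexCategoryᵒᵖ) : J.W ((incl f n).app k) := by
  rw [GrothendieckTopology.W_iff_isLocallyBijective]
  refine ⟨Presheaf.isLocallyInjective_of_injective _ _ fun U => Subtype.val_injective, ⟨fun {U} x => ?_⟩⟩
  obtain ⟨R, hR, hle⟩ := iInf_mem_of_finite J
    (fun α : ⦋n⦌ ⟶ k.unop => Presheaf.imageSieve (f.app (op ⦋n⦌)) ((K.map α.op).app (op U) x))
    (fun α => Presheaf.imageSieve_mem J _ _)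
  refine J.superset_covering (fun V g hg => ⟨⟨(K.obj k).map g.op x, fun α => ?_⟩, rfl⟩) hR
  obtain ⟨l, hl⟩ := hle α g hg
  exact ⟨l, hl.trans (NatTrans.naturality_apply (K.map α.op) g.op x).symm⟩

include h1 h2 in
theorem locallySurjective (k : SimplexCategoryᵒᵖ) : Presheaf.IsLocallySurjective J (f.app k) := by
  have h := ((J.W_iff_isLocallyBijective _).1 (incl_W J h2 k)).2
  have := Presheaf.isLocallySurjective_of_surjective J ((toSub f n).app k) (toSub_app_surjective h1 k)
  rw [show f.app k = (toSub f n).app k ≫ (incl f n).app k from rfl]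
  infer_instance

/-- Free abelian presheaves. -/
noncomputable abbrev freePre : (Cᵒᵖ ⥤ Type u) ⥤ Cᵒᵖ ⥤ AddCommGrpCat.{u} :=
  (Functor.whiskeringRight Cᵒᵖ (Type u) AddCommGrpCat.{u}).obj AddCommGrpCat.free.{u}

instance : (presheafToSheaf J AddCommGrpCat.{u}).Additive :=
  Functor.additive_of_preserves_binary_products _

omit h1 in
theorem quasiIso_of_isIso_free {S T : SimplicialObject (Cᵒᵖ ⥤ Type u)} (p : S ⟶ T)
    (h : ∀ k, J.W (p.app k)) :
    QuasiIso ((alternatingFaceMapComplex (Sheaf J AddCommGrpCat.{u})).map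
      (Functor.whiskerRight p (freePre ⋙ presheafToSheaf J AddCommGrpCat.{u}))) := by
  have : ∀ k, IsIso ((Functor.whiskerRight p (freePre ⋙ presheafToSheaf J AddCommGrpCat.{u})).app k) :=
    fun k => (J.W_iff _).1 (J.W_of_preservesSheafification AddCommGrpCat.free.{u} (p.app k) (h k))
  have : IsIso (Functor.whiskerRight p (freePre ⋙ presheafToSheaf J AddCommGrpCat.{u})) :=
    NatIso.isIso_of_isIso_app _
  infer_instance

include h1 in
theorem quasiIso_toSub_presheaf :
    QuasiIso ((alternatingFaceMapComplex (Cᵒᵖ ⥤ AddCommGrpCat.{u})).map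
      (Functor.whiskerRight (toSub f n) freePre)) := by
  refine quasiIso_of_evaluation _ fun U => ?_
  let φ := evMap (toSub f n) U.unop
  obtain ⟨g, hg, ⟨H⟩⟩ := exists_section h1 U.unop
  let A := alternatingFaceMapComplex AddCommGrpCat.{u}
  let Fr := (SimplicialObject.whiskering (Type u) AddCommGrpCat.{u}).obj AddCommGrpCat.free.{u}
  have h0 : _root_.Homotopy (A.map (Fr.map φ) ≫ A.map (Fr.map g)) (𝟙 _) :=
    (_root_.Homotopy.ofEq (by rw [← Functor.map_comp, ← Functor.map_comp])).trans
      ((H.toSimplicialObjectHomotopy.whiskerRight AddCommGrpCat.free.{u}).toChainHomotopy.symm.trans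
        (_root_.Homotopy.ofEq (by
          rw [show (((SimplicialObject.whiskering (Type u) AddCommGrpCat.{u}).obj AddCommGrpCat.free.{u}).map (𝟙 (ev L U.unop))) =
            𝟙 _ from CategoryTheory.Functor.map_id _ _, CategoryTheory.Functor.map_id])))
  have h1' : _root_.Homotopy (A.map (Fr.map g) ≫ A.map (Fr.map φ)) (𝟙 _) :=
    _root_.Homotopy.ofEq (by
      rw [← Functor.map_comp, ← Functor.map_comp, hg, CategoryTheory.Functor.map_id,
        CategoryTheory.Functor.map_id])
  have hq : QuasiIso (A.map (Fr.map φ)) := (HomotopyEquiv.mk _ _ h0 h1').quasiIso_hom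
  have e := Functor.congr_hom (map_alternatingFaceMapComplex
    ((evaluation Cᵒᵖ AddCommGrpCat.{u}).obj U)) (Functor.whiskerRight (toSub f n) freePre)
  simp only [Functor.comp_map] at e
  rw [e]
  have : QuasiIso ((alternatingFaceMapComplex AddCommGrpCat.{u}).map
      (((SimplicialObject.whiskering (Cᵒᵖ ⥤ AddCommGrpCat.{u}) AddCommGrpCat.{u}).obj
        ((evaluation Cᵒᵖ AddCommGrpCat.{u}).obj U)).map (Functor.whiskerRight (toSub f n) freePre))) := hq
  infer_instance

include h1 h2 in
theorem quasiIso_free :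
    QuasiIso ((alternatingFaceMapComplex (Sheaf J AddCommGrpCat.{u})).map
      (Functor.whiskerRight f (freePre ⋙ presheafToSheaf J AddCommGrpCat.{u}))) := by
  have q1 := quasiIso_of_isIso_free J (incl f n) (incl_W J h2)
  have q0 := quasiIso_toSub_presheaf h1
  have e := Functor.congr_hom (map_alternatingFaceMapComplex
    (presheafToSheaf J AddCommGrpCat.{u})) (Functor.whiskerRight (toSub f n) freePre)
  simp only [Functor.comp_map] at e
  have q2 : QuasiIso ((alternatingFaceMapComplex (Sheaf J AddCommGrpCat.{u})).map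
      (Functor.whiskerRight (toSub f n) (freePre ⋙ presheafToSheaf J AddCommGrpCat.{u}))) := by
    have : QuasiIso (((presheafToSheaf J AddCommGrpCat.{u}).mapHomologicalComplex _).map
        ((alternatingFaceMapComplex (Cᵒᵖ ⥤ AddCommGrpCat.{u})).map
          (Functor.whiskerRight (toSub f n) freePre))) :=
      HomologicalComplex.quasiIso_map_of_preservesHomology _ _
    rw [e, quasiIso_iff_comp_left, quasiIso_iff_comp_right] at this
    exact this
  rw [← toSub_incl f n, Functor.whiskerRight_comp, Functor.map_comp]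
  infer_instance

end TrivFib

end Groth.Agent.Hyper50
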